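import Cfsg.Agent.Lib.PermSmall.FeitOrbit
import Cfsg.Agent.Lib.Characters.Exceptional
import Cfsg.Agent.Lib.Indicator.Count

/-!
The two-point stabiliser of a Zassenhaus group with abelian Frobenius kernel and odd `d` has order at
least half the number of the other points.
-/

set_option autoImplicit false

noncomputable section

namespace CfsgLib.PermSmall.FeitFrame.Frame

open MulAction Cfsg CfsgLib.Characters CfsgLib.Chars17
open CfsgLib.PermSmall.Zassenhaus (pairStab)
open CfsgLib.PermSmall.FeitDual (fn)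
open scoped ComplexConjugate
open scoped Classical

universe u

variable {G : Type u} {Ω : Type*} [Group G] [MulAction G Ω] {a b : Ω} (T : Frame G a b)
include T

theorem mul_mem_swap {s : G} (hsa : s • a = b) (hsb : s • b = a) (h : T.H) :
    (s * h) • a = b ∧ (s * h) • b = a :=
  ⟨by rw [mul_smul, show (h : G) • a = a from h.2.1, hsa],
    by rw [mul_smul, show (h : G) • b = b from h.2.2, hsb]⟩

theorem swap_sq [Finite G] {s : G} (hsa : s • a = b) (hsb : s • b = a) : s * s = 1 := by
  have hH : s * s ∈ pairStab G a b :=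
    Zassenhaus.mem_pairStab.mpr ⟨by rw [mul_smul, hsa, hsb], by rw [mul_smul, hsb, hsa]⟩
  have hinv := T.inv s hsa hsb _ hH
  rw [show s * (s * s) * s⁻¹ = s * s by group] at hinv
  let x : T.H := ⟨s * s, hH⟩
  have h2 : orderOf x ∣ 2 := orderOf_dvd_of_pow_eq_one
    (Subtype.ext (by rw [Subgroup.coe_pow, pow_two]; exact eq_inv_iff_mul_eq_one.mp hinv))
  have h1 : orderOf x = 1 :=
    Nat.eq_one_of_dvd_coprimes (Nat.coprime_two_left.mpr T.odd) h2 (orderOf_dvd_natCard _)
  exact congrArg Subtype.val (orderOf_eq_one_iff.mp h1)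

theorem le_involutions [Finite G] :
    Nat.card T.F * Nat.card T.H ≤ Nat.card {x : G // orderOf x = 2} := by
  rw [← Nat.card_prod]
  have hmove : ∀ x : T.F × T.H,
      ((x.1 : G) * (T.swap * x.2) * (x.1 : G)⁻¹) • a = (x.1 : G) • b := by
    intro x
    rw [mul_smul, mul_smul, inv_smul_eq_iff.mpr (show (x.1 : G) • a = a from T.F_le x.1.2).symm,
      (T.mul_mem_swap T.swap_a T.swap_b x.2).1]
  have hord : ∀ x : T.F × T.H, orderOf ((x.1 : G) * (T.swap * x.2) * (x.1 : G)⁻¹) = 2 := by
    intro x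
    obtain ⟨e1, e2⟩ := T.mul_mem_swap T.swap_a T.swap_b x.2
    refine orderOf_eq_prime ?_ fun e => ?_
    · rw [conj_pow, pow_two, T.swap_sq e1 e2, mul_one, mul_inv_cancel]
    · have := hmove x
      rw [e, one_smul] at this
      exact T.ne (smul_left_cancel (x.1 : G)
        ((show (x.1 : G) • a = a from T.F_le x.1.2).trans this))
  refine Nat.card_le_card_of_injective
    (fun x : T.F × T.H => (⟨_, hord x⟩ : {x : G // orderOf x = 2})) ?_
  intro x y e
  have e' := congrArg Subtype.val e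
  simp only at e'
  have h1 : x.1 = y.1 := Subtype.ext (Kernel.regular_inj T.ne T.F_le T.regular x.1.2 y.1.2
    (by rw [← hmove, e', hmove]))
  rw [h1, mul_left_inj, mul_right_inj, mul_right_inj] at e'
  exact Prod.ext h1 (Subtype.ext e')

/-- If the translations have exponent two, the two-point stabiliser is transitive. -/
theorem le_of_exponent_two [Finite G] [Fintype Ω] (h2 : ∀ u : T.F, u * u = 1) :
    Fintype.card Ω ≤ Nat.card T.H + 2 := by
  have hwit : ∀ x : {x : Ω // x ≠ a ∧ x ≠ b}, ∃ w : G, w • a = b ∧ w • b = a ∧ w • (x : Ω) = x ∧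
      ∀ y : Ω, w • y = y → y = x := by
    intro x
    obtain ⟨g, hg⟩ := T.transitive (x : Ω)
    have hga : g⁻¹ • a ≠ a := fun e => x.2.1 (by rw [← hg]; nth_rewrite 1 [← e]; rw [smul_inv_smul])
    have hgb : g⁻¹ • b ≠ a := fun e => x.2.2 (by rw [← hg, ← e, smul_inv_smul])
    obtain ⟨u, hu, -⟩ := T.regular (g⁻¹ • a) (g⁻¹ • b) hga hgb
    have hu1 : (u : G) ≠ 1 := fun e => T.ne (by
      rw [e, one_smul] at hu; exact smul_left_cancel g⁻¹ hu)
    have huu : (u : G) * u = 1 := congrArg Subtype.val (h2 u)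
    refine ⟨g * u * g⁻¹, ?_, ?_, ?_, ?_⟩
    · rw [mul_smul, mul_smul, hu, smul_inv_smul]
    · rw [mul_smul, mul_smul, ← hu, ← mul_smul (u : G), huu, one_smul, smul_inv_smul]
    · rw [mul_smul, mul_smul, inv_smul_eq_iff.mpr hg.symm, show (u : G) • a = a from T.F_le u.2, hg]
    · intro y hy
      rw [mul_smul, mul_smul, smul_eq_iff_eq_inv_smul] at hy
      have h := T.fix_only u.2 hu1 hy
      rw [inv_smul_eq_iff, hg] at h
      exact h
  choose w hwa hwb hwx hwu using hwit
  have hmem : ∀ x, T.swap⁻¹ * w x ∈ pairStab G a b := fun x => Zassenhaus.mem_pairStab.mpr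
    ⟨by rw [mul_smul, hwa, inv_smul_eq_iff, T.swap_a], by rw [mul_smul, hwb, inv_smul_eq_iff, T.swap_b]⟩
  have hle := Nat.card_le_card_of_injective (fun x => (⟨_, hmem x⟩ : T.H)) (fun x y e => by
    have e' : w x = w y := mul_left_cancel (congrArg Subtype.val e)
    exact Subtype.ext (hwu y _ (e' ▸ hwx x)))
  have hc : Nat.card {x : Ω // x ≠ a ∧ x ≠ b} = Fintype.card Ω - 2 := by
    rw [Nat.card_eq_fintype_card, Fintype.card_subtype]
    have : (Finset.univ.filter fun x : Ω => x ≠ a ∧ x ≠ b) = Finset.univ \ {a, b} := by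
      ext x; simp
    rw [this, Finset.card_sdiff_of_subset (Finset.subset_univ _), Finset.card_univ,
      Finset.card_pair T.ne]
  rw [hc] at hle
  omega

variable [Fintype G] [Fintype Ω]

theorem mult_inv_of_real {χ : G → ℂ} (hχ : IsCharacter G χ) (hreal : Indicator.IsRealChar χ)
    (l : T.F →* ℂˣ) : T.mult χ l⁻¹ = T.mult χ l := by
  obtain ⟨m, hm⟩ := T.mult_nat hχ l
  have h : T.mult χ l⁻¹ = conj (T.mult χ l) := by
    simp only [mult, classInner, map_mul, map_inv₀, map_natCast, map_sum]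
    congr 1
    refine Finset.sum_congr rfl fun u _ => ?_
    rw [Complex.conj_eq_iff_im.mpr (hreal u), Complex.conj_conj, FeitDual.conj_apply,
      MonoidHom.inv_apply, map_inv, inv_inv]
  rw [h, hm, map_natCast]

omit T in
theorem hom_inv_inv {A : Type*} [Group A] (l : A →* ℂˣ) : l⁻¹⁻¹ = l :=
  MonoidHom.ext fun u => inv_inv _

/-- Orbits of characters of order two. -/
def closedOrb : Finset T.Orb := Finset.univ.filter fun i => (T.rep i)⁻¹ = T.rep i

theorem closed_of_act (hF : IsMulCommutative T.F) {i : T.Orb} {h : T.H}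
    (e : T.act h (T.rep i) = (T.rep i)⁻¹) : (T.rep i)⁻¹ = T.rep i := by
  have e2 : T.act (h * h) (T.rep i) = T.rep i := by
    rw [← T.act_act, e, T.act_inv_hom, e]
    exact hom_inv_inv _
  have hh := (T.eq_one_of_act_eq hF e2).resolve_right (T.rep_ne i)
  have h2 : orderOf h ∣ 2 := orderOf_dvd_of_pow_eq_one (by rw [pow_two]; exact hh)
  have h1 : h = 1 := orderOf_eq_one_iff.mp
    (Nat.eq_one_of_dvd_coprimes (Nat.coprime_two_left.mpr T.odd) h2 (orderOf_dvd_natCard _))
  rw [← e, h1, T.act_one]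

theorem card_closedOrb (hF : IsMulCommutative T.F) :
    T.closedOrb.card + 2 ≤ Nat.card T.Orb ∨ ∀ u : T.F, u * u = 1 := by
  by_cases hall : ∀ i : T.Orb, i ∈ T.closedOrb
  · refine Or.inr fun u => ?_
    by_contra hu
    haveI := hF
    obtain ⟨l, hl⟩ := FeitDual.exists_ne_one hu
    by_cases hl1 : l = 1
    · subst hl1; exact hl rfl
    · obtain ⟨i, h, rfl⟩ := T.exists_rep hF hl1
      apply hl
      have hc : (T.rep i)⁻¹ = T.rep i := (Finset.mem_filter.mp (hall i)).2
      rw [map_mul]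
      show T.act h (T.rep i) u * T.act h (T.rep i) u = 1
      nth_rewrite 1 [← hc]
      rw [T.act_inv_hom, MonoidHom.inv_apply, inv_mul_cancel]
  · left
    simp only [not_forall] at hall
    obtain ⟨i, hi⟩ := hall
    obtain ⟨k, h, hk⟩ := T.exists_rep hF (l := (T.rep i)⁻¹) (fun e => T.rep_ne i ((hom_inv_eq_one _).mp e))
    have hi' : ¬ (T.rep i)⁻¹ = T.rep i := fun e => hi (Finset.mem_filter.mpr ⟨Finset.mem_univ _, e⟩)
    have hki : k ≠ i := fun e => hi' (T.closed_of_act hF (e ▸ hk))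
    have hkc : k ∉ T.closedOrb := fun e => hi' (by
      have hc : (T.rep k)⁻¹ = T.rep k := (Finset.mem_filter.mp e).2
      have := congrArg (fun l => l⁻¹) hk
      simp only [← T.act_inv_hom, hc] at this
      exact hk.symm.trans (this.trans (hom_inv_inv _)))
    have hsub : T.closedOrb ⊆ (Finset.univ.erase i).erase k := fun j hj =>
      Finset.mem_erase.mpr ⟨fun e => hkc (e ▸ hj), Finset.mem_erase.mpr ⟨fun e => hi (e ▸ hj), Finset.mem_univ _⟩⟩
    have hle := Finset.card_le_card hsub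
    rw [Finset.card_erase_of_mem (Finset.mem_erase.mpr ⟨hki, Finset.mem_univ _⟩),
      Finset.card_erase_of_mem (Finset.mem_univ _), Finset.card_univ] at hle
    have h2 : ({i, k} : Finset T.Orb).card ≤ Fintype.card T.Orb := Finset.card_le_univ _
    rw [Finset.card_pair (Ne.symm hki)] at h2
    rw [Nat.card_eq_fintype_card]
    omega

/-- The exceptional characters with their multiplicities. -/
theorem exists_exceptional (hF : IsMulCommutative T.F) (hr : 2 ≤ Nat.card T.Orb) :
    ∃ μ : T.Orb → IrrCharacter G, Function.Injective μ ∧ ∃ ε c : ℤ, (ε = 1 ∨ ε = -1) ∧ 0 ≤ c ∧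
      (∀ j, T.mult (μ j : G → ℂ) 1 = 0 ∧ μ j ∉ T.cat ∧
        (charDegree (μ j : G → ℂ) : ℤ) = (Nat.card T.H : ℤ) * ((Nat.card T.Orb : ℤ) * c + ε) ∧
        ∀ i, T.mult (μ j : G → ℂ) (T.rep i) = ((c + ε * (if i = j then 1 else 0) : ℤ) : ℂ)) ∧
      ∀ χ : IrrCharacter G, χ ∉ T.cat → (∀ j, χ ≠ μ j) → ∃ m : ℕ,
        (charDegree (χ : G → ℂ) : ℤ) = (Nat.card T.H : ℤ) * (Nat.card T.Orb : ℤ) * m := by
  haveI : Nontrivial T.Orb := Finite.one_lt_card_iff_nontrivial.mp (by omega)
  haveI : Nonempty T.Orb := inferInstance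
  let i₀ : T.Orb := Classical.arbitrary _
  obtain ⟨εC, hεC, μ, hμinj, hμ⟩ := CfsgLib.CharExceptional.exceptional_family i₀
    (fun i => T.τ i i₀) (by simp [τ]) (fun i => T.isGeneralizedCharacter_τ i i₀)
    (fun i => T.τ_one i i₀) (fun i hi => by rw [T.inner_τ hF]; simp [hi, Ne.symm hi]; norm_num)
    (fun i j hi hj hij => by rw [T.inner_τ hF]; simp [hi, hij, Ne.symm hj])
  obtain ⟨ε, hε, hεeq⟩ : ∃ ε : ℤ, (ε = 1 ∨ ε = -1) ∧ εC = (ε : ℂ) := by
    rcases hεC with e | e
    · exact ⟨1, Or.inl rfl, by simpa using e⟩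
    · exact ⟨-1, Or.inr rfl, by simpa using e⟩
  subst hεeq
  choose m hm using fun (χ : IrrCharacter G) i => T.mult_nat (irr_isCharacter χ) (T.rep i)
  have hdiff : ∀ (χ : IrrCharacter G) (i : T.Orb), (m χ i : ℤ) - m χ i₀
      = ε * ((if χ = μ i then 1 else 0) - (if χ = μ i₀ then 1 else 0)) := by
    intro χ i
    have h : classInner (χ : G → ℂ) (T.τ i i₀) = T.mult χ (T.rep i) - T.mult χ (T.rep i₀) := by
      rw [τ, Induction.classInner_indFun_right T.F _ (irr_isClassFunction χ), classInner_sub_right]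
      rfl
    rw [hμ i, hm, hm, classInner_smul_right, classInner_sub_right, classInner_irr, classInner_irr,
      map_intCast] at h
    have h' : ((ε * ((if χ = μ i then 1 else 0) - (if χ = μ i₀ then 1 else 0)) : ℤ) : ℂ)
        = (((m χ i : ℤ) - m χ i₀ : ℤ) : ℂ) := by push_cast; exact h
    exact (Int.cast_injective h').symm
  have hε0 : ε ≠ 0 := by rcases hε with rfl | rfl <;> norm_num
  have hnotcat : ∀ j, μ j ∉ T.cat := by
    intro j hj
    obtain ⟨c, hc⟩ := T.const_of_mem_cat hj
    have heq : ∀ i, (m (μ j) i : ℤ) = m (μ j) i₀ := by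
      intro i
      have h1 := T.mult_const hc (T.rep_ne i)
      rw [← T.mult_const hc (T.rep_ne i₀), hm, hm] at h1
      exact_mod_cast h1
    by_cases hj0 : j = i₀
    · subst hj0
      obtain ⟨i, hi⟩ := exists_ne i₀
      have h := hdiff (μ i₀) i
      rw [heq, sub_self, if_neg (fun e => hi (hμinj e).symm), if_pos rfl] at h
      simp at h; omega
    · have h := hdiff (μ j) j
      rw [heq, sub_self, if_pos rfl, if_neg (fun e => hj0 (hμinj e))] at h
      simp at h; omega
  let cz : T.Orb → ℤ := fun j => (m (μ j) i₀ : ℤ) - ε * (if i₀ = j then 1 else 0)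
  have hmcz : ∀ j i, (m (μ j) i : ℤ) = cz j + ε * (if i = j then 1 else 0) := by
    intro j i
    have h := hdiff (μ j) i
    simp only [hμinj.eq_iff] at h
    simp only [cz, eq_comm (a := i), eq_comm (a := i₀)]
    linarith
  have hdeg : ∀ j, (charDegree (μ j : G → ℂ) : ℤ)
      = (Nat.card T.H : ℤ) * ((Nat.card T.Orb : ℤ) * cz j + ε) := by
    intro j
    have h := T.apply_one_eq hF (irr_isClassFunction (μ j))
    rw [T.mult_one_of_notMem (hnotcat j), zero_add, ← cast_irrDegree] at h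
    have h2 : (charDegree (μ j : G → ℂ) : ℤ) = (Nat.card T.H : ℤ) * ∑ i : T.Orb, (m (μ j) i : ℤ) := by
      simp only [hm] at h
      exact_mod_cast h
    rw [h2]
    simp only [hmcz, Finset.sum_add_distrib, Finset.sum_const, Finset.card_univ, nsmul_eq_mul,
      ← Finset.mul_sum, Finset.sum_ite_eq', Finset.mem_univ, if_true, mul_one, Nat.card_eq_fintype_card]
  have hceq : ∀ j, cz j = cz i₀ := by
    intro j
    have h1 := congrFun (hμ j) 1
    rw [T.τ_one, Pi.smul_apply, Pi.sub_apply, smul_eq_mul, ← cast_irrDegree, ← cast_irrDegree] at h1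
    have h2 : ε * ((charDegree (μ j : G → ℂ) : ℤ) - charDegree (μ i₀ : G → ℂ)) = 0 := by
      have := h1.symm
      exact_mod_cast this
    rw [hdeg, hdeg] at h2
    have h3 := (mul_eq_zero.mp h2).resolve_left hε0
    have hd : (0 : ℤ) < Nat.card T.H := by exact_mod_cast Nat.card_pos
    have hr' : (0 : ℤ) < Nat.card T.Orb := by omega
    have h4 : (Nat.card T.H : ℤ) * ((Nat.card T.Orb : ℤ) * (cz j - cz i₀)) = 0 := by linarith
    rcases mul_eq_zero.mp h4 with h | h
    · omega
    · rcases mul_eq_zero.mp h with h | h <;> omega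
  refine ⟨μ, hμinj, ε, cz i₀, hε, ?_, fun j => ⟨T.mult_one_of_notMem (hnotcat j), hnotcat j,
    hceq j ▸ hdeg j, fun i => ?_⟩, ?_⟩
  · obtain ⟨i, hi⟩ := exists_ne i₀
    have h := hmcz i₀ i
    rw [if_neg hi, mul_zero, add_zero] at h
    omega
  · rw [hm]
    have := hmcz j i
    rw [hceq j] at this
    exact_mod_cast this
  · intro χ hχ hne
    have hconst : ∀ i, m χ i = m χ i₀ := by
      intro i
      have h := hdiff χ i
      rw [if_neg (hne i), if_neg (hne i₀)] at h
      simp at h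
      omega
    refine ⟨m χ i₀, ?_⟩
    have h := T.apply_one_eq hF (irr_isClassFunction χ)
    rw [T.mult_one_of_notMem hχ, zero_add, ← cast_irrDegree] at h
    simp only [hm, hconst, Finset.sum_const, Finset.card_univ, nsmul_eq_mul] at h
    rw [mul_assoc, Nat.card_eq_fintype_card (α := T.Orb)]
    exact_mod_cast h

omit T in
/-- The numerical consequence. -/
theorem arith {r D c ε R S S2 : ℤ} (hr : 3 ≤ r) (hε : ε = 1 ∨ ε = -1) (hc : 0 ≤ c)
    (hpos : 0 < r * c + ε) (hR : R + 2 ≤ r) (hS : S ≤ S2)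
    (hA : 2 * ε * c + r * c ^ 2 + S2 = D) (hB : r * D ≤ R * (r * c + ε) + r * S) :
    c = 0 ∧ ε = 1 := by
  have h1 : r * (2 * ε * c + r * c ^ 2) ≤ R * (r * c + ε) := by nlinarith
  have h2 : R * (r * c + ε) ≤ (r - 2) * (r * c + ε) :=
    mul_le_mul_of_nonneg_right (by omega) hpos.le
  rcases hε with rfl | rfl
  · refine ⟨?_, rfl⟩
    by_contra hc0
    have hc1 : 1 ≤ c := by omega
    have h0 : 0 ≤ r * c * (c - 1) := mul_nonneg (mul_nonneg (by omega) hc) (by omega)
    have h3 : r * (r * c + 1) ≤ r * (2 * 1 * c + r * c ^ 2) :=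
      mul_le_mul_of_nonneg_left (by nlinarith) (by omega)
    nlinarith
  · exfalso
    have hc1 : 1 ≤ c := by
      by_contra h
      have : c = 0 := by omega
      subst this; norm_num at hpos
    have h4 : r - 2 ≤ 2 * (-1) * c + r * c ^ 2 := by nlinarith
    have h5 : r * c - 1 ≤ r * (2 * (-1) * c + r * c ^ 2) := by
      rcases eq_or_lt_of_le hc1 with rfl | hc2
      · nlinarith
      · nlinarith
    rcases eq_or_lt_of_le hc1 with rfl | hc2
    · nlinarith
    · nlinarith

set_option maxHeartbeats 1000000 in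
/-- With at least three orbits some irreducible character restricts to the translations as the sum
of one orbit. -/
theorem exists_small (hF : IsMulCommutative T.F) (hr : 3 ≤ Nat.card T.Orb) :
    ∃ (μ : IrrCharacter G) (i₀ : T.Orb), (μ : G → ℂ) 1 = (Nat.card T.H : ℂ) ∧
      T.mult (μ : G → ℂ) 1 = 0 ∧ ∀ i, T.mult (μ : G → ℂ) (T.rep i) = if i = i₀ then 1 else 0 := by
  obtain ⟨μ, hμinj, ε, c, hε, hc, hμ, hrest⟩ := T.exists_exceptional hF (by omega)
  haveI : Nonempty T.Orb := (Nat.card_pos_iff.mp (by omega)).1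
  set d : ℕ := Nat.card T.H with hd
  set r : ℕ := Nat.card T.Orb with hr'
  set n : ℕ := Nat.card T.F with hn
  have hnr : r * d + 1 = n := T.card_orb hF
  have hd1 : 0 < d := Nat.card_pos
  have hΩ : Fintype.card Ω = n + 1 := by
    have := T.two_le_card; rw [hn, T.card_F]; omega
  have hΩ3 : 3 ≤ Fintype.card Ω := by nlinarith
  set D : ℕ := T.thSet.card with hD
  have hdD : 2 * D + 1 = d := T.two_mul_card_thSet
  set E : Finset (IrrCharacter G) := Finset.univ.image μ with hE
  have hdisj : Disjoint T.cat E := Finset.disjoint_left.mpr fun χ hχ hχE => by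
    obtain ⟨j, -, rfl⟩ := Finset.mem_image.mp hχE
    exact (hμ j).2.1 hχ
  set C : Finset (IrrCharacter G) := (T.cat ∪ E)ᶜ with hC
  have hCm : ∀ χ ∈ C, ∃ m : ℕ, (charDegree (χ : G → ℂ) : ℤ) = (d : ℤ) * r * m := fun χ hχ => by
    rw [hC, Finset.mem_compl, Finset.mem_union, not_or] at hχ
    exact hrest χ hχ.1 fun j e => hχ.2 (e ▸ Finset.mem_image_of_mem μ (Finset.mem_univ j))
  choose! m hm using hCm
  have hsplit : ∀ f : IrrCharacter G → ℤ, ∑ χ, f χ = f (principalIrr G) + f T.stIrr
      + ∑ χ ∈ T.thSet, f χ + ∑ j, f (μ j) + ∑ χ ∈ C, f χ := by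
    intro f
    rw [← Finset.sum_add_sum_compl (T.cat ∪ E), Finset.sum_union hdisj, T.sum_cat hΩ3, hE,
      Finset.sum_image fun x _ y _ e => hμinj e]
  have hpr : charDegree (principalIrr G : G → ℂ) = 1 := Indicator.charDegree_one'
  -- squares of degrees
  have hsq : (Nat.card G : ℤ) = ∑ χ : IrrCharacter G, (charDegree (χ : G → ℂ) : ℤ) ^ 2 := by
    rw [← natSum_sq_degrees]; push_cast; rfl
  have hG : (Nat.card G : ℤ) = (n * d : ℕ) + n * (n * d : ℕ) := by
    rw [T.card_G, T.card_M]; push_cast; rfl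
  have hs1 : ∑ χ ∈ T.thSet, (charDegree (χ : G → ℂ) : ℤ) ^ 2 = (D : ℤ) * ((n : ℤ) + 1) ^ 2 := by
    rw [Finset.sum_congr rfl (g := fun _ => ((n : ℤ) + 1) ^ 2)
      (fun χ hχ => by rw [T.charDegree_thSet hχ, hΩ]; push_cast; rfl), Finset.sum_const, nsmul_eq_mul]
  have hs2 : ∑ j, (charDegree (μ j : G → ℂ) : ℤ) ^ 2 = (r : ℤ) * ((d : ℤ) * (r * c + ε)) ^ 2 := by
    rw [Finset.sum_congr rfl (g := fun _ => ((d : ℤ) * (r * c + ε)) ^ 2)
      (fun j _ => by rw [(hμ j).2.2.1]), Finset.sum_const, nsmul_eq_mul, Finset.card_univ,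
      ← Nat.card_eq_fintype_card]
  have hs3 : ∑ χ ∈ C, (charDegree (χ : G → ℂ) : ℤ) ^ 2
      = (d : ℤ) ^ 2 * (r : ℤ) ^ 2 * ∑ χ ∈ C, (m χ : ℤ) ^ 2 := by
    rw [Finset.mul_sum]
    exact Finset.sum_congr rfl fun χ hχ => by rw [hm χ hχ, mul_pow, mul_pow]
  rw [hsplit, hpr, T.charDegree_st, hs1, hs2, hs3, hG] at hsq
  -- involutions
  obtain ⟨e, he, hcount⟩ := Indicator.involution_count (G := G) _ rfl
  have hsign : ∀ χ, e χ ≤ 1 ∧ (e χ ≠ 0 → Indicator.IsRealChar (χ : G → ℂ)) := fun χ => by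
    rcases (he χ).2 with ⟨h, hreal⟩ | ⟨h, -⟩
    · exact ⟨by omega, fun _ => hreal⟩
    · exact ⟨by omega, fun h' => absurd h h'⟩
  have hterm : ∀ χ, e χ * (charDegree (χ : G → ℂ) : ℤ) ≤ charDegree (χ : G → ℂ) := fun χ => by
    nlinarith [(hsign χ).1, Int.natCast_nonneg (charDegree (χ : G → ℂ))]
  have hpos : 0 < (r : ℤ) * c + ε := by
    have h1 := (hμ (Classical.arbitrary _)).2.2.1
    have h2 : (0 : ℤ) < charDegree ((μ (Classical.arbitrary _)) : G → ℂ) := by
      exact_mod_cast irrDegree_pos _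
    rw [h1] at h2
    exact pos_of_mul_pos_right h2 (by positivity)
  set R : Finset T.Orb := Finset.univ.filter fun j => Indicator.IsRealChar (μ j : G → ℂ) with hR
  have hRsub : R ⊆ T.closedOrb := by
    intro j hj
    have hreal := (Finset.mem_filter.mp hj).2
    obtain ⟨k, h, hk⟩ := T.exists_rep hF (l := (T.rep j)⁻¹)
      (fun e => T.rep_ne j ((hom_inv_eq_one _).mp e))
    have h1 := T.mult_inv_of_real (irr_isCharacter (μ j)) hreal (T.rep j)
    rw [← hk, T.mult_act (irr_isClassFunction _), (hμ j).2.2.2, (hμ j).2.2.2, Int.cast_inj,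
      if_pos rfl] at h1
    have hkj : k = j := by
      by_contra hne
      rw [if_neg hne] at h1
      rcases hε with rfl | rfl <;> omega
    subst hkj
    exact Finset.mem_filter.mpr ⟨Finset.mem_univ _, T.closed_of_act hF hk⟩
  have hEsum : ∑ j, e (μ j) * (charDegree (μ j : G → ℂ) : ℤ) ≤ (R.card : ℤ) * ((d : ℤ) * (r * c + ε)) := by
    rw [← nsmul_eq_mul, ← Finset.sum_const, hR, Finset.sum_filter]
    refine Finset.sum_le_sum fun j _ => ?_
    split_ifs with hreal
    · exact (hterm _).trans_eq (hμ j).2.2.1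
    · have : e (μ j) = 0 := by
        by_contra h
        exact hreal ((hsign _).2 h)
      rw [this, zero_mul]
  have hCsum : ∑ χ ∈ C, e χ * (charDegree (χ : G → ℂ) : ℤ) ≤ (d : ℤ) * r * ∑ χ ∈ C, (m χ : ℤ) := by
    rw [Finset.mul_sum]
    exact Finset.sum_le_sum fun χ hχ => (hterm χ).trans_eq (hm χ hχ)
  have hThsum : ∑ χ ∈ T.thSet, e χ * (charDegree (χ : G → ℂ) : ℤ) ≤ (D : ℤ) * ((n : ℤ) + 1) := by
    refine (Finset.sum_le_sum fun χ _ => hterm χ).trans_eq ?_
    rw [Finset.sum_congr rfl (fun χ hχ => by rw [T.charDegree_thSet hχ, hΩ]), Finset.sum_const,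
      nsmul_eq_mul]
    push_cast; rfl
  have ht : ((n * d : ℕ) : ℤ) ≤ (Nat.card {x : G // orderOf x = 2} : ℤ) := by
    exact_mod_cast T.le_involutions
  have hprterm := hterm (principalIrr G)
  have hstterm := hterm T.stIrr
  rw [hpr] at hprterm
  rw [T.charDegree_st] at hstterm
  rw [hsplit, hpr, T.charDegree_st] at hcount
  push_cast at hcount hprterm ht hsq
  have hB : ((n : ℤ) * d) - n - (D : ℤ) * ((n : ℤ) + 1)
      ≤ (R.card : ℤ) * ((d : ℤ) * (r * c + ε)) + (d : ℤ) * r * ∑ χ ∈ C, (m χ : ℤ) := by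
    linarith only [hcount, hprterm, hstterm, hThsum, hEsum, hCsum, ht]
  set S : ℤ := ∑ χ ∈ C, (m χ : ℤ)
  set S2 : ℤ := ∑ χ ∈ C, (m χ : ℤ) ^ 2
  have hn' : (n : ℤ) = r * d + 1 := by exact_mod_cast hnr.symm
  have hd' : (d : ℤ) = 2 * D + 1 := by exact_mod_cast hdD.symm
  have hd0 : (0 : ℤ) < d := by exact_mod_cast hd1
  have hr0 : (3 : ℤ) ≤ r := by exact_mod_cast hr
  have hεsq : ε ^ 2 = 1 := by rcases hε with rfl | rfl <;> norm_num
  have hA : 2 * ε * c + r * c ^ 2 + S2 = D := by
    refine mul_left_cancel₀ (a := (r : ℤ) ^ 2 * (d : ℤ) ^ 2) (by positivity) ?_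
    rw [hn'] at hsq
    rw [hd'] at hsq ⊢
    linear_combination (-1 : ℤ) * hsq - ((r : ℤ) * (2 * D + 1) ^ 2) * hεsq
  have hB' : (r : ℤ) * D ≤ (R.card : ℤ) * (r * c + ε) + r * S := by
    have e1 : ((n : ℤ) * d) - n - (D : ℤ) * ((n : ℤ) + 1) = d * (r * D) := by rw [hn', hd']; ring
    rw [e1] at hB
    refine le_of_mul_le_mul_left ?_ hd0
    linarith
  have hS : S ≤ S2 := Finset.sum_le_sum fun χ _ => by
    rcases Nat.eq_zero_or_pos (m χ) with h | h
    · simp [h]
    · have : (1 : ℤ) ≤ m χ := by exact_mod_cast h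
      nlinarith
  rcases T.card_closedOrb hF with hcl | hexp
  · have hRle : (R.card : ℤ) + 2 ≤ r := by
      have := Finset.card_le_card hRsub
      omega
    obtain ⟨rfl, rfl⟩ := arith hr0 hε hc hpos hRle hS hA hB'
    refine ⟨μ (Classical.arbitrary _), Classical.arbitrary _, ?_, (hμ _).1, fun i => ?_⟩
    · have h := (hμ (Classical.arbitrary T.Orb)).2.2.1
      rw [mul_zero, zero_add, mul_one] at h
      rw [← cast_irrDegree]
      exact_mod_cast h
    · rw [(hμ _).2.2.2]
      split_ifs <;> simp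
  · exfalso
    have := T.le_of_exponent_two hexp
    rw [hΩ, ← hnr, ← hd] at this
    nlinarith

/-- A character with vanishing multiplicity of the trivial character vanishes off the
translations. -/
theorem eq_zero_off (hF : IsMulCommutative T.F) {χ : G → ℂ} (hχ : IsCharacter G χ)
    (h1 : T.mult χ 1 = 0) {x : T.M} (hx : (x : G) ∉ T.F) : χ x = 0 := by
  set K : Subgroup T.M := T.F.subgroupOf T.M with hK
  haveI : K.Normal := ⟨fun k hk g => T.F_norm g g.2 _ hk⟩
  have hfree : ∀ g ∉ K, ∀ k ∈ K, k * g = g * k → k = 1 := by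
    intro g hg k hk hcomm
    have hp : T.proj g ≠ 1 := fun e => hg (T.mem_F_of_proj e)
    have hfix : (T.proj g : G) * k * (T.proj g : G)⁻¹ = k := by
      have hc : (T.tr g : G)⁻¹ * k * (T.tr g : G) = k := by
        have e : (k : G) * T.tr g = T.tr g * k :=
          congrArg Subtype.val (hF.is_comm.comm ⟨k, hk⟩ (T.tr g))
        rw [mul_assoc, e, inv_mul_cancel_left]
      have hcomm' : (k : G) * g = g * k := congrArg Subtype.val hcomm
      rw [T.proj_coe]
      calc (T.tr g : G)⁻¹ * g * k * ((T.tr g : G)⁻¹ * g)⁻¹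
          = (T.tr g : G)⁻¹ * (g * k) * (g : G)⁻¹ * T.tr g := by group
        _ = (T.tr g : G)⁻¹ * k * T.tr g := by rw [← hcomm']; group
        _ = k := hc
    exact Subtype.ext (congrArg (fun w : T.F => (w : G)) (T.fixed_translation hp (u := ⟨k, hk⟩) hfix))
  set φ : T.M → ℂ := fun m => χ m with hφ
  have hφc : IsCharacter T.M φ := NormalRes.isCharacter_res T.M hχ
  have hexp := classFunction_eq_sum (isClassFunction_of_isCharacter hφc)
  choose c hc using fun η : IrrCharacter T.M => classInner_char_nat hφc (irr_isCharacter η)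
  have hsum0 : ∑ k : K, φ k = 0 := by
    have h : ∑ u : T.F, χ u = 0 := by
      have := h1
      simp only [mult, classInner, fn, MonoidHom.one_apply, Units.val_one, map_one, mul_one,
        mul_eq_zero, inv_eq_zero, Nat.cast_eq_zero] at this
      exact this.resolve_left Nat.card_pos.ne'
    rw [← h]
    exact Fintype.sum_equiv (Subgroup.subgroupOfEquivOfLe T.F_le).toEquiv _ _ fun k => rfl
  have hzero : ∀ η : IrrCharacter T.M, ¬ FrobKernelChar.Relevant K (η : T.M → ℂ) → c η = 0 := by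
    have hall : ∑ η : IrrCharacter T.M, (c η : ℂ) *
        (if FrobKernelChar.Relevant K (η : T.M → ℂ) then 0
          else (Nat.card K : ℂ) * (η : T.M → ℂ) 1) = 0 := by
      refine Eq.trans ?_ hsum0
      simp only [fun k : K => congrFun hexp (k : T.M), Finset.sum_apply, Pi.smul_apply, smul_eq_mul, hc]
      rw [Finset.sum_comm]
      refine Finset.sum_congr rfl fun η _ => ?_
      rw [← Finset.mul_sum]
      congr 1
      split_ifs with hrel
      · exact (FrobKernelChar.sum_eq_zero η.2 hrel).symm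
      · rw [Finset.sum_congr rfl (g := fun _ => (η : T.M → ℂ) 1)
          (fun k _ => FrobKernelChar.eq_of_not_relevant hrel k.2), Finset.sum_const, Finset.card_univ,
          nsmul_eq_mul, Nat.card_eq_fintype_card]
    have hall' : ∑ η : IrrCharacter T.M, c η *
        (if FrobKernelChar.Relevant K (η : T.M → ℂ) then 0
          else Nat.card K * charDegree (η : T.M → ℂ)) = 0 := by
      simp only [← cast_irrDegree] at hall
      exact_mod_cast hall
    intro η hη
    have h := Finset.sum_eq_zero_iff.mp hall' η (Finset.mem_univ _)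
    rw [if_neg hη, mul_eq_zero, mul_eq_zero] at h
    rcases h with h | h | h
    · exact h
    · exact absurd h Nat.card_pos.ne'
    · exact absurd h (irrDegree_pos η).ne'
  show φ x = 0
  rw [hexp, Finset.sum_apply]
  refine Finset.sum_eq_zero fun η _ => ?_
  rw [Pi.smul_apply, smul_eq_mul, hc]
  by_cases hrel : FrobKernelChar.Relevant K (η : T.M → ℂ)
  · rw [FrobKernelChar.vanish_off hfree η.2 hrel hx, mul_zero]
  · rw [hzero η hrel, Nat.cast_zero, zero_mul]

/-- The two-point stabiliser has order at least half the number of the other points. -/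
theorem card_le (hF : IsMulCommutative T.F) (hd : 1 < Nat.card T.H) :
    Fintype.card Ω - 2 ≤ 2 * Nat.card T.H := by
  haveI := hF
  by_contra hcon
  have horb := T.card_orb hF
  have hΩ := T.two_le_card
  rw [T.card_F] at horb
  have hr : 3 ≤ Nat.card T.Orb := by
    by_contra hlt
    have : Nat.card T.Orb * Nat.card T.H ≤ 2 * Nat.card T.H := Nat.mul_le_mul_right _ (by omega)
    omega
  obtain ⟨μ, i₀, hμ1, hμ0, hμi⟩ := T.exists_small hF hr
  set φ : G → ℂ := fun g => (μ : G → ℂ) g * conj ((μ : G → ℂ) g) with hφ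
  have hφc : IsCharacter G φ := isCharacter_mul (irr_isCharacter μ) (isCharacter_conj (irr_isCharacter μ))
  choose c hc using fun χ : IrrCharacter G => classInner_char_nat hφc (irr_isCharacter χ)
  -- the inner product with the induced characters is one
  have hnorm : classInner (fun u : T.F => (μ : G → ℂ) u) (fun u : T.F => (μ : G → ℂ) u)
      = (Nat.card T.H : ℂ) := by
    rw [← FeitDual.sum_inner_mul_conj, ← Finset.add_sum_erase _ _ (Finset.mem_univ (1 : T.F →* ℂˣ))]
    have h0 : classInner (fun u : T.F => (μ : G → ℂ) u) (fn (1 : T.F →* ℂˣ)) = 0 := hμ0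
    rw [h0, zero_mul, zero_add, Finset.sum_subtype (Finset.univ.erase (1 : T.F →* ℂˣ))
      (p := fun l => l ≠ 1) (fun l => by simp),
      ← Fintype.sum_equiv (T.orbitEquiv hF)
        (fun x => T.mult (μ : G → ℂ) (T.act x.2 (T.rep x.1)) *
          conj (T.mult (μ : G → ℂ) (T.act x.2 (T.rep x.1)))) _ (fun x => rfl),
      Fintype.sum_prod_type]
    simp [T.mult_act (irr_isClassFunction μ), hμi, Nat.card_eq_fintype_card]
  have hone : ∀ l : T.H →* ℂˣ, classInner φ (T.θ l) = 1 := by
    intro l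
    rw [θ, Induction.classInner_indFun_right _ _ (isClassFunction_of_isCharacter hφc), classInner]
    rw [← Finset.sum_subset (s₁ := (Finset.univ : Finset T.F).map
        ⟨fun u : T.F => (⟨(u : G), T.F_le u.2⟩ : T.M), by intro u v e; exact Subtype.ext (congrArg (fun m : T.M => (m : G)) e)⟩)
      (Finset.subset_univ _) ?_, Finset.sum_map]
    · have e : ∀ u : T.F, φ u * conj (T.lift l ⟨u, T.F_le u.2⟩)
          = (μ : G → ℂ) u * conj ((μ : G → ℂ) u) := by
        intro u
        rw [lift, T.proj_F (m := ⟨u, T.F_le u.2⟩) u.2]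
        simp [hφ]
      refine Eq.trans (congrArg _ (Finset.sum_congr rfl fun u _ => e u)) ?_
      have hn0 : (Nat.card T.F : ℂ) ≠ 0 := Nat.cast_ne_zero.mpr Nat.card_pos.ne'
      have hd0 : (Nat.card T.H : ℂ) ≠ 0 := Nat.cast_ne_zero.mpr Nat.card_pos.ne'
      have h := hnorm
      unfold classInner at h
      rw [inv_mul_eq_iff_eq_mul₀ hn0] at h
      rw [T.card_M, h]
      push_cast
      field_simp
    · intro m _ hm
      have hmF : (m : G) ∉ T.F := fun h => hm (Finset.mem_map.mpr ⟨⟨m, h⟩, Finset.mem_univ _, rfl⟩)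
      rw [hφ]
      simp only
      rw [T.eq_zero_off hF (irr_isCharacter μ) hμ0 hmF, zero_mul, zero_mul]
  -- compare degrees
  have hd2 : (Nat.card T.H) ^ 2 = ∑ χ : IrrCharacter G, c χ * charDegree (χ : G → ℂ) := by
    have h := congrFun (classFunction_eq_sum (isClassFunction_of_isCharacter hφc)) 1
    simp only [Finset.sum_apply, Pi.smul_apply, smul_eq_mul, hc, ← cast_irrDegree] at h
    simp only [hφ, hμ1, map_natCast] at h
    rw [pow_two]
    exact_mod_cast h
  have hctheta : ∀ χ ∈ T.thSet, c χ = 1 := by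
    intro χ hχ
    obtain ⟨l, -, rfl⟩ := Finset.mem_image.mp hχ
    have := (hc (T.θIrr l)).symm.trans (hone l.1)
    exact_mod_cast this
  have hcpr : c (principalIrr G) = 1 := by
    have h1 := hc (principalIrr G)
    have h : classInner φ ((principalIrr G : IrrCharacter G) : G → ℂ) = 1 := by
      rw [← classInner_irr_self μ.2]
      simp only [classInner, hφ, principalIrr, map_one, mul_one]
    rw [h] at h1
    exact_mod_cast h1.symm
  have hnot : principalIrr G ∉ T.thSet := fun h => by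
    have := T.charDegree_thSet h
    rw [Indicator.charDegree_one'] at this
    omega
  have hle : ∑ χ ∈ insert (principalIrr G) T.thSet, c χ * charDegree (χ : G → ℂ)
      ≤ (Nat.card T.H) ^ 2 := by
    rw [hd2]; exact Finset.sum_le_sum_of_subset (Finset.subset_univ _)
  rw [Finset.sum_insert hnot, hcpr, Indicator.charDegree_one', one_mul,
    Finset.sum_congr rfl (fun χ hχ => by rw [hctheta χ hχ, T.charDegree_thSet hχ, one_mul]),
    Finset.sum_const, smul_eq_mul] at hle
  have hD := T.two_mul_card_thSet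
  have hbig : 2 * Nat.card T.H + 3 ≤ Fintype.card Ω := by omega
  have : T.thSet.card * (2 * Nat.card T.H + 3) ≤ T.thSet.card * Fintype.card Ω :=
    Nat.mul_le_mul_left _ hbig
  rw [← hD] at hle this hd
  nlinarith

end CfsgLib.PermSmall.FeitFrame.Frame
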