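import Mathlib
import Cfsg.Prelude.Def_Characters
import Cfsg.Agent.Lib.Characters.Basic
import Cfsg.Agent.Lib.Characters.Decomp

/-!
Linear characters of a finite abelian group: orthogonality and expansions.
-/

set_option autoImplicit false

noncomputable section

namespace CfsgLib.PermSmall.FeitDual

open Cfsg CfsgLib.Characters
open scoped ComplexConjugate
open scoped Classical

variable {A : Type*} [Group A] [Finite A]

instance instFintypeDual : Fintype (A →* ℂˣ) := by
  haveI : Finite (A →* ℂˣ) := by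
    have h : ∀ l : A →* ℂˣ, ∀ a, (l a : ℂˣ) ∈ rootsOfUnity (Nat.card A) ℂ := fun l a => by
      rw [mem_rootsOfUnity, ← map_pow, pow_card_eq_one', map_one]
    haveI : NeZero (Nat.card A) := ⟨Nat.card_pos.ne'⟩
    exact Finite.of_injective (fun l => fun a => (⟨l a, h l a⟩ : rootsOfUnity (Nat.card A) ℂ))
      fun l l' e => MonoidHom.ext fun a => congrArg Subtype.val (congrFun e a)
  exact Fintype.ofFinite _

/-- A linear character as a function. -/
abbrev fn (l : A →* ℂˣ) : A → ℂ := fun a => (l a : ℂ)

theorem isCharacter_fn (l : A →* ℂˣ) : IsCharacter A (fn l) :=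
  isCharacter_of_irr (isIrrCharacter_of_hom l)

theorem fn_injective : Function.Injective (fn (A := A)) := fun l l' e =>
  MonoidHom.ext fun a => Units.ext (congrFun e a)

theorem conj_apply (l : A →* ℂˣ) (a : A) : conj (l a : ℂ) = (l a⁻¹ : ℂ) :=
  (char_apply_inv (isCharacter_fn l) a).symm

theorem sum_apply [Fintype A] (l : A →* ℂˣ) :
    ∑ a : A, (l a : ℂ) = if l = 1 then (Nat.card A : ℂ) else 0 := by
  have h := sum_hom_units ((Units.coeHom ℂ).comp l)
  have e : (Units.coeHom ℂ).comp l = 1 ↔ l = 1 := by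
    refine ⟨fun h => MonoidHom.ext fun a => Units.ext (DFunLike.congr_fun h a), fun h => ?_⟩
    subst h; rfl
  simp only [e, MonoidHom.coe_comp, Function.comp_apply, Units.coeHom_apply] at h
  rw [h, Nat.card_eq_fintype_card]
  split_ifs <;> simp

theorem inner_eq [Fintype A] (l l' : A →* ℂˣ) :
    classInner (fn l) (fn l') = if l = l' then 1 else 0 := by
  split_ifs with h
  · subst h; exact classInner_irr_self (isIrrCharacter_of_hom l)
  · exact classInner_irr_ne (isIrrCharacter_of_hom l) (isIrrCharacter_of_hom l')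
      fun e => h (fn_injective e)

open scoped IsMulCommutative in
theorem card_dual [IsMulCommutative A] : Nat.card (A →* ℂˣ) = Nat.card A := by
  haveI : NeZero (Monoid.exponent A) := ⟨Monoid.exponent_ne_zero_of_finite⟩
  exact CommGroup.card_monoidHom_of_hasEnoughRootsOfUnity A ℂ

open scoped IsMulCommutative in
theorem exists_ne_one [IsMulCommutative A] {a : A} (ha : a ≠ 1) : ∃ l : A →* ℂˣ, l a ≠ 1 := by
  haveI : NeZero (Monoid.exponent A) := ⟨Monoid.exponent_ne_zero_of_finite⟩
  exact CommGroup.exists_apply_ne_one_of_hasEnoughRootsOfUnity A ℂ ha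

theorem sum_dual [IsMulCommutative A] (a : A) :
    ∑ l : A →* ℂˣ, (l a : ℂ) = if a = 1 then (Nat.card A : ℂ) else 0 := by
  split_ifs with ha
  · subst ha
    simp [← card_dual (A := A), Nat.card_eq_fintype_card]
  · obtain ⟨k, hk⟩ := exists_ne_one ha
    letI : CommGroup (A →* ℂˣ) := inferInstance
    have h : (k a : ℂ) * ∑ l : A →* ℂˣ, (l a : ℂ) = ∑ l : A →* ℂˣ, (l a : ℂ) := by
      rw [Finset.mul_sum]
      exact Fintype.sum_equiv (Equiv.mulLeft k) _ _ fun l => by simp
    refine (mul_eq_zero.mp (show ((k a : ℂ) - 1) * _ = 0 by rw [sub_mul, h, one_mul, sub_self])).resolve_left ?_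
    exact fun e => hk (Units.ext (by simpa using sub_eq_zero.mp e))

/-- The value at the identity is the sum of the coefficients at the linear characters. -/
theorem sum_inner [Fintype A] [IsMulCommutative A] (φ : A → ℂ) :
    ∑ l : A →* ℂˣ, classInner φ (fn l) = φ 1 := by
  simp only [classInner, ← Finset.mul_sum]
  rw [Finset.sum_comm]
  simp only [← Finset.mul_sum, conj_apply, sum_dual, inv_eq_one, mul_ite, mul_zero,
    Finset.sum_ite_eq', Finset.mem_univ, if_true]
  have : (Nat.card A : ℂ) ≠ 0 := Nat.cast_ne_zero.mpr Nat.card_pos.ne'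
  field_simp

/-- Parseval. -/
theorem sum_inner_mul_conj [Fintype A] [IsMulCommutative A] (φ : A → ℂ) :
    ∑ l : A →* ℂˣ, classInner φ (fn l) * conj (classInner φ (fn l)) = classInner φ φ := by
  have key : ∀ a, φ a = ∑ l : A →* ℂˣ, classInner φ (fn l) * (l a : ℂ) := by
    intro a
    simp only [classInner, fn, mul_assoc, ← Finset.mul_sum, Finset.sum_mul]
    rw [Finset.sum_comm]
    have e : ∀ b : A, ∑ l : A →* ℂˣ, φ b * (conj (l b : ℂ) * (l a : ℂ))
        = φ b * (if b⁻¹ * a = 1 then (Nat.card A : ℂ) else 0) := by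
      intro b
      rw [← sum_dual, Finset.mul_sum]
      exact Finset.sum_congr rfl fun l _ => by rw [conj_apply, map_mul, Units.val_mul]
    simp only [e, inv_mul_eq_one, mul_ite, mul_zero, Finset.sum_ite_eq', Finset.mem_univ, if_true]
    have : (Nat.card A : ℂ) ≠ 0 := Nat.cast_ne_zero.mpr Nat.card_pos.ne'
    field_simp
  have hφ : φ = ∑ l : A →* ℂˣ, classInner φ (fn l) • fn l := by
    ext a
    simp only [Finset.sum_apply, Pi.smul_apply, smul_eq_mul]
    exact key a
  conv_rhs => rw [hφ, classInner_sum_left]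
  refine Finset.sum_congr rfl fun l _ => ?_
  rw [classInner_smul_left, ← hφ, classInner_conj_symm φ]

end CfsgLib.PermSmall.FeitDual
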