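import Cfsg.Agent.Lib.PermSmall.Centraliser
import Cfsg.Agent.Lib.PermGroup.PermModule
import Cfsg.Agent.Lib.Characters.PermTwo
import Mathlib.RingTheory.IntegralClosure.Algebra.Basic

/-!
The centraliser algebra of a permutation representation over the complex numbers, orbital
operators and subdegrees.
-/

set_option autoImplicit false

noncomputable section

namespace CfsgLib.PermSmall.PermCentraliser

open Cfsg CfsgLib.Characters CfsgLib.PermSmall.Centraliser MulAction
open scoped ComplexConjugate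
open scoped Classical

universe u v

variable {G : Type u} [Group G] {Ω : Type v} [MulAction G Ω]

/-- The permutation character. -/
abbrev permChar (G : Type u) [Group G] (Ω : Type v) [MulAction G Ω] : G → ℂ :=
  fun g => (Nat.card (fixedBy Ω g) : ℂ)

variable [Fintype Ω]

/-- Matrix entries. -/
def ent (A : Module.End ℂ (Ω → ℂ)) (x y : Ω) : ℂ := A (Pi.single y 1) x

theorem apply_eq_sum (A : Module.End ℂ (Ω → ℂ)) (v : Ω → ℂ) (x : Ω) :
    A v x = ∑ y, ent A x y * v y := by
  conv_lhs => rw [pi_eq_sum_univ v, map_sum]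
  rw [Finset.sum_apply]
  refine Finset.sum_congr rfl fun y _ => ?_
  rw [map_smul, Pi.smul_apply, smul_eq_mul, mul_comm, ent]
  rw [show (fun j => if y = j then (1 : ℂ) else 0) = Pi.single y 1 from
    funext fun z => by simp [Pi.single_apply, eq_comm]]

theorem ext_ent {A B : Module.End ℂ (Ω → ℂ)} (h : ∀ x y, ent A x y = ent B x y) : A = B :=
  LinearMap.ext fun v => funext fun x => by simp only [apply_eq_sum, h]

theorem ent_mul (A B : Module.End ℂ (Ω → ℂ)) (x z : Ω) :
    ent (A * B) x z = ∑ y, ent A x y * ent B y z := apply_eq_sum A _ x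

theorem trace_eq_sum (A : Module.End ℂ (Ω → ℂ)) :
    LinearMap.trace ℂ (Ω → ℂ) A = ∑ x, ent A x x := by
  rw [LinearMap.trace_eq_matrix_trace ℂ (Pi.basisFun ℂ Ω), Matrix.trace]
  refine Finset.sum_congr rfl fun x _ => ?_
  simp [LinearMap.toMatrix_apply, ent]

theorem character_permRep (g : G) :
    (permRep ℂ G Ω).character g = permChar G Ω g := by
  rw [Representation.character, trace_eq_sum]
  simp only [ent, CfsgLib.PermGroup.permRep_single, Pi.single_apply]
  rw [Finset.sum_boole, permChar, Nat.card_eq_fintype_card, Fintype.card_subtype]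
  congr 2
  ext x
  simp [eq_comm]

theorem character_eq : (permRep ℂ G Ω).character = permChar G Ω := funext character_permRep

theorem comm_iff (A : Module.End ℂ (Ω → ℂ)) :
    Comm (permRep ℂ G Ω) A ↔ ∀ (g : G) x y, ent A (g • x) (g • y) = ent A x y := by
  constructor
  · intro h g x y
    have := congrFun (LinearMap.congr_fun (h g) (Pi.single y 1)) (g • x)
    rw [Module.End.mul_apply, Module.End.mul_apply, CfsgLib.PermGroup.permRep_apply,
      inv_smul_smul, CfsgLib.PermGroup.permRep_single] at this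
    exact this
  · intro h g
    refine ext_ent fun x y => ?_
    show A (permRep ℂ G Ω g (Pi.single y 1)) x = permRep ℂ G Ω g (A (Pi.single y 1)) x
    rw [CfsgLib.PermGroup.permRep_apply, CfsgLib.PermGroup.permRep_single]
    show ent A x (g • y) = ent A (g⁻¹ • x) y
    rw [← h g (g⁻¹ • x) y, smul_inv_smul]

theorem ent_funEnd [Fintype G] (φ : G → ℂ) (x y : Ω) :
    ent (funEnd (permRep ℂ G Ω) φ) x y = ∑ g : G, if g • y = x then φ g else 0 := by
  simp only [ent, funEnd, LinearMap.sum_apply, LinearMap.smul_apply, Finset.sum_apply, Pi.smul_apply,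
    CfsgLib.PermGroup.permRep_single, smul_eq_mul, Pi.single_apply, mul_ite, mul_one, mul_zero]
  refine Finset.sum_congr rfl fun g _ => ?_
  simp only [eq_comm]

theorem ent_funEnd_comm [Fintype G] (φ : G → ℂ) (x y : Ω) :
    ent (funEnd (permRep ℂ G Ω) φ) y x = ent (funEnd (permRep ℂ G Ω) (fun g => φ g⁻¹)) x y := by
  rw [ent_funEnd, ent_funEnd]
  refine Fintype.sum_equiv (Equiv.inv G) _ _ fun g => ?_
  simp only [Equiv.inv_apply, inv_inv, inv_smul_eq_iff]
  exact if_congr eq_comm rfl rfl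

/-- The operator of the orbital of `(a, b)`. -/
def orbital (G : Type u) [Group G] [MulAction G Ω] (a b : Ω) : Module.End ℂ (Ω → ℂ) :=
  Matrix.toLin' (Matrix.of fun x y => if ∃ g : G, g • a = x ∧ g • b = y then (1 : ℂ) else 0)

theorem ent_orbital (a b x y : Ω) :
    ent (orbital G a b) x y = if ∃ g : G, g • a = x ∧ g • b = y then 1 else 0 := by
  simp [ent, orbital, Matrix.toLin'_apply, Matrix.mulVec_single]

theorem comm_orbital (a b : Ω) : Comm (permRep ℂ G Ω) (orbital G a b) := by
  rw [comm_iff]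
  intro g x y
  rw [ent_orbital, ent_orbital]
  refine if_congr ⟨?_, ?_⟩ rfl rfl
  · rintro ⟨k, hx, hy⟩
    exact ⟨g⁻¹ * k, by rw [mul_smul, hx, inv_smul_smul], by rw [mul_smul, hy, inv_smul_smul]⟩
  · rintro ⟨k, hx, hy⟩
    exact ⟨g * k, by rw [mul_smul, hx], by rw [mul_smul, hy]⟩

theorem isIntegral_orbital (a b : Ω) : IsIntegral ℤ (orbital G a b) := by
  have h : IsIntegral ℤ
      (Matrix.of fun x y : Ω => if ∃ g : G, g • a = x ∧ g • b = y then (1 : ℤ) else 0) :=
    Algebra.IsIntegral.isIntegral _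
  have h2 := h.map (((Matrix.toLinAlgEquiv' (R := ℂ) (n := Ω)).toAlgHom.restrictScalars ℤ).comp
    ((Algebra.ofId ℤ ℂ).mapMatrix))
  convert h2 using 1
  refine ext_ent fun x y => ?_
  rw [ent_orbital]
  simp only [ent, AlgHom.coe_comp, AlgHom.coe_restrictScalars', Function.comp_apply,
    AlgEquiv.coe_toAlgHom, Matrix.toLinAlgEquiv'_apply, AlgHom.mapMatrix_apply,
    Matrix.mulVec_single, MulOpposite.op_one, one_smul, Matrix.col_apply, Matrix.map_apply,
    Matrix.of_apply]
  split_ifs <;> simp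

theorem orbit_stabilizer_iff (a b y : Ω) :
    (∃ g : G, g • a = a ∧ g • b = y) ↔ y ∈ orbit (stabilizer G a) b :=
  ⟨fun ⟨g, h1, h2⟩ => ⟨⟨g, h1⟩, h2⟩, fun ⟨⟨g, h1⟩, h2⟩ => ⟨g, h1, h2⟩⟩

theorem orbital_one [IsPretransitive G Ω] (a b x : Ω) :
    orbital G a b (fun _ => 1) x = (Nat.card (orbit (stabilizer G a) b) : ℂ) := by
  obtain ⟨k, rfl⟩ := exists_smul_eq G a x
  rw [apply_eq_sum]
  simp only [mul_one]
  rw [← Fintype.sum_equiv (MulAction.toPerm k) (fun y => ent (orbital G a b) (k • a) (k • y)) _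
    (fun y => rfl)]
  simp only [(comm_iff (G := G) _).mp (comm_orbital a b) k, ent_orbital, orbit_stabilizer_iff]
  rw [Finset.sum_boole, Nat.card_eq_fintype_card, Fintype.card_subtype]

variable [Fintype G]

theorem classInner_self_eq_orbits [IsPretransitive G Ω] (a : Ω) :
    classInner (permChar G Ω) (permChar G Ω) =
      (Nat.card (orbitRel.Quotient (stabilizer G a) Ω) : ℂ) := by
  have hG : (Nat.card G : ℂ) ≠ 0 := Nat.cast_ne_zero.mpr Nat.card_pos.ne'
  have h := CfsgLib.PermTwo.sum_fixedBy (G := G) (Ω × Ω)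
  simp only [CfsgLib.PermTwo.card_fixedBy_prod, Nat.cast_mul] at h
  rw [classInner]
  simp only [permChar, map_natCast]
  rw [h, mul_comm (_ : ℂ) (Nat.card G : ℂ), inv_mul_cancel_left₀ hG]
  congr 1
  refine (Nat.card_congr (Equiv.ofBijective
    (Quotient.map' (fun y => (a, y)) ?_) ⟨?_, ?_⟩)).symm
  · rintro y z ⟨⟨g, hg⟩, hgy⟩
    exact ⟨g, Prod.ext hg hgy⟩
  · intro p q
    refine Quotient.inductionOn₂' p q fun y z e => ?_
    obtain ⟨g, hg⟩ := Quotient.exact' e
    exact Quotient.sound' ⟨⟨g, congrArg Prod.fst hg⟩, congrArg Prod.snd hg⟩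
  · intro q
    refine Quotient.inductionOn' q fun p => ?_
    obtain ⟨g, hg⟩ := exists_smul_eq G p.1 a
    refine ⟨Quotient.mk'' (g • p.2), Quotient.sound' ⟨g, ?_⟩⟩
    exact Prod.ext hg rfl

theorem classInner_one [IsPretransitive G Ω] [Nonempty Ω] :
    classInner (permChar G Ω) (fun _ => 1) = 1 := by
  have hG : (Nat.card G : ℂ) ≠ 0 := Nat.cast_ne_zero.mpr Nat.card_pos.ne'
  rw [classInner]
  simp only [map_one, mul_one, permChar]
  rw [CfsgLib.PermTwo.sum_fixedBy (G := G) Ω]
  have : Nat.card (Quotient (orbitRel G Ω)) = 1 := by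
    rw [Nat.card_eq_one_iff_unique]
    refine ⟨⟨fun p q => Quotient.inductionOn₂ p q fun y z => Quotient.sound (exists_smul_eq G z y)⟩, ?_⟩
    exact ⟨Quotient.mk _ (Classical.arbitrary Ω)⟩
  rw [this, Nat.cast_one, one_mul, inv_mul_cancel₀ hG]

theorem multFree_of_selfPaired (h : ∀ a b : Ω, ∃ g : G, g • a = b ∧ g • b = a) :
    MultFree (permChar G Ω) ∧ ∀ χ : IrrCharacter G, classInner (permChar G Ω) (χ : G → ℂ) ≠ 0 →
      ∀ g : G, conj ((χ : G → ℂ) g) = (χ : G → ℂ) g := by
  rw [← character_eq]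
  have hsym : ∀ A, Comm (permRep ℂ G Ω) A → ∀ x y, ent A x y = ent A y x := by
    intro A hA x y
    obtain ⟨g, hgx, hgy⟩ := h x y
    rw [← (comm_iff A).mp hA g x y, hgx, hgy]
  have hcomm : ∀ A B : Module.End ℂ (Ω → ℂ), Comm (permRep ℂ G Ω) A → Comm (permRep ℂ G Ω) B →
      A * B = B * A := by
    intro A B hA hB
    have hBA : Comm (permRep ℂ G Ω) (B * A) := fun g => by
      rw [mul_assoc, hA, ← mul_assoc, hB, mul_assoc]
    refine ext_ent fun x z => ?_
    rw [hsym _ hBA x z, ent_mul, ent_mul]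
    exact Finset.sum_congr rfl fun y _ => by rw [hsym A hA x y, hsym B hB y z, mul_comm]
  refine ⟨multFree_of_comm _ hcomm, ?_⟩
  rintro ⟨_, n, σ, hσ, rfl⟩ hχ
  haveI := hσ
  by_contra hne
  obtain ⟨f, hf⟩ := exists_embedding (permRep ℂ G Ω) σ hχ
  obtain ⟨v, hv⟩ : ∃ v, f v ≠ 0 := by
    by_contra hall
    simp only [not_exists, not_not] at hall
    exact hf (Representation.IntertwiningMap.ext (LinearMap.ext hall))
  set χ := σ.character with hχdef
  have hcl : IsClassFunction G χ := irr_isClassFunction ⟨χ, n, σ, hσ, rfl⟩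
  have hclc : IsClassFunction G (fun g => conj (χ g)) := isClassFunction_conj hcl
  have hinv : ∀ g, χ g⁻¹ = conj (χ g) := fun g => irr_apply_inv ⟨χ, n, σ, hσ, rfl⟩ g
  have heq : funEnd (permRep ℂ G Ω) (fun g => conj (χ g)) = funEnd (permRep ℂ G Ω) χ := by
    refine ext_ent fun x y => ?_
    rw [hsym _ (funEnd_commute _ hclc) x y, ent_funEnd_comm]
    simp only [hinv, Complex.conj_conj]
  have hG : (Nat.card G : ℂ) ≠ 0 := Nat.cast_ne_zero.mpr Nat.card_pos.ne'
  have h1 : ∑ g : G, conj (χ g) * χ g = (Nat.card G : ℂ) := by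
    have := classInner_irr_self (χ := χ) ⟨n, σ, hσ, rfl⟩
    rw [classInner, inv_mul_eq_iff_eq_mul₀ hG, mul_one] at this
    rw [← this]
    exact Finset.sum_congr rfl fun g _ => mul_comm _ _
  have h2 : ∑ g : G, χ g * χ g = 0 := by
    have := classInner_irr_ne (χ := χ) (ψ := fun g => conj (χ g)) ⟨n, σ, hσ, rfl⟩
      (CfsgLib.BrauerPerm.isIrrCharacter_conj ⟨n, σ, hσ, rfl⟩)
      (fun e => hne fun g => (congrFun e g).symm)
    rw [classInner, inv_mul_eq_iff_eq_mul₀ hG, mul_zero] at this
    simpa using this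
  have h3 := LinearMap.congr_fun heq (f v)
  rw [funEnd_intertwining, funEnd_intertwining, funEnd_eq_smul σ hclc, funEnd_eq_smul σ hcl, h1, h2,
    zero_div, zero_smul, LinearMap.zero_apply, map_zero, LinearMap.smul_apply, Module.End.one_apply,
    map_smul, smul_eq_zero, div_eq_zero_iff] at h3
  rcases h3 with (h3 | h3) | h3
  · exact hG h3
  · exact (Nat.cast_ne_zero.mpr (CfsgLib.CharScalar.finrank_pos σ).ne') h3
  · exact hv h3

theorem selfPaired_of_multFree
    (h : ∀ χ : IrrCharacter G, classInner (permChar G Ω) (χ : G → ℂ) ≠ 0 →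
      classInner (permChar G Ω) (χ : G → ℂ) = 1 ∧ ∀ g : G, conj ((χ : G → ℂ) g) = (χ : G → ℂ) g)
    (a b : Ω) : ∃ g : G, g • a = b ∧ g • b = a := by
  have hmf : MultFree (permRep ℂ G Ω).character := by
    rw [character_eq]
    intro χ hχ
    by_cases h0 : classInner (permChar G Ω) χ = 0
    · exact Or.inl h0
    · exact Or.inr (h ⟨χ, hχ⟩ h0).1
  obtain ⟨c, hc0, hc⟩ := exists_classFn _ hmf (comm_orbital (G := G) a b)
  have hfn : (fun g => classFn c g⁻¹) = classFn c := by
    funext g
    refine Finset.sum_congr rfl fun χ _ => ?_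
    by_cases h0 : classInner (permChar G Ω) (χ : G → ℂ) = 0
    · simp [hc0 χ (by rw [character_eq]; exact h0)]
    · rw [irr_apply_inv, Complex.conj_conj, (h χ h0).2]
  have hab : ent (orbital G a b) a b = 1 := by
    rw [ent_orbital, if_pos ⟨1, one_smul _ _, one_smul _ _⟩]
  rw [hc, ent_funEnd_comm, hfn, ← hc, ent_orbital] at hab
  by_contra hno
  rw [if_neg hno] at hab
  exact zero_ne_one hab

/-- A common divisor of the degrees of the non-trivial constituents divides the subdegrees. -/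
theorem dvd_subdegree [IsPretransitive G Ω] (f : ℕ)
    (hf : ∀ χ : IrrCharacter G, (χ : G → ℂ) ≠ (fun _ => 1) →
      classInner (permChar G Ω) (χ : G → ℂ) ≠ 0 → ∃ k : ℕ, (χ : G → ℂ) 1 = (f : ℂ) * k)
    {a b : Ω} (hab : b ≠ a) : f ∣ Nat.card (orbit (stabilizer G a) b) := by
  haveI : Nonempty Ω := ⟨a⟩
  set k := Nat.card (orbit (stabilizer G a) b)
  set ρ := permRep ℂ G Ω with hρdef
  set A := orbital G a b
  set one : Ω → ℂ := fun _ => 1
  let U : Subrepresentation ρ := permSumZero ℂ G Ω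
  let C : Subrepresentation ρ := permConstants ℂ G Ω
  have hn : (Fintype.card Ω : ℂ) ≠ 0 := Nat.cast_ne_zero.mpr Fintype.card_ne_zero
  have hc : IsCompl C.toSubmodule U.toSubmodule := by
    refine ⟨Submodule.disjoint_def.mpr fun v hv hv' => ?_,
      codisjoint_iff.mpr (Submodule.eq_top_iff'.mpr fun v => ?_)⟩
    · obtain ⟨c, hc⟩ := CfsgLib.PermGroup.mem_permConstants_iff.mp hv
      have h0 : ∑ x, v x = 0 := hv'
      simp [hc, hn] at h0
      funext x
      simp [hc, h0]
    · rw [Submodule.mem_sup]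
      refine ⟨fun _ => (∑ x, v x) / Fintype.card Ω, CfsgLib.PermGroup.mem_permConstants_iff.mpr
        ⟨_, fun _ => rfl⟩, fun x => v x - (∑ x, v x) / Fintype.card Ω, ?_, funext fun x => by simp⟩
      show ∑ x, (v x - (∑ x, v x) / Fintype.card Ω) = 0
      rw [Finset.sum_sub_distrib, Finset.sum_const, Finset.card_univ, nsmul_eq_mul,
        mul_div_cancel₀ _ hn, sub_self]
  have hcol : ∀ y, ∑ x, ent A x y = ∑ x, ent A x a := by
    intro y
    obtain ⟨g, rfl⟩ := exists_smul_eq G a y
    refine (Fintype.sum_equiv (MulAction.toPerm g) (fun x => ent A (g • x) (g • a))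
      (fun x => ent A x (g • a)) (fun x => rfl)).symm.trans ?_
    exact Finset.sum_congr rfl fun x _ => (comm_iff A).mp (comm_orbital a b) g x a
  have hU : ∀ v ∈ U.toSubmodule, A v ∈ U.toSubmodule := by
    intro v hv
    have h0 : ∑ x, v x = 0 := hv
    show ∑ x, A v x = 0
    simp only [apply_eq_sum A v]
    rw [Finset.sum_comm]
    simp only [← Finset.sum_mul, hcol, ← Finset.mul_sum, h0, mul_zero]
  have hC : ∀ v ∈ C.toSubmodule, A v = (k : ℂ) • v := by
    intro v hv
    obtain ⟨c, hc⟩ := CfsgLib.PermGroup.mem_permConstants_iff.mp hv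
    have hv1 : v = c • one := funext fun x => by simp [hc, one]
    rw [hv1, map_smul, smul_comm]
    congr 1
    funext x
    rw [orbital_one]
    simp [one, k]
  set AU : Module.End ℂ U.toSubmodule := A.restrict hU with hAU
  set AC : Module.End ℂ C.toSubmodule := (k : ℂ) • 1 with hAC
  have htr : LinearMap.trace ℂ (Ω → ℂ) A = (k : ℂ) * (Module.finrank ℂ C.toSubmodule : ℂ)
      + LinearMap.trace ℂ U.toSubmodule AU := by
    rw [← CfsgLib.CharScalar.trace_smul_one (V := C.toSubmodule) (k : ℂ), ← LinearMap.trace_prodMap',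
      ← LinearMap.trace_conj' _ (Submodule.prodEquivOfIsCompl _ _ hc)]
    congr 1
    refine LinearMap.ext fun v => ?_
    obtain ⟨⟨x, y⟩, rfl⟩ := (Submodule.prodEquivOfIsCompl _ _ hc).surjective v
    rw [LinearEquiv.conj_apply, LinearMap.comp_apply, LinearMap.comp_apply, LinearEquiv.coe_coe,
      LinearEquiv.coe_coe, LinearEquiv.symm_apply_apply, Submodule.coe_prodEquivOfIsCompl',
      map_add, hC x x.2, LinearMap.prodMap_apply, Submodule.coe_prodEquivOfIsCompl']
    rfl
  have hCdim : Module.finrank ℂ C.toSubmodule = 1 :=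
    finrank_span_singleton (K := ℂ) (v := one) fun e => one_ne_zero (congrFun e a)
  have hcharC : C.toRepresentation.character = fun _ => 1 := by
    funext g
    have : C.toRepresentation g = 1 := LinearMap.ext fun x => Subtype.ext (by
      obtain ⟨c, hc⟩ := CfsgLib.PermGroup.mem_permConstants_iff.mp x.2
      funext y
      show (x : Ω → ℂ) (g⁻¹ • y) = (x : Ω → ℂ) y
      rw [hc, hc])
    rw [Representation.character, this, LinearMap.trace_one, hCdim, Nat.cast_one]
  have hmult : ∀ χ : IrrCharacter G, classInner U.toRepresentation.character (χ : G → ℂ) ≠ 0 →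
      ∃ j : ℕ, (χ : G → ℂ) 1 = (f : ℂ) * j := by
    intro χ hχ
    have hadd : classInner (permChar G Ω) (χ : G → ℂ) =
        classInner (fun _ => 1) (χ : G → ℂ) + classInner U.toRepresentation.character (χ : G → ℂ) := by
      rw [← hcharC, ← classInner_add_left, ← character_of_isCompl ρ C U hc, hρdef, character_eq]
    by_cases h1 : (χ : G → ℂ) = fun _ => 1
    · exfalso
      apply hχ
      rw [h1] at hadd ⊢
      rw [classInner_one, classInner_irr_self isIrrCharacter_one] at hadd
      exact add_eq_left.mp hadd.symm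
    · refine hf χ h1 ?_
      rw [hadd, classInner_irr_ne isIrrCharacter_one χ.2 (Ne.symm h1), zero_add]
      exact hχ
  obtain ⟨z, hz, hztr⟩ := exists_integral_trace U.toRepresentation f (A := AU)
    (fun g => LinearMap.ext fun x => Subtype.ext (LinearMap.congr_fun (comm_orbital (G := G) a b g) (x : Ω → ℂ)))
    (by
      obtain ⟨P, hPm, hP⟩ := isIntegral_orbital (G := G) a b
      refine ⟨P, hPm, LinearMap.ext fun x => Subtype.ext ?_⟩
      have h : ∀ Q : Polynomial ℤ, ∀ y : U.toSubmodule,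
          ((Polynomial.aeval AU Q y : U.toSubmodule) : Ω → ℂ) = Polynomial.aeval A Q (y : Ω → ℂ) := by
        intro Q
        induction Q using Polynomial.induction_on with
        | C r => intro y; simp [Module.algebraMap_end_apply]
        | add Q R hQ hR => intro y; simp [hQ, hR]
        | monomial i r ih =>
          intro y
          simp only [pow_succ, ← mul_assoc]
          rw [map_mul (Polynomial.aeval AU) (Polynomial.C r * Polynomial.X ^ i),
            map_mul (Polynomial.aeval A) (Polynomial.C r * Polynomial.X ^ i), Polynomial.aeval_X,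
            Polynomial.aeval_X, Module.End.mul_apply, Module.End.mul_apply, ih]
          rfl
      exact (h P (x : U.toSubmodule)).trans (LinearMap.congr_fun hP (x : Ω → ℂ)))
    hmult
  rw [hztr, hCdim, Nat.cast_one, mul_one, trace_eq_sum, Finset.sum_eq_zero] at htr
  · rcases Nat.eq_zero_or_pos f with rfl | hfpos
    · rw [Nat.cast_zero, zero_mul, add_zero, eq_comm, Nat.cast_eq_zero] at htr
      rw [htr]
    · refine CfsgLib.CharScalar.dvd_of_isIntegral_div hfpos.ne' ?_
      have hkz : (k : ℂ) / f = -z := by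
        rw [div_eq_iff (Nat.cast_ne_zero.mpr hfpos.ne')]
        linear_combination -htr
      rw [hkz]
      exact hz.neg
  · intro x _
    rw [ent_orbital, if_neg]
    rintro ⟨g, h1, h2⟩
    exact hab (smul_left_cancel g (h2.trans h1.symm))

/-- Constituents of a common degree: all subdegrees equal it and the character is multiplicity-free. -/
theorem equal_degrees [IsPretransitive G Ω] (a : Ω) (f : ℕ)
    (hf : ∀ χ : IrrCharacter G, (χ : G → ℂ) ≠ (fun _ => 1) →
      classInner (permChar G Ω) (χ : G → ℂ) ≠ 0 → (χ : G → ℂ) 1 = f) :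
    MultFree (permChar G Ω) ∧ ∀ b : Ω, b ≠ a → Nat.card (orbit (stabilizer G a) b) = f := by
  haveI : Nonempty Ω := ⟨a⟩
  obtain ⟨m, hm, hmult, hsq⟩ := exists_mult (permRep ℂ G Ω)
  rw [character_eq] at hm hmult hsq
  set p : IrrCharacter G := principalIrr G
  have hp : m p = 1 := by
    have h := hmult p
    rw [show ((p : IrrCharacter G) : G → ℂ) = fun _ => 1 from rfl, classInner_one] at h
    exact_mod_cast h.symm
  rw [classInner_self_eq_orbits a, Nat.cast_inj] at hsq
  set S := (Finset.univ : Finset (IrrCharacter G)).erase p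
  have hsq' : Nat.card (orbitRel.Quotient (stabilizer G a) Ω) = 1 + ∑ χ ∈ S, m χ ^ 2 := by
    rw [hsq, ← Finset.add_sum_erase _ _ (Finset.mem_univ p), hp, one_pow]
  have hn : Fintype.card Ω = 1 + f * ∑ χ ∈ S, m χ := by
    have h := congrFun hm 1
    have h1 : Nat.card (fixedBy Ω (1 : G)) = Fintype.card Ω := by
      rw [← Nat.card_eq_fintype_card (α := Ω)]
      exact Nat.card_congr (Equiv.subtypeUnivEquiv fun x => one_smul G x)
    simp only [permChar, h1, Finset.sum_apply, Pi.smul_apply, smul_eq_mul] at h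
    rw [← Finset.add_sum_erase _ _ (Finset.mem_univ p), hp,
      show ((p : IrrCharacter G) : G → ℂ) 1 = 1 from rfl, Nat.cast_one, one_mul,
      Finset.sum_congr rfl (g := fun χ => (f : ℂ) * (m χ : ℂ)) (fun χ hχ => ?_), ← Finset.mul_sum] at h
    · exact_mod_cast h
    · by_cases h0 : m χ = 0
      · simp [h0]
      · rw [hf χ (fun e => Finset.ne_of_mem_erase hχ (Subtype.ext e))
          (by rw [hmult]; exact Nat.cast_ne_zero.mpr h0), mul_comm]
  set Q := orbitRel.Quotient (stabilizer G a) Ω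
  haveI : Fintype Q := Fintype.ofFinite _
  set q₀ : Q := Quotient.mk'' a
  set sz : Q → ℕ := fun q => Nat.card q.orbit
  have hsz : ∀ y : Ω, sz (Quotient.mk'' y) = Nat.card (orbit (stabilizer G a) y) := fun y => by
    simp only [sz, orbitRel.Quotient.orbit_mk]
  have htot : ∑ q : Q, sz q = Fintype.card Ω := by
    rw [← Nat.card_eq_fintype_card, Nat.card_congr (selfEquivSigmaOrbits' (stabilizer G a) Ω),
      Nat.card_sigma]
  have hfix : sz q₀ = 1 := by
    rw [hsz, Nat.card_eq_one_iff_unique]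
    refine ⟨⟨?_⟩, ⟨⟨a, mem_orbit_self a⟩⟩⟩
    rintro ⟨_, ⟨g, hg⟩, rfl⟩ ⟨_, ⟨k, hk⟩, rfl⟩
    exact Subtype.ext (hg.trans hk.symm)
  have hge : ∀ q ∈ (Finset.univ : Finset Q).erase q₀, f ≤ sz q ∧ 0 < sz q := by
    intro q
    refine Quotient.inductionOn' q fun y hy => ?_
    rw [hsz]
    have hne : y ≠ a := fun e => Finset.ne_of_mem_erase hy (by rw [e])
    haveI : Nonempty (orbit (stabilizer G a) y) := ⟨⟨y, mem_orbit_self y⟩⟩
    refine ⟨Nat.le_of_dvd Nat.card_pos (dvd_subdegree f (fun χ h1 h2 => ⟨1, ?_⟩) hne), Nat.card_pos⟩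
    rw [hf χ h1 h2, Nat.cast_one, mul_one]
  have hcardQ : ((Finset.univ : Finset Q).erase q₀).card = ∑ χ ∈ S, m χ ^ 2 := by
    rw [Finset.card_erase_of_mem (Finset.mem_univ _), Finset.card_univ, ← Nat.card_eq_fintype_card,
      hsq', Nat.add_sub_cancel_left]
  have hrest : ∑ q ∈ (Finset.univ : Finset Q).erase q₀, sz q = f * ∑ χ ∈ S, m χ := by
    have := Finset.add_sum_erase _ sz (Finset.mem_univ q₀)
    omega
  have hlow : ∑ _q ∈ (Finset.univ : Finset Q).erase q₀, f ≤ ∑ q ∈ (Finset.univ : Finset Q).erase q₀, sz q :=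
    Finset.sum_le_sum fun q hq => (hge q hq).1
  have hle : ∑ χ ∈ S, m χ ≤ ∑ χ ∈ S, m χ ^ 2 :=
    Finset.sum_le_sum fun χ _ => Nat.le_self_pow two_ne_zero _
  rw [Finset.sum_const, smul_eq_mul, hcardQ] at hlow
  have hmle := Nat.mul_le_mul_left f hle
  have heq : ∀ q ∈ (Finset.univ : Finset Q).erase q₀, f = sz q := by
    refine (Finset.sum_eq_sum_iff_of_le fun q hq => (hge q hq).1).mp ?_
    rw [Finset.sum_const, smul_eq_mul, hcardQ, hrest]
    linarith
  refine ⟨fun χ hχ => ?_, fun b hb => ?_⟩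
  · have hm1 : m ⟨χ, hχ⟩ ≤ 1 := by
      by_contra hgt
      have hne : (⟨χ, hχ⟩ : IrrCharacter G) ≠ p := fun e => by rw [e, hp] at hgt; omega
      have hS : (⟨χ, hχ⟩ : IrrCharacter G) ∈ S := Finset.mem_erase.mpr ⟨hne, Finset.mem_univ _⟩
      have hlt : ∑ χ ∈ S, m χ < ∑ χ ∈ S, m χ ^ 2 :=
        Finset.sum_lt_sum (fun χ _ => Nat.le_self_pow two_ne_zero _) ⟨_, hS, by nlinarith⟩
      have hfpos : 0 < f := by
        rcases Nat.eq_zero_or_pos f with rfl | h
        · exfalso
          obtain ⟨q, hq⟩ : ((Finset.univ : Finset Q).erase q₀).Nonempty := by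
            rw [← Finset.card_pos, hcardQ]; omega
          have := heq q hq
          have := (hge q hq).2
          omega
        · exact h
      have := Nat.mul_lt_mul_of_pos_left hlt hfpos
      linarith
    have h := hmult ⟨χ, hχ⟩
    interval_cases hv : m ⟨χ, hχ⟩
    · exact Or.inl (by simpa using h)
    · exact Or.inr (by simpa using h)
  · rw [← hsz]
    refine (heq _ (Finset.mem_erase.mpr ⟨fun e => hb ?_, Finset.mem_univ _⟩)).symm
    obtain ⟨⟨g, hg⟩, hgb⟩ := Quotient.exact' e
    exact hgb.symm.trans hg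

/-- Rank at most five: the permutation character is multiplicity-free. -/
theorem multFree_of_rank_le_five [IsPretransitive G Ω] (a : Ω)
    (h5 : Nat.card (orbitRel.Quotient (stabilizer G a) Ω) ≤ 5) : MultFree (permChar G Ω) := by
  haveI : Nonempty Ω := ⟨a⟩
  obtain ⟨m, hm, hmult, hsq⟩ := exists_mult (permRep ℂ G Ω)
  rw [character_eq] at hm hmult hsq
  rw [classInner_self_eq_orbits a, Nat.cast_inj] at hsq
  intro χ hχ
  by_contra hbad
  rw [not_or] at hbad
  set ψ : IrrCharacter G := ⟨χ, hχ⟩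
  have h2 : 2 ≤ m ψ := by
    have h := hmult ψ
    obtain ⟨h0, h1⟩ := hbad
    rw [h] at h0 h1
    norm_cast at h0 h1
    omega
  set p : IrrCharacter G := principalIrr G
  have hp : m p = 1 := by
    have h := hmult p
    rw [show ((p : IrrCharacter G) : G → ℂ) = fun _ => 1 from rfl, classInner_one] at h
    exact_mod_cast h.symm
  have hne : ψ ≠ p := fun e => by rw [e, hp] at h2; omega
  have hothers : ∀ ξ : IrrCharacter G, ξ ≠ p → ξ ≠ ψ → m ξ = 0 := by
    intro ξ hξp hξψ
    have hsub := Finset.sum_le_sum_of_subset (f := fun ξ => m ξ ^ 2)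
      (Finset.subset_univ ({p, ψ, ξ} : Finset (IrrCharacter G)))
    rw [Finset.sum_insert (by simp [hne.symm, hξp.symm]),
      Finset.sum_pair (Ne.symm hξψ), ← hsq, hp] at hsub
    by_contra h0
    have h1 : 1 ≤ m ξ := Nat.pos_of_ne_zero h0
    nlinarith
  obtain ⟨f, -, hf⟩ := irr_exists_degree hχ
  have hd : ∀ ξ : IrrCharacter G, (ξ : G → ℂ) ≠ (fun _ => 1) →
      classInner (permChar G Ω) (ξ : G → ℂ) ≠ 0 → (ξ : G → ℂ) 1 = f := by
    intro ξ h1 h0
    by_cases hξ : ξ = ψ
    · rw [hξ]; exact hf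
    · exact absurd (by rw [hmult ξ, hothers ξ (fun e => h1 (by rw [e]; rfl)) hξ, Nat.cast_zero]) h0
  rcases (equal_degrees a f hd).1 χ hχ with h | h
  · exact hbad.1 h
  · exact hbad.2 h

end CfsgLib.PermSmall.PermCentraliser
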