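import Mathlib.GroupTheory.GroupAction.MultipleTransitivity
import Mathlib.GroupTheory.GroupAction.CardCommute
import Mathlib.GroupTheory.PGroup

/-!
General lemmas on finite transitivity used by the small permutation group statements.
-/

namespace CfsgLib.PermSmall

open MulAction

variable {G α : Type*} [Group G] [MulAction G α]

/-- If the fixer of every `(k-1)`-element set is transitive outside this set, and `k < n` or
`k = n`, then the group is `k`-transitive. -/
theorem isMultiplyPretransitive_of_fixing_transitive [Fintype α] [DecidableEq α] {k : ℕ}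
    (hk : k < Fintype.card α)
    (h : ∀ s : Finset α, s.card + 1 = k → ∀ x y, x ∉ s → y ∉ s →
      ∃ g : G, (∀ a ∈ s, g • a = a) ∧ g • x = y) :
    IsMultiplyPretransitive G α k := by
  -- smaller sets as well
  have h' : ∀ s : Finset α, s.card + 1 ≤ k → ∀ x y, x ∉ s → y ∉ s →
      ∃ g : G, (∀ a ∈ s, g • a = a) ∧ g • x = y := by
    intro s hs x y hx hy
    have hc : s.card ≤ k - 1 := by omega
    have hsub : s ⊆ Finset.univ \ {x, y} := by
      intro a ha
      simp only [Finset.mem_sdiff, Finset.mem_univ, true_and, Finset.mem_insert,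
        Finset.mem_singleton]
      rintro (rfl | rfl) <;> contradiction
    have hcard : k - 1 ≤ (Finset.univ \ {x, y} : Finset α).card := by
      have := Finset.le_card_sdiff ({x, y} : Finset α) Finset.univ
      have h2 : ({x, y} : Finset α).card ≤ 2 := Finset.card_le_two
      rw [Finset.card_univ] at this
      omega
    obtain ⟨t, hst, htu, htc⟩ := Finset.exists_subsuperset_card_eq hsub hc hcard
    have hxy : ∀ a, a = x ∨ a = y → a ∉ t := by
      intro a ha hat
      have := htu hat
      simp [ha] at this
    obtain ⟨g, hg, hgx⟩ := h t (by omega) x y (hxy x (Or.inl rfl)) (hxy y (Or.inr rfl))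
    exact ⟨g, fun a ha => hg a (hst ha), hgx⟩
  rw [isMultiplyPretransitive_iff]
  intro u v
  suffices ∀ j ≤ k, ∃ g : G, ∀ i : Fin k, i.val < j → g • u i = v i by
    obtain ⟨g, hg⟩ := this k le_rfl
    exact ⟨g, by ext i; simpa using hg i i.isLt⟩
  intro j
  induction j with
  | zero => exact fun _ => ⟨1, fun i hi => absurd hi (Nat.not_lt_zero _)⟩
  | succ j ih =>
    intro hj
    obtain ⟨g, hg⟩ := ih (Nat.le_of_succ_le hj)
    set i0 : Fin k := ⟨j, hj⟩ with hi0
    set s : Finset α := (Finset.univ.filter fun i : Fin k => i.val < j).image v with hs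
    have hsc : s.card + 1 ≤ k := by
      rw [hs, Finset.card_image_of_injective _ v.injective]
      have : (Finset.univ.filter fun i : Fin k => i.val < j) ⊆ Finset.univ.erase i0 := by
        intro i hi
        simp only [Finset.mem_filter, Finset.mem_univ, true_and] at hi
        simp [hi0, Fin.ext_iff]; omega
      have := Finset.card_le_card this
      simp at this
      omega
    have hy : v i0 ∉ s := by
      simp only [hs, Finset.mem_image, Finset.mem_filter, Finset.mem_univ, true_and]
      rintro ⟨i, hi, he⟩
      have := v.injective he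
      simp [hi0, Fin.ext_iff] at this
      omega
    have hx : g • u i0 ∉ s := by
      simp only [hs, Finset.mem_image, Finset.mem_filter, Finset.mem_univ, true_and]
      rintro ⟨i, hi, he⟩
      rw [← hg i hi] at he
      have := u.injective (smul_left_cancel g he)
      simp [hi0, Fin.ext_iff] at this
      omega
    obtain ⟨g', hg', hgx⟩ := h' s hsc _ _ hx hy
    refine ⟨g' * g, fun i hi => ?_⟩
    rcases Nat.lt_succ_iff_lt_or_eq.mp hi with hlt | heq
    · rw [mul_smul, hg i hlt]
      exact hg' _ (Finset.mem_image.mpr ⟨i, by simpa using hlt, rfl⟩)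
    · have : i = i0 := by simp [hi0, Fin.ext_iff, heq]
      subst this
      rw [mul_smul, hgx]

/-- Transitivity from congruences: if, for every point `x` of an invariant set `C`, the size of
every subset of `C` avoiding `x` and invariant under the stabiliser of `x` is divisible by `r > 1`,
then the group is transitive on `C`. -/
theorem exists_smul_eq_of_orbit_congr [Finite α] {r : ℕ} (hr : 1 < r) (C : Set α)
    (hC : ∀ g : G, ∀ x ∈ C, g • x ∈ C)
    (h : ∀ x ∈ C, ∀ S ⊆ C, x ∉ S → (∀ g : G, g • x = x → ∀ y ∈ S, g • y ∈ S) → r ∣ S.ncard)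
    {x y : α} (hx : x ∈ C) (hy : y ∈ C) : ∃ g : G, g • x = y := by
  by_contra hne
  simp only [not_exists] at hne
  set O := orbit G x with hO
  have hOC : O ⊆ C := by rintro _ ⟨g, rfl⟩; exact hC g x hx
  have hOinv : ∀ g : G, ∀ z ∈ O, g • z ∈ O := by
    rintro g _ ⟨g', rfl⟩; exact ⟨g * g', mul_smul g g' x⟩
  have h1 : r ∣ O.ncard := by
    refine h y hy O hOC ?_ (fun g _ z hz => hOinv g z hz)
    rintro ⟨g, hg⟩; exact hne g hg
  have h2 : r ∣ (O \ {x}).ncard := by
    refine h x hx _ (Set.sdiff_subset.trans hOC) (by simp) ?_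
    rintro g hg z ⟨hz, hzx⟩
    refine ⟨hOinv g z hz, ?_⟩
    simp only [Set.mem_singleton_iff] at hzx ⊢
    intro he
    exact hzx (smul_left_cancel g (he.trans hg.symm))
  have h3 : (O \ {x}).ncard + 1 = O.ncard :=
    Set.ncard_sdiff_singleton_add_one (mem_orbit_self x) (Set.toFinite O)
  have h4 : r ∣ 1 := (Nat.dvd_add_right h2).mp (h3 ▸ h1)
  have := Nat.le_of_dvd one_pos h4
  omega

/-- A subset invariant under a group all of whose point stabilisers on it have one order `m` has
size divisible by `r` when the group order is `r * m`. -/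
theorem dvd_ncard_of_stabilizer_card [Finite G] [Finite α] {r m : ℕ} (hm : 0 < m)
    (hG : Nat.card G = r * m) (S : Set α) (hS : ∀ g : G, ∀ y ∈ S, g • y ∈ S)
    (hst : ∀ y ∈ S, Nat.card (stabilizer G y) = m) : r ∣ S.ncard := by
  classical
  let M : SubMulAction G α := ⟨S, fun g _ hy => hS g _ hy⟩
  have : Fintype S := Fintype.ofFinite _
  have : Fintype G := Fintype.ofFinite _
  have : Fintype (Quotient (orbitRel G M)) := Fintype.ofFinite _
  have key := MulAction.card_eq_sum_card_group_div_card_stabilizer G M
  rw [← Nat.card_coe_set_eq, show Nat.card S = Nat.card M from rfl, Nat.card_eq_fintype_card, key]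
  refine Finset.dvd_sum fun q _ => ?_
  have h1 : Fintype.card (stabilizer G (Quotient.out q : M)) = m := by
    rw [← Nat.card_eq_fintype_card]
    have e : stabilizer G (Quotient.out q : M) = stabilizer G ((Quotient.out q : M) : α) :=
      SubMulAction.stabilizer_of_subMul _
    rw [e]
    exact hst _ (Quotient.out q : M).2
  rw [h1, ← Nat.card_eq_fintype_card, hG, Nat.mul_div_cancel _ hm]

end CfsgLib.PermSmall
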