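import Cfsg.Prelude.Def_LieExceptional
import Cfsg.Agent.Lib.PermSmall.Basic
import Mathlib.GroupTheory.Perm.Cycle.Type
import Mathlib.GroupTheory.GroupAction.Quotient
import Mathlib.Tactic

/-!
Elementary theory of Zassenhaus groups: two-point stabilisers, involutions, and the case of two-point
stabilisers of even order.
-/

namespace CfsgLib.PermSmall.Zassenhaus

open MulAction
open scoped Classical

variable {G Ω : Type*} [Group G] [MulAction G Ω]

/-- The stabiliser of two points. -/
def pairStab (G : Type*) {Ω : Type*} [Group G] [MulAction G Ω] (a b : Ω) : Subgroup G :=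
  stabilizer G a ⊓ stabilizer G b

theorem mem_pairStab {a b : Ω} {g : G} : g ∈ pairStab G a b ↔ g • a = a ∧ g • b = b :=
  Iff.rfl

theorem eq_one (hZ : Cfsg.IsZassenhausGroup G Ω) {g : G} {a b c : Ω} (hab : a ≠ b) (hbc : b ≠ c)
    (hac : a ≠ c) (ha : g • a = a) (hb : g • b = b) (hc : g • c = c) : g = 1 :=
  hZ.2.2.1 g a b c hab hbc hac ha hb hc

theorem exists_smul_pair (hZ : Cfsg.IsZassenhausGroup G Ω) {a b c d : Ω} (hab : a ≠ b)
    (hcd : c ≠ d) : ∃ g : G, g • a = c ∧ g • b = d :=
  is_two_pretransitive_iff.mp hZ.2.1 hab hcd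

theorem exists_ne_ne (hZ : Cfsg.IsZassenhausGroup G Ω) (a b : Ω) : ∃ c, c ≠ a ∧ c ≠ b := by
  by_contra hall
  simp only [not_exists, not_and, not_not] at hall
  obtain ⟨g, hg1, x, y, hxy, hx, hy⟩ := hZ.2.2.2.1
  apply hg1
  have := hZ.1
  refine eq_of_smul_eq_smul (α := Ω) fun z => ?_
  rw [one_smul]
  have key : ∀ z, z = x ∨ z = y := by
    intro z
    by_cases h1 : x = a <;> by_cases h2 : z = a
    · exact Or.inl (h2.trans h1.symm)
    · right
      rw [hall z h2, hall y (fun e => hxy (h1.trans e.symm))]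
    · right
      by_contra h3
      have hy' : y ≠ a := fun e => h3 (h2.trans e.symm)
      exact hxy ((hall x h1).trans (hall y hy').symm)
    · left; rw [hall z h2, hall x h1]
  rcases key z with rfl | rfl
  · exact hx
  · exact hy

theorem eq_one_of_fix_three (hZ : Cfsg.IsZassenhausGroup G Ω) {g : G} (hg : g ≠ 1) {x y z : Ω}
    (hxy : x ≠ y) (hx : g • x = x) (hy : g • y = y) (hz : g • z = z) : z = x ∨ z = y := by
  by_contra h
  simp only [not_or] at h
  exact hg (eq_one hZ hxy (Ne.symm h.2) (Ne.symm h.1) hx hy hz)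

/-- Points moved by an element fixing two points. -/
theorem smul_ne (hZ : Cfsg.IsZassenhausGroup G Ω) {a b c : Ω} (hab : a ≠ b) {g : G}
    (hg : g ∈ pairStab G a b) (hg1 : g ≠ 1) (hca : c ≠ a) (hcb : c ≠ b) : g • c ≠ c := fun h => by
  rcases eq_one_of_fix_three hZ hg1 hab hg.1 hg.2 h with e | e
  · exact hca e
  · exact hcb e

theorem conj_mem_pairStab {g h : G} {a b : Ω} (hh : h ∈ pairStab G a b) :
    g * h * g⁻¹ ∈ pairStab G (g • a) (g • b) := by
  rw [mem_pairStab, mul_smul, mul_smul, inv_smul_smul, mul_smul, mul_smul, inv_smul_smul]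
  exact ⟨by rw [hh.1], by rw [hh.2]⟩

theorem card_pairStab_eq (hZ : Cfsg.IsZassenhausGroup G Ω) {a b c d : Ω} (hab : a ≠ b)
    (hcd : c ≠ d) : Nat.card (pairStab G c d) = Nat.card (pairStab G a b) := by
  obtain ⟨g, rfl, rfl⟩ := exists_smul_pair hZ hab hcd
  refine Nat.card_congr
    { toFun := fun x => ⟨g⁻¹ * (x : G) * g, ?_⟩
      invFun := fun x => ⟨g * (x : G) * g⁻¹, conj_mem_pairStab x.2⟩
      left_inv := fun x => Subtype.ext (by simp only; group)
      right_inv := fun x => Subtype.ext (by simp only; group) }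
  have := conj_mem_pairStab (g := g⁻¹) x.2
  simpa using this

theorem one_lt_card_pairStab [Finite G] (hZ : Cfsg.IsZassenhausGroup G Ω) {a b : Ω}
    (hab : a ≠ b) : 1 < Nat.card (pairStab G a b) := by
  obtain ⟨g, hg, x, y, hxy, hx, hy⟩ := hZ.2.2.2.1
  rw [← card_pairStab_eq hZ hab hxy, Finite.one_lt_card_iff_nontrivial]
  exact ⟨⟨g, hx, hy⟩, 1, fun e => hg (congrArg Subtype.val e)⟩

/-- The order of a two-point stabiliser divides the number of the other points. -/
theorem dvd_ncard_invariant [Finite G] [Finite Ω] (hZ : Cfsg.IsZassenhausGroup G Ω) {a b : Ω}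
    (hab : a ≠ b) (S : Set Ω) (hS : ∀ g ∈ pairStab G a b, ∀ y ∈ S, g • y ∈ S)
    (ha : a ∉ S) (hb : b ∉ S) : Nat.card (pairStab G a b) ∣ S.ncard := by
  refine CfsgLib.PermSmall.dvd_ncard_of_stabilizer_card (G := pairStab G a b) (m := 1) one_pos
    (mul_one _).symm S (fun g y hy => hS g g.2 y hy) fun y hy => ?_
  rw [Subgroup.card_eq_one, Subgroup.eq_bot_iff_forall]
  intro g hg
  apply Subtype.ext
  by_contra h
  exact smul_ne hZ hab g.2 h (fun e => ha (e ▸ hy)) (fun e => hb (e ▸ hy)) hg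

theorem card_pairStab_dvd [Finite G] [Fintype Ω] (hZ : Cfsg.IsZassenhausGroup G Ω) {a b : Ω}
    (hab : a ≠ b) : Nat.card (pairStab G a b) ∣ Fintype.card Ω - 2 := by
  have h : ({a, b}ᶜ : Set Ω).ncard = Fintype.card Ω - 2 := by
    rw [Set.ncard_compl, Set.ncard_pair hab, Nat.card_eq_fintype_card]
  rw [← h]
  refine dvd_ncard_invariant hZ hab _ (fun g hg y hy => ?_) (by simp) (by simp)
  simp only [Set.mem_compl_iff, Set.mem_insert_iff, Set.mem_singleton_iff, not_or] at hy ⊢
  refine ⟨fun e => hy.1 (smul_left_cancel g ?_), fun e => hy.2 (smul_left_cancel g ?_)⟩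
  · rw [e, hg.1]
  · rw [e, hg.2]

theorem three_le_card [Fintype Ω] (hZ : Cfsg.IsZassenhausGroup G Ω) {a b : Ω} (hab : a ≠ b) :
    3 ≤ Fintype.card Ω := by
  obtain ⟨c, hca, hcb⟩ := exists_ne_ne hZ a b
  have := Finset.card_le_univ ({a, b, c} : Finset Ω)
  have h3 : ({a, b, c} : Finset Ω).card = 3 := by simp [hab, Ne.symm hca, Ne.symm hcb]
  omega

theorem card_pairStab_le [Finite G] [Fintype Ω] (hZ : Cfsg.IsZassenhausGroup G Ω) {a b : Ω}
    (hab : a ≠ b) : Nat.card (pairStab G a b) ≤ Fintype.card Ω - 2 :=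
  Nat.le_of_dvd (by have := three_le_card hZ hab; omega) (card_pairStab_dvd hZ hab)

theorem card_stabilizer [Finite G] [Fintype Ω] (hZ : Cfsg.IsZassenhausGroup G Ω) {a b : Ω}
    (hab : a ≠ b) :
    Nat.card (stabilizer G a) = (Fintype.card Ω - 1) * Nat.card (pairStab G a b) := by
  have horb : orbit (stabilizer G a) b = ({a} : Set Ω)ᶜ := by
    ext x
    constructor
    · rintro ⟨g, rfl⟩
      intro e
      have e1 : (g : G) • b = (g : G) • a := (Set.mem_singleton_iff.mp e).trans g.2.symm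
      exact hab (smul_left_cancel _ e1).symm
    · intro hx
      obtain ⟨g, hga, hgb⟩ := exists_smul_pair hZ hab (Ne.symm hx)
      exact ⟨⟨g, hga⟩, hgb⟩
  have hidx : (stabilizer (stabilizer G a) b).index = Fintype.card Ω - 1 := by
    rw [index_stabilizer, horb, Set.ncard_compl, Set.ncard_singleton, Nat.card_eq_fintype_card]
  have hc : Nat.card (stabilizer (stabilizer G a) b) = Nat.card (pairStab G a b) :=
    Nat.card_congr
      { toFun := fun g => ⟨(g.1 : G), g.1.2, g.2⟩
        invFun := fun g => ⟨⟨(g : G), g.2.1⟩, g.2.2⟩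
        left_inv := fun g => rfl
        right_inv := fun g => rfl }
  rw [← Subgroup.index_mul_card (stabilizer (stabilizer G a) b), hidx, hc]

/-- An element fixing `a` and no other point. -/
def fixOnly (a : Ω) (g : G) : Prop := ∀ x, g • x = x ↔ x = a

theorem ncard_fixOnly [Finite G] [Fintype Ω] (hZ : Cfsg.IsZassenhausGroup G Ω) (a : Ω) :
    {g : G | fixOnly a g}.ncard + 2 = Fintype.card Ω := by
  obtain ⟨b, hb⟩ : ∃ b, b ≠ a := by obtain ⟨c, hc, -⟩ := exists_ne_ne hZ a a; exact ⟨c, hc⟩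
  have hab : a ≠ b := Ne.symm hb
  haveI := Fintype.ofFinite G
  set d := Nat.card (pairStab G a b) with hd
  set A : Finset G := Finset.univ.filter (fun g => g ∈ stabilizer G a) with hA
  set B : Finset G := (Finset.univ.erase a).biUnion
    (fun x => Finset.univ.filter (fun g => g ≠ 1 ∧ g ∈ pairStab G a x)) with hB
  have hAc : A.card = (Fintype.card Ω - 1) * d := by
    rw [hA, ← card_stabilizer hZ hab, Nat.card_eq_fintype_card, Fintype.card_subtype]
  have hBc : B.card = (Fintype.card Ω - 1) * (d - 1) := by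
    rw [hB, Finset.card_biUnion]
    · rw [Finset.sum_const_nat (m := d - 1), Finset.card_erase_of_mem (Finset.mem_univ _),
        Finset.card_univ]
      intro x hx
      have hxa : a ≠ x := Ne.symm (Finset.ne_of_mem_erase hx)
      rw [hd, ← card_pairStab_eq hZ hab hxa, Nat.card_eq_fintype_card, Fintype.card_subtype,
        show Finset.univ.filter (fun g : G => g ≠ 1 ∧ g ∈ pairStab G a x)
          = (Finset.univ.filter (fun g : G => g ∈ pairStab G a x)).erase 1 by ext g; simp,
        Finset.card_erase_of_mem (by simp)]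
    · intro x hx y hy hxy
      simp only [Function.onFun, Finset.disjoint_left, Finset.mem_filter, Finset.mem_univ, true_and]
      rintro g ⟨hg, hga, hgx⟩ ⟨-, -, hgy⟩
      rcases eq_one_of_fix_three hZ hg (Ne.symm (Finset.ne_of_mem_erase hx)) hga hgx hgy with e | e
      · exact Finset.ne_of_mem_erase hy e
      · exact hxy e.symm
  have hsub : insert 1 B ⊆ A := by
    intro g hg
    rcases Finset.mem_insert.mp hg with rfl | hg
    · simp [hA]
    · obtain ⟨x, -, hx⟩ := Finset.mem_biUnion.mp hg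
      exact Finset.mem_filter.mpr ⟨Finset.mem_univ _, (Finset.mem_filter.mp hx).2.2.1⟩
  have h1 : (1 : G) ∉ B := by simp [hB]
  have hF : ((A \ insert 1 B : Finset G) : Set G) = {g : G | fixOnly a g} := by
    ext g
    simp only [Finset.coe_sdiff, Set.mem_sdiff, Finset.mem_coe, Set.mem_ofPred_eq, fixOnly]
    constructor
    · rintro ⟨hgA, hgB⟩ x
      refine ⟨fun hx => ?_, fun hx => hx ▸ (Finset.mem_filter.mp hgA).2⟩
      by_contra hxa
      apply hgB
      by_cases hg1 : g = 1
      · exact hg1 ▸ Finset.mem_insert_self _ _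
      · exact Finset.mem_insert_of_mem (Finset.mem_biUnion.mpr ⟨x,
          Finset.mem_erase.mpr ⟨hxa, Finset.mem_univ _⟩,
          Finset.mem_filter.mpr ⟨Finset.mem_univ _, hg1, (Finset.mem_filter.mp hgA).2, hx⟩⟩)
    · intro h
      refine ⟨Finset.mem_filter.mpr ⟨Finset.mem_univ _, (h a).mpr rfl⟩, fun hm => ?_⟩
      rcases Finset.mem_insert.mp hm with rfl | hm
      · exact hab ((h b).mp (one_smul _ _)).symm
      · obtain ⟨x, hx, hx'⟩ := Finset.mem_biUnion.mp hm
        exact Finset.ne_of_mem_erase hx ((h x).mp (Finset.mem_filter.mp hx').2.2.2)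
  rw [← hF, Set.ncard_coe_finset, Finset.card_sdiff_of_subset hsub,
    Finset.card_insert_of_notMem h1, hAc, hBc]
  have hd1 : 1 < d := one_lt_card_pairStab hZ hab
  have h3 := three_le_card hZ hab
  obtain ⟨e, he⟩ : ∃ e, d = e + 1 := ⟨d - 1, by omega⟩
  rw [he, Nat.add_sub_cancel, Nat.mul_succ]
  omega

/-- An involution has at most two fixed points, and their number has the parity of the degree. -/
theorem fixedBy_le_two [Fintype Ω] (hZ : Cfsg.IsZassenhausGroup G Ω) {g : G} (hg : g ≠ 1) :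
    Nat.card (fixedBy Ω g) ≤ 2 := by
  by_contra h
  rw [Nat.card_coe_set_eq, not_le, Set.two_lt_ncard (Set.toFinite _)] at h
  obtain ⟨x, hx, y, hy, z, hz, hxy, hxz, hyz⟩ := h
  exact hg (eq_one hZ hxy hyz hxz hx hy hz)

theorem fixedBy_modEq [Fintype Ω] {s : G} (hs : s * s = 1) :
    Fintype.card Ω ≡ Nat.card (fixedBy Ω s) [MOD 2] := by
  haveI : Fact (Nat.Prime 2) := ⟨Nat.prime_two⟩
  let f : Function.End Ω := fun x => s • x
  have hf : f ^ 2 ^ 1 = 1 := by
    rw [pow_one, pow_two]
    funext x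
    change s • s • x = x
    rw [← mul_smul, hs, one_smul]
  have h := Equiv.Perm.card_fixedPoints_modEq (p := 2) (n := 1) hf
  refine h.trans (Eq.congr_right ?_ |>.mp rfl)
  rw [Fintype.card_eq_nat_card]
  rfl

theorem sq_eq_one_of_orderOf {s : G} (hs : orderOf s = 2) : s * s = 1 := by
  rw [← pow_two, ← hs, pow_orderOf_eq_one]

theorem ne_one_of_orderOf {s : G} (hs : orderOf s = 2) : s ≠ 1 := fun e => by
  rw [e, orderOf_one] at hs; omega

theorem exists_involution_mem [Finite G] {a b : Ω} (heven : Even (Nat.card (pairStab G a b))) :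
    ∃ z ∈ pairStab G a b, orderOf z = 2 := by
  obtain ⟨z, hz⟩ := exists_prime_orderOf_dvd_card' (G := pairStab G a b) 2 heven.two_dvd
  exact ⟨z, z.2, by rwa [Subgroup.orderOf_coe]⟩

theorem even_card_of_even [Finite G] [Fintype Ω] (hZ : Cfsg.IsZassenhausGroup G Ω) {a b : Ω}
    (hab : a ≠ b) (heven : Even (Nat.card (pairStab G a b))) : Even (Fintype.card Ω) := by
  have h := heven.two_dvd.trans (card_pairStab_dvd hZ hab)
  have := three_le_card hZ hab
  rw [Nat.even_iff]
  omega

theorem fixed_pair_eq [Fintype Ω] (hZ : Cfsg.IsZassenhausGroup G Ω) {g : G} (hg : g ≠ 1)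
    {x y : Ω} (hxy : x ≠ y) (hx : g • x = x) (hy : g • y = y) : fixedBy Ω g = {x, y} := by
  ext z
  constructor
  · intro hz
    exact eq_one_of_fix_three hZ hg hxy hx hy hz
  · rintro (rfl | rfl)
    · exact hx
    · exact hy

theorem exists_swapping_of_even [Finite G] [Fintype Ω] (hZ : Cfsg.IsZassenhausGroup G Ω) {a b : Ω}
    (hab : a ≠ b) (heven : Even (Nat.card (pairStab G a b))) :
    ∃ s : G, orderOf s = 2 ∧ s • a = b ∧ s • b = a ∧ Nat.card (fixedBy Ω s) = 2 := by
  obtain ⟨z, hz, hz2⟩ := exists_involution_mem heven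
  obtain ⟨c, hca, hcb⟩ := exists_ne_ne hZ a b
  have hz1 := ne_one_of_orderOf hz2
  have hzc : z • c ≠ c := smul_ne hZ hab hz hz1 hca hcb
  obtain ⟨k, hk1, hk2⟩ := exists_smul_pair hZ (Ne.symm hzc) hab
  have hzz : z • z • c = c := by rw [← mul_smul, sq_eq_one_of_orderOf hz2, one_smul]
  have h1 : k⁻¹ • a = c := by rw [inv_smul_eq_iff, hk1]
  have h2 : k⁻¹ • b = z • c := by rw [inv_smul_eq_iff, hk2]
  have hne : k * z * k⁻¹ ≠ 1 := by simpa using hz1
  refine ⟨k * z * k⁻¹, ?_, ?_, ?_, ?_⟩
  · rw [← hz2]; exact (MulAut.conj k).orderOf_eq z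
  · rw [mul_smul, mul_smul, h1, hk2]
  · rw [mul_smul, mul_smul, h2, hzz, hk1]
  · have hk : k • a ≠ k • b := fun e => hab (smul_left_cancel k e)
    have := conj_mem_pairStab (g := k) hz
    rw [Nat.card_coe_set_eq, fixed_pair_eq hZ hne hk this.1 this.2, Set.ncard_pair hk]

theorem exists_swapping [Finite G] [Fintype Ω] (hZ : Cfsg.IsZassenhausGroup G Ω) {a b : Ω}
    (hab : a ≠ b) : ∃ s : G, orderOf s = 2 ∧ s • a = b ∧ s • b = a := by
  rcases Nat.even_or_odd (Nat.card (pairStab G a b)) with h | h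
  · obtain ⟨s, h1, h2, h3, -⟩ := exists_swapping_of_even hZ hab h
    exact ⟨s, h1, h2, h3⟩
  obtain ⟨g, hga, hgb⟩ := exists_smul_pair hZ hab (Ne.symm hab)
  have hmem : g * g ∈ pairStab G a b := by
    rw [mem_pairStab, mul_smul, mul_smul, hga, hgb, hga]; exact ⟨rfl, rfl⟩
  set d := Nat.card (pairStab G a b)
  have hd : (g * g) ^ d = 1 :=
    congrArg Subtype.val (pow_card_eq_one' (G := pairStab G a b) (x := ⟨g * g, hmem⟩))
  obtain ⟨k, hk⟩ := h
  have hpow : ∀ j, ((g * g) ^ j) • a = a ∧ ((g * g) ^ j) • b = b := fun j =>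
    (pow_mem hmem j : _ ∈ pairStab G a b)
  have hgd : g ^ d = (g * g) ^ k * g := by
    rw [hk, pow_succ, pow_mul, pow_two]
  have hsa : g ^ d • a = b := by rw [hgd, mul_smul, hga, (hpow k).2]
  have hsb : g ^ d • b = a := by rw [hgd, mul_smul, hgb, (hpow k).1]
  have hne : g ^ d ≠ 1 := fun e => hab (by rw [← hsa, e, one_smul])
  refine ⟨g ^ d, ?_, hsa, hsb⟩
  haveI : Fact (Nat.Prime 2) := ⟨Nat.prime_two⟩
  refine orderOf_eq_prime ?_ hne
  rw [← pow_mul, mul_comm, pow_mul, pow_two]
  exact hd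

section EvenOrder

variable [Finite G] [Fintype Ω] (hZ : Cfsg.IsZassenhausGroup G Ω) {a b : Ω}

include hZ

/-- A product of two involutions fixing `a`, with different second fixed points, fixes only `a`. -/
theorem mul_fixOnly {x y : Ω} (hax : a ≠ x) {t u : G} (ht : orderOf t = 2)
    (hu : orderOf u = 2) (hta : t • a = a) (hua : u • a = a) (htx : t • x = x)
    (hy : u • y = y) (hay : a ≠ y) (hxy : x ≠ y) : fixOnly a (t * u) := by
  have ht1 := ne_one_of_orderOf ht
  have hu1 := ne_one_of_orderOf hu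
  intro e
  constructor
  · intro he
    by_contra hea
    rw [mul_smul] at he
    have hue : u • e = t • e := by
      have := congrArg (fun z => t • z) he
      simp only [← mul_smul, ← mul_assoc, sq_eq_one_of_orderOf ht, one_mul] at this
      exact this
    have hf : t • e ≠ a := fun h => hea (smul_left_cancel t (h.trans hta.symm))
    have huu : u • t • e = e := by rw [← hue, ← mul_smul, sq_eq_one_of_orderOf hu, one_smul]
    have htt : t • u • e = e := he
    by_cases hee : t • e = e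
    · rcases eq_one_of_fix_three hZ ht1 hax hta htx hee with h | h
      · exact hea h
      rw [hee] at hue
      rcases eq_one_of_fix_three hZ hu1 hay hua hy hue with h' | h'
      · exact hea h'
      · exact hxy (h.symm.trans h')
    · have h1 : (t * u) • (t • e) = t • e := by rw [mul_smul, huu]
      have h2 : (t * u) • a = a := by rw [mul_smul, hua, hta]
      have h3 : (t * u) • e = e := by rw [mul_smul, htt]
      have h4 := eq_one hZ (Ne.symm hea) (Ne.symm hee) (Ne.symm hf) h2 h3 h1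
      have htu : t = u := by
        have := eq_inv_of_mul_eq_one_left h4
        rwa [inv_eq_of_mul_eq_one_left (sq_eq_one_of_orderOf hu)] at this
      subst htu
      rcases eq_one_of_fix_three hZ ht1 hax hta htx hy with h | h
      · exact hay h.symm
      · exact hxy h.symm
  · rintro rfl
    rw [mul_smul, hua, hta]

/-- A two-point stabiliser of even order has exactly one involution. -/
theorem involution_unique (hab : a ≠ b) {t u : G} (ht : t ∈ pairStab G a b) (ht2 : orderOf t = 2)
    (hu : u ∈ pairStab G a b) (hu2 : orderOf u = 2) : t = u := by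
  haveI := Fintype.ofFinite G
  set S : Finset G := (Finset.univ.erase a).biUnion
    (fun x => Finset.univ.filter (fun g => orderOf g = 2 ∧ g ∈ pairStab G a x)) with hS
  set k := (Finset.univ.filter (fun g : G => orderOf g = 2 ∧ g ∈ pairStab G a b)).card with hk
  have hSb : ∀ x ∈ Finset.univ.erase a,
      (Finset.univ.filter (fun g : G => orderOf g = 2 ∧ g ∈ pairStab G a x)).card = k := by
    intro x hx
    obtain ⟨g, hga, hgb⟩ := exists_smul_pair hZ hab (Ne.symm (Finset.ne_of_mem_erase hx))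
    refine Finset.card_bij' (fun z _ => g⁻¹ * z * g) (fun z _ => g * z * g⁻¹) ?_ ?_ ?_ ?_
    · intro z hz
      simp only [Finset.mem_filter, Finset.mem_univ, true_and] at hz ⊢
      refine ⟨hz.1 ▸ ?_, ?_⟩
      · simpa using (MulAut.conj g⁻¹).orderOf_eq z
      · have := conj_mem_pairStab (g := g⁻¹) hz.2
        rw [inv_inv] at this
        rwa [show g⁻¹ • a = a by rw [inv_smul_eq_iff, hga], show g⁻¹ • x = b by rw [inv_smul_eq_iff, hgb]] at this
    · intro z hz
      simp only [Finset.mem_filter, Finset.mem_univ, true_and] at hz ⊢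
      refine ⟨hz.1 ▸ ?_, ?_⟩
      · exact (MulAut.conj g).orderOf_eq z
      · have := conj_mem_pairStab (g := g) hz.2
        rwa [hga, hgb] at this
    · intro z _; group
    · intro z _; group
  have hdisj : ∀ g : G, orderOf g = 2 → ∀ x y, x ≠ a → g ∈ pairStab G a x → g ∈ pairStab G a y →
      y ≠ a → x = y := by
    intro g hg x y hx hgx hgy hy
    rcases eq_one_of_fix_three hZ (ne_one_of_orderOf hg) (Ne.symm hx) hgx.1 hgx.2 hgy.2 with e | e
    · exact absurd e hy
    · exact e.symm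
  have hScard : S.card = (Fintype.card Ω - 1) * k := by
    rw [hS, Finset.card_biUnion, Finset.sum_const_nat hSb, Finset.card_erase_of_mem (Finset.mem_univ _),
      Finset.card_univ]
    intro x hx y hy hxy
    simp only [Function.onFun, Finset.disjoint_left, Finset.mem_filter, Finset.mem_univ, true_and]
    rintro g ⟨hg, hgx⟩ ⟨-, hgy⟩
    exact hxy (hdisj g hg x y (Finset.ne_of_mem_erase hx) hgx hgy (Finset.ne_of_mem_erase hy))
  set T : Finset G := Finset.univ.filter (fun g => orderOf g = 2 ∧ g ∈ pairStab G a b) with hT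
  have hTS : T ⊆ S := fun g hg =>
    Finset.mem_biUnion.mpr ⟨b, Finset.mem_erase.mpr ⟨Ne.symm hab, Finset.mem_univ _⟩, hg⟩
  have hmap : ((S \ T).image (fun u => t * u)).card ≤ {g : G | fixOnly a g}.ncard := by
    rw [← Set.ncard_coe_finset]
    refine Set.ncard_le_ncard ?_ (Set.toFinite _)
    intro w hw
    simp only [Finset.coe_image, Set.mem_image, Finset.mem_coe, Finset.mem_sdiff] at hw
    obtain ⟨v, ⟨hvS, hvT⟩, rfl⟩ := hw
    obtain ⟨x, hx, hvx⟩ := Finset.mem_biUnion.mp hvS
    simp only [Finset.mem_filter, Finset.mem_univ, true_and] at hvx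
    have hbx : b ≠ x := by
      rintro rfl
      exact hvT (Finset.mem_filter.mpr ⟨Finset.mem_univ _, hvx⟩)
    exact mul_fixOnly hZ hab ht2 hvx.1 ht.1 hvx.2.1 ht.2 hvx.2.2
      (Ne.symm (Finset.ne_of_mem_erase hx)) hbx
  rw [Finset.card_image_of_injective _ (mul_right_injective t), Finset.card_sdiff_of_subset hTS,
    hScard, ← hk] at hmap
  have hfix := ncard_fixOnly hZ a
  have h3 := three_le_card hZ hab
  obtain ⟨N, hN⟩ : ∃ N, Fintype.card Ω = N + 3 := ⟨Fintype.card Ω - 3, by omega⟩
  rw [hN, show N + 3 - 1 = (N + 1) + 1 by omega, add_mul (N + 1) 1 k, one_mul, Nat.add_sub_cancel] at hmap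
  have hle : k ≤ 1 := by
    by_contra hk2
    have := Nat.mul_le_mul_left (N + 1) (show 2 ≤ k by omega)
    omega
  refine Finset.card_le_one.mp (hk ▸ hle) t ?_ u ?_
  · exact Finset.mem_filter.mpr ⟨Finset.mem_univ _, ht2, ht⟩
  · exact Finset.mem_filter.mpr ⟨Finset.mem_univ _, hu2, hu⟩

/-- Even two-point stabilisers: the elements fixing only `a`, with the identity, form an abelian
subgroup; it is inverted by every involution fixing `a`. -/
theorem exists_kernel (hab : a ≠ b) (heven : Even (Nat.card (pairStab G a b))) :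
    ∃ K : Subgroup G, IsMulCommutative K ∧ (∀ g : G, g ∈ K ↔ g = 1 ∨ fixOnly a g) := by
  obtain ⟨t, ht, ht2⟩ := exists_involution_mem heven
  have htt := sq_eq_one_of_orderOf ht2
  have hinv : ∀ x, x ≠ a → ∃ v : G, orderOf v = 2 ∧ v • a = a ∧ v • x = x := by
    intro x hx
    obtain ⟨v, hv, hv2⟩ := exists_involution_mem (G := G) (a := a) (b := x)
      (by rwa [card_pairStab_eq hZ hab (Ne.symm hx)])
    exact ⟨v, hv2, hv.1, hv.2⟩
  choose v hv2 hva hvx using hinv
  have hform : ∀ g : G, (g = 1 ∨ fixOnly a g) ↔ ∃ x, ∃ hx : x ≠ a, g = t * v x hx := by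
    haveI := Fintype.ofFinite G
    set f : {x : Ω // x ≠ a} → G := fun x => t * v x.1 x.2 with hf
    have hinj : Function.Injective f := by
      intro x y e
      have e' := mul_left_cancel e
      apply Subtype.ext
      rcases eq_one_of_fix_three hZ (ne_one_of_orderOf (hv2 x.1 x.2)) (Ne.symm x.2) (hva x.1 x.2)
        (hvx x.1 x.2) (e' ▸ hvx y.1 y.2) with h | h
      · exact absurd h y.2
      · exact h.symm
    have hvb : v b (Ne.symm hab) = t :=
      involution_unique hZ hab ⟨hva _ _, hvx _ _⟩ (hv2 _ _) ht ht2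
    have hsub : Set.range f ⊆ insert 1 {g : G | fixOnly a g} := by
      rintro _ ⟨⟨x, hx⟩, rfl⟩
      by_cases hxb : x = b
      · subst hxb; left; simp only [hf]; rw [hvb, htt]
      · right
        exact mul_fixOnly hZ hab ht2 (hv2 x hx) ht.1 (hva x hx) ht.2 (hvx x hx) (Ne.symm hx)
          (Ne.symm hxb)
    have heq : Set.range f = insert 1 {g : G | fixOnly a g} := by
      refine Set.eq_of_subset_of_ncard_le hsub ?_ (Set.toFinite _)
      rw [← Nat.card_coe_set_eq (Set.range f), Nat.card_range_of_injective hinj,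
        Nat.card_eq_fintype_card, Fintype.card_subtype_compl, Fintype.card_subtype_eq]
      refine (Set.ncard_insert_le _ _).trans ?_
      have := ncard_fixOnly hZ a
      omega
    intro g
    rw [← Set.mem_ofPred_eq (p := fun g => fixOnly a g), ← Set.mem_insert_iff, ← heq]
    constructor
    · rintro ⟨⟨x, hx⟩, rfl⟩; exact ⟨x, hx, rfl⟩
    · rintro ⟨x, hx, rfl⟩; exact ⟨⟨x, hx⟩, rfl⟩
  have hprod : ∀ x y (hx : x ≠ a) (hy : y ≠ a), v x hx * v y hy = 1 ∨ fixOnly a (v x hx * v y hy) := by
    intro x y hx hy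
    by_cases hxy : x = y
    · subst hxy; exact Or.inl (sq_eq_one_of_orderOf (hv2 x hx))
    · exact Or.inr (mul_fixOnly hZ (Ne.symm hx) (hv2 x hx) (hv2 y hy) (hva x hx) (hva y hy)
        (hvx x hx) (hvx y hy) (Ne.symm hy) hxy)
  have hconj : ∀ x (hx : x ≠ a), ∃ x', ∃ hx' : x' ≠ a, t * v x hx * t = v x' hx' := by
    intro x hx
    have hx' : t • x ≠ a := fun e => hx (smul_left_cancel t (e.trans ht.1.symm))
    refine ⟨t • x, hx', involution_unique hZ (Ne.symm hx') ?_ ?_ ⟨hva _ hx', hvx _ hx'⟩ (hv2 _ hx')⟩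
    · have hti : t⁻¹ = t := inv_eq_of_mul_eq_one_left htt
      have := conj_mem_pairStab (g := t) (show v x hx ∈ pairStab G a x from ⟨hva x hx, hvx x hx⟩)
      rwa [hti, ht.1] at this
    · have hti : t⁻¹ = t := inv_eq_of_mul_eq_one_left htt
      rw [← hv2 x hx]
      have := (MulAut.conj t).orderOf_eq (v x hx)
      rwa [MulAut.conj_apply, hti] at this
  have hmul : ∀ g h : G, (g = 1 ∨ fixOnly a g) → (h = 1 ∨ fixOnly a h) →
      (g * h = 1 ∨ fixOnly a (g * h)) := by
    intro g h hg hh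
    obtain ⟨x, hx, rfl⟩ := (hform g).mp hg
    obtain ⟨y, hy, rfl⟩ := (hform h).mp hh
    obtain ⟨x', hx', e⟩ := hconj x hx
    rw [← mul_assoc, e]
    exact hprod x' y hx' hy
  have hinv' : ∀ g : G, (g = 1 ∨ fixOnly a g) → (g⁻¹ = 1 ∨ fixOnly a g⁻¹) ∧ t * g * t = g⁻¹ := by
    intro g hg
    obtain ⟨x, hx, rfl⟩ := (hform g).mp hg
    have e : (t * v x hx)⁻¹ = v x hx * t := by
      rw [mul_inv_rev, inv_eq_of_mul_eq_one_left htt,
        inv_eq_of_mul_eq_one_left (sq_eq_one_of_orderOf (hv2 x hx))]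
    refine ⟨?_, ?_⟩
    · rw [e]
      have := hprod x b hx (Ne.symm hab)
      rwa [involution_unique hZ hab ⟨hva _ _, hvx _ _⟩ (hv2 b (Ne.symm hab)) ht ht2] at this
    · rw [e, ← mul_assoc, htt, one_mul]
  let K : Subgroup G :=
    { carrier := {g | g = 1 ∨ fixOnly a g}
      one_mem' := Or.inl rfl
      mul_mem' := fun hg hh => hmul _ _ hg hh
      inv_mem' := fun hg => (hinv' _ hg).1 }
  refine ⟨K, ⟨⟨fun g h => Subtype.ext ?_⟩⟩, fun g => Iff.rfl⟩
  show (g : G) * h = h * g
  have h1 := (hinv' _ g.2).2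
  have h2 := (hinv' _ h.2).2
  have h3 := (hinv' _ (mul_mem g.2 h.2 : (g : G) * h ∈ K)).2
  have : (g : G)⁻¹ * (h : G)⁻¹ = (h : G)⁻¹ * (g : G)⁻¹ := by
    rw [← mul_inv_rev (g : G) h, ← h3, ← h1, ← h2]
    calc t * (g : G) * t * (t * h * t) = t * g * (t * t) * h * t := by group
      _ = t * (g * h) * t := by rw [htt]; group
  have h4 := congrArg (·⁻¹) this
  simpa using h4.symm

/-- With two-point stabilisers of even order, exactly half of the remaining points is the number of
involutions with fixed points interchanging two given points. -/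
theorem two_mul_swapping (hab : a ≠ b) (heven : Even (Nat.card (pairStab G a b))) :
    2 * {z : G | orderOf z = 2 ∧ (∃ x : Ω, z • x = x) ∧ z • a = b ∧ z • b = a}.ncard
      = Fintype.card Ω - 2 := by
  haveI := Fintype.ofFinite G
  have h3 := three_le_card hZ hab
  have hpar := Nat.even_iff.mp (even_card_of_even hZ hab heven)
  set Z : Finset G := Finset.univ.filter (fun z => orderOf z = 2 ∧ ∃ x : Ω, z • x = x) with hZdef
  set P : Finset (Ω × Ω) := (Finset.univ : Finset Ω).offDiag with hP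
  have hfix : ∀ z ∈ Z, Nat.card (fixedBy Ω z) = 2 := by
    intro z hz
    obtain ⟨hz2, x, hx⟩ := (Finset.mem_filter.mp hz).2
    have hle := fixedBy_le_two hZ (G := G) (Ω := Ω) (ne_one_of_orderOf hz2)
    have hmod := fixedBy_modEq (Ω := Ω) (sq_eq_one_of_orderOf hz2)
    have hpos : 0 < Nat.card (fixedBy Ω z) := by
      rw [Nat.card_coe_set_eq, Set.ncard_pos (Set.toFinite _)]; exact ⟨x, hx⟩
    unfold Nat.ModEq at hmod
    omega
  have h1 := Finset.sum_card_bipartiteAbove_eq_sum_card_bipartiteBelow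
    (fun (z : G) (p : Ω × Ω) => z • p.1 = p.1 ∧ z • p.2 = p.2) (s := Z) (t := P)
  have hL1 : ∀ z ∈ Z, (P.bipartiteAbove (fun (z : G) (p : Ω × Ω) => z • p.1 = p.1 ∧ z • p.2 = p.2) z).card = 2 := by
    intro z hz
    have hF : (Finset.univ.filter (fun x : Ω => z • x = x)).card = 2 := by
      rw [← hfix z hz, Nat.card_eq_fintype_card, ← Set.toFinset_card]
      congr 1; ext x; rw [Set.mem_toFinset, Finset.mem_filter]; exact and_iff_right (Finset.mem_univ x)
    have : P.bipartiteAbove (fun (z : G) (p : Ω × Ω) => z • p.1 = p.1 ∧ z • p.2 = p.2) z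
        = (Finset.univ.filter (fun x : Ω => z • x = x)).offDiag := by
      ext ⟨x, y⟩
      simp [hP, Finset.bipartiteAbove]
      tauto
    rw [this, Finset.offDiag_card, hF]
  have hR1 : ∀ p ∈ P, (Z.bipartiteBelow (fun (z : G) (p : Ω × Ω) => z • p.1 = p.1 ∧ z • p.2 = p.2) p).card = 1 := by
    intro p hp
    have hne : p.1 ≠ p.2 := (Finset.mem_offDiag.mp hp).2.2
    have hev : Even (Nat.card (pairStab G p.1 p.2)) := by rwa [card_pairStab_eq hZ hab hne]
    obtain ⟨z, hz, hz2⟩ := exists_involution_mem hev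
    rw [Finset.card_eq_one]
    refine ⟨z, ?_⟩
    ext w
    simp only [Finset.mem_bipartiteBelow, hZdef, Finset.mem_filter, Finset.mem_univ, true_and,
      Finset.mem_singleton]
    constructor
    · rintro ⟨⟨hw2, -⟩, hw⟩
      exact involution_unique hZ hne hw hw2 hz hz2
    · rintro rfl
      exact ⟨⟨hz2, p.1, hz.1⟩, hz.1, hz.2⟩
  rw [Finset.sum_congr rfl hL1, Finset.sum_congr rfl hR1, Finset.sum_const, Finset.sum_const,
    smul_eq_mul, smul_eq_mul, mul_one] at h1
  have h2 := Finset.sum_card_bipartiteAbove_eq_sum_card_bipartiteBelow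
    (fun (z : G) (p : Ω × Ω) => z • p.1 = p.2 ∧ z • p.2 = p.1) (s := Z) (t := P)
  have hL2 : ∀ z ∈ Z, (P.bipartiteAbove (fun (z : G) (p : Ω × Ω) => z • p.1 = p.2 ∧ z • p.2 = p.1) z).card
      = Fintype.card Ω - 2 := by
    intro z hz
    have hzz : ∀ x : Ω, z • z • x = x := fun x => by
      rw [← mul_smul, sq_eq_one_of_orderOf (Finset.mem_filter.mp hz).2.1, one_smul]
    have hM : (Finset.univ.filter (fun x : Ω => z • x ≠ x)).card = Fintype.card Ω - 2 := by
      have := Finset.card_filter_add_card_filter_not (s := (Finset.univ : Finset Ω)) (fun x : Ω => z • x = x)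
      have hF : (Finset.univ.filter (fun x : Ω => z • x = x)).card = 2 := by
        rw [← hfix z hz, Nat.card_eq_fintype_card, ← Set.toFinset_card]
        congr 1; ext x; rw [Set.mem_toFinset, Finset.mem_filter]; exact and_iff_right (Finset.mem_univ x)
      rw [Finset.card_univ] at this
      simp only [ne_eq]
      omega
    rw [← hM]
    refine Finset.card_bij' (fun p _ => p.1) (fun x _ => (x, z • x)) ?_ ?_ ?_ ?_
    · intro p hp
      simp [hP, Finset.bipartiteAbove] at hp ⊢
      intro e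
      exact hp.1 (e.symm.trans hp.2.1)
    · intro x hx
      simp [hP, Finset.bipartiteAbove] at hx ⊢
      exact ⟨fun e => hx e.symm, hzz x⟩
    · intro p hp
      simp [hP, Finset.bipartiteAbove] at hp
      exact Prod.ext rfl hp.2.1
    · intro x _; rfl
  set m := {z : G | orderOf z = 2 ∧ (∃ x : Ω, z • x = x) ∧ z • a = b ∧ z • b = a}.ncard with hm
  have hR2 : ∀ p ∈ P, (Z.bipartiteBelow (fun (z : G) (p : Ω × Ω) => z • p.1 = p.2 ∧ z • p.2 = p.1) p).card = m := by
    intro p hp
    have hne : p.1 ≠ p.2 := (Finset.mem_offDiag.mp hp).2.2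
    obtain ⟨g, hga, hgb⟩ := exists_smul_pair hZ hab hne
    rw [hm, Set.ncard_eq_toFinset_card']
    refine Finset.card_bij' (fun z _ => g⁻¹ * z * g) (fun z _ => g * z * g⁻¹) ?_ ?_ ?_ ?_
    · intro z hz
      simp only [Finset.mem_bipartiteBelow, hZdef, Finset.mem_filter, Finset.mem_univ, true_and] at hz
      simp only [Set.mem_toFinset, Set.mem_ofPred_eq, mul_smul]
      obtain ⟨⟨h2z, x, hx⟩, hp1, hp2⟩ := hz
      refine ⟨?_, ⟨g⁻¹ • x, by rw [smul_inv_smul, hx]⟩, ?_, ?_⟩
      · rw [← h2z]; simpa using (MulAut.conj g⁻¹).orderOf_eq z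
      · rw [hga, hp1, ← hgb, inv_smul_smul]
      · rw [hgb, hp2, ← hga, inv_smul_smul]
    · intro z hz
      simp only [Set.mem_toFinset, Set.mem_ofPred_eq] at hz
      simp only [Finset.mem_bipartiteBelow, hZdef, Finset.mem_filter, Finset.mem_univ, true_and,
        mul_smul]
      obtain ⟨h2z, ⟨x, hx⟩, hza, hzb⟩ := hz
      refine ⟨⟨?_, g • x, by rw [inv_smul_smul, hx]⟩, ?_, ?_⟩
      · rw [← h2z]; exact (MulAut.conj g).orderOf_eq z
      · rw [show g⁻¹ • p.1 = a by rw [inv_smul_eq_iff, hga], hza, hgb]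
      · rw [show g⁻¹ • p.2 = b by rw [inv_smul_eq_iff, hgb], hzb, hga]
    · intro z _; group
    · intro z _; group
  rw [Finset.sum_congr rfl hL2, Finset.sum_congr rfl hR2, Finset.sum_const, Finset.sum_const,
    smul_eq_mul, smul_eq_mul] at h2
  have hPpos : 0 < P.card := Finset.card_pos.mpr ⟨(a, b), Finset.mem_offDiag.mpr ⟨Finset.mem_univ _, Finset.mem_univ _, hab⟩⟩
  rw [← h1] at h2 hPpos
  have : Z.card * (Fintype.card Ω - 2) = Z.card * (2 * m) := by rw [h2]; ring
  exact (Nat.eq_of_mul_eq_mul_left (by omega) this).symm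

/-- The two-point stabiliser of even order has order at least half of the remaining points. -/
theorem le_two_mul_card (hab : a ≠ b) (heven : Even (Nat.card (pairStab G a b))) :
    Fintype.card Ω - 2 ≤ 2 * Nat.card (pairStab G a b) := by
  rw [← two_mul_swapping hZ hab heven]
  obtain ⟨s, -, hsa, hsb⟩ := exists_swapping hZ hab
  refine Nat.mul_le_mul_left 2 ?_
  rw [← Nat.card_coe_set_eq]
  refine Nat.card_le_card_of_injective (β := pairStab G a b)
    (fun z => ⟨s * (z : G), mem_pairStab.mpr ⟨?_, ?_⟩⟩) ?_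
  · rw [mul_smul, z.2.2.2.1, hsb]
  · rw [mul_smul, z.2.2.2.2, hsa]
  · intro z w e
    exact Subtype.ext (mul_left_cancel (congrArg Subtype.val e))

end EvenOrder

end CfsgLib.PermSmall.Zassenhaus
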