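import Mathlib
import Cfsg.Agent.Lib.PermSmall.Zassenhaus
import Cfsg.Agent.Lib.Frobenius.Theorem
import Cfsg.Agent.Lib.Frobenius.Action
import Cfsg.Agent.Lib.Solvable.FrobeniusCenter

/-!
Two-point stabilisers of odd order in Zassenhaus groups without normal `q`-complements.
-/

set_option autoImplicit false

namespace CfsgLib.PermSmall.OddStab

open MulAction
open scoped Pointwise
open CfsgLib.PermSmall.Zassenhaus (pairStab)

/-- A group of odd order whose abelian subgroups are cyclic has cyclic Sylow subgroups. -/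
theorem isZGroup_of_abelian_cyclic {H : Type*} [Group H] [Finite H] (hodd : Odd (Nat.card H))
    (hab : ∀ L : Subgroup H, IsMulCommutative L → IsCyclic L) : IsZGroup H := by
  rw [isZGroup_iff]
  intro p hp S
  haveI : Fact p.Prime := ⟨hp⟩
  obtain ⟨n, hn⟩ := IsPGroup.iff_card.1 S.isPGroup'
  show IsCyclic (S : Subgroup H)
  refine CfsgLib.SubgroupCount.isCyclic_of_unique hp n hn ?_ fun hp2 => ?_
  · rcases subsingleton_or_nontrivial (S : Subgroup H) with hsub | hnt
    · intro a b _ _
      rw [Subsingleton.elim b a]; exact Subgroup.mem_zpowers a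
    obtain ⟨k, hk⟩ := IsPGroup.iff_card.1 (S.isPGroup'.to_subgroup (Subgroup.center (S : Subgroup H)))
    have hk0 : k ≠ 0 := by
      rintro rfl
      rw [pow_zero] at hk
      exact S.isPGroup'.bot_lt_center.ne' (Subgroup.card_eq_one.1 hk)
    obtain ⟨z, hz⟩ := exists_prime_orderOf_dvd_card' p (hk ▸ dvd_pow_self p hk0)
    rw [← Subgroup.orderOf_coe] at hz
    have key : ∀ a : (S : Subgroup H), orderOf a = p →
        Subgroup.zpowers a = Subgroup.zpowers (z : (S : Subgroup H)) := by
      intro a ha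
      set L : Subgroup (S : Subgroup H) := Subgroup.closure {(z : (S : Subgroup H)), a} with hL
      haveI : IsMulCommutative L := by
        refine Subgroup.isMulCommutative_closure fun x hx y hy => ?_
        rcases hx with rfl | rfl <;> rcases hy with rfl | rfl
        · rfl
        · exact (Subgroup.mem_center_iff.1 z.2 y).symm
        · exact Subgroup.mem_center_iff.1 z.2 x
        · rfl
      haveI : IsCyclic (L.map (S : Subgroup H).subtype) := hab _ inferInstance
      haveI : IsCyclic L := isCyclic_of_injective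
        (L.equivMapOfInjective _ (S : Subgroup H).subtype_injective).toMonoidHom
        (MulEquiv.injective _)
      have hcard : ∀ w : (S : Subgroup H), ∀ hw : w ∈ L, orderOf w = p →
          Nat.card (Subgroup.zpowers (⟨w, hw⟩ : L)) = p := fun w hw ho => by
        rw [Nat.card_zpowers, ← Subgroup.orderOf_coe]; exact ho
      have haL : a ∈ L := Subgroup.subset_closure (by simp)
      have hzL : (z : (S : Subgroup H)) ∈ L := Subgroup.subset_closure (by simp)
      have heq : Subgroup.zpowers (⟨a, haL⟩ : L)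
          = Subgroup.zpowers (⟨(z : (S : Subgroup H)), hzL⟩ : L) := by
        refine CfsgLib.FrobeniusCenter.eq_of_card_eq_of_isCyclic ?_
        rw [hcard a haL ha, hcard _ hzL hz]
      have := congrArg (Subgroup.map L.subtype) heq
      simpa [MonoidHom.map_zpowers] using this
    intro a b ha hb
    rw [key a ha, ← key b hb]
    exact Subgroup.mem_zpowers b
  · intro H1 K1 hH4 _
    exfalso
    have h4 : 4 ∣ Nat.card (S : Subgroup H) := hH4 ▸ Subgroup.card_subgroup_dvd_card H1
    exact (Nat.not_even_iff_odd.2 hodd) (even_iff_two_dvd.2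
      ((dvd_trans (by norm_num) h4).trans (Subgroup.card_subgroup_dvd_card _)))

variable {G Ω : Type*} [Group G] [Finite G] [MulAction G Ω] [Fintype Ω]

theorem pairStab_ne_bot (hZ : Cfsg.IsZassenhausGroup G Ω) {a b : Ω} (hab : a ≠ b) :
    1 < Nat.card (pairStab G a b) := by
  obtain ⟨g, hg1, x, y, hxy, hx, hy⟩ := hZ.2.2.2.1
  rw [← Zassenhaus.card_pairStab_eq hZ hab hxy]
  haveI : Nontrivial (pairStab G x y) := ⟨⟨g, hx, hy⟩, 1, fun e => hg1 (congrArg Subtype.val e)⟩
  exact Finite.one_lt_card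

/-- The two-point stabiliser is a Frobenius complement in the stabiliser of a point. -/
theorem isFrobeniusComplement (hZ : Cfsg.IsZassenhausGroup G Ω) {a b : Ω} (hab : a ≠ b) :
    Cfsg.IsFrobeniusComplement ((pairStab G a b).subgroupOf (stabilizer G a)) := by
  refine ⟨?_, ?_, ?_⟩
  · intro h
    have : Nat.card (pairStab G a b) = 1 := by
      rw [← Nat.card_congr (Subgroup.subgroupOfEquivOfLe
        (show pairStab G a b ≤ stabilizer G a from inf_le_left)).toEquiv, h, Subgroup.card_bot]
    exact (pairStab_ne_bot hZ hab).ne' this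
  · intro h
    obtain ⟨c, hca, hcb⟩ := Zassenhaus.exists_ne_ne hZ a b
    obtain ⟨g, hga, hgb⟩ := Zassenhaus.exists_smul_pair hZ hab (Ne.symm hca)
    have hg : (⟨g, hga⟩ : stabilizer G a) ∈ (pairStab G a b).subgroupOf (stabilizer G a) :=
      h ▸ Subgroup.mem_top _
    rw [Subgroup.mem_subgroupOf] at hg
    exact hcb (hgb.symm.trans hg.2)
  · intro g hg
    rw [eq_bot_iff]
    rintro x ⟨hx1, hx2⟩
    rw [Subgroup.mem_bot]
    change x ∈ MulAut.conj g • (pairStab G a b).subgroupOf (stabilizer G a) at hx2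
    rw [Subgroup.mem_pointwise_smul_iff_inv_smul_mem] at hx2
    have hx2' : (g : G)⁻¹ * x * g ∈ pairStab G a b := by
      simpa [Subgroup.mem_subgroupOf, ← map_inv] using hx2
    have hgb : (g : G) • b ≠ b := fun e => hg ⟨g.2, e⟩
    have hga : (g : G) • b ≠ a := fun e =>
      hab (smul_left_cancel (g : G) ((show (g : G) • a = a from g.2).trans e.symm))
    refine Subtype.ext (Zassenhaus.eq_one hZ hab (Ne.symm hgb) (Ne.symm hga) hx1.1 hx1.2 ?_)
    have := (Zassenhaus.mem_pairStab.mp hx2').2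
    rw [mul_smul, mul_smul, inv_smul_eq_iff] at this
    exact this

/-- Abelian subgroups of a two-point stabiliser are cyclic. -/
theorem isCyclic_of_commutative (hZ : Cfsg.IsZassenhausGroup G Ω) {a b : Ω} (hab : a ≠ b)
    (L : Subgroup (pairStab G a b)) (hL : IsMulCommutative L) : IsCyclic L := by
  have hFC := isFrobeniusComplement hZ hab
  obtain ⟨K, -, hKn, hKc⟩ := CfsgLib.Frobenius.exists_normal_kernel hFC
  let i : pairStab G a b →* stabilizer G a := Subgroup.inclusion inf_le_left
  have hi : Function.Injective i := Subgroup.inclusion_injective _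
  haveI : IsCyclic (L.map i) := CfsgLib.Frobenius.isCyclic_le_complement_of_commutative hFC hKc
    (L := L.map i) (by rintro _ ⟨x, -, rfl⟩; exact x.2)
  exact isCyclic_of_injective (L.equivMapOfInjective i hi).toMonoidHom (MulEquiv.injective _)

theorem isZGroup_pairStab (hZ : Cfsg.IsZassenhausGroup G Ω) {a b : Ω} (hab : a ≠ b)
    (hodd : Odd (Nat.card (pairStab G a b))) : IsZGroup (pairStab G a b) :=
  isZGroup_of_abelian_cyclic hodd (isCyclic_of_commutative hZ hab)

/-- A prime dividing the order of an odd two-point stabiliser does not divide its index. -/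
theorem not_dvd_index (hZ : Cfsg.IsZassenhausGroup G Ω) {a b : Ω} (hab : a ≠ b) {q : ℕ}
    (hq : q.Prime) (hq2 : q ≠ 2) (hdvd : q ∣ Nat.card (pairStab G a b)) :
    ¬ q ∣ (pairStab G a b).index := by
  haveI : IsPretransitive G Ω :=
    ⟨fun x y => by
      obtain ⟨x', hx'⟩ : ∃ x', x ≠ x' := by
        rcases eq_or_ne x a with rfl | h
        · exact ⟨b, hab⟩
        · exact ⟨a, h⟩
      obtain ⟨y', hy'⟩ : ∃ y', y ≠ y' := by
        rcases eq_or_ne y a with rfl | h
        · exact ⟨b, hab⟩
        · exact ⟨a, h⟩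
      obtain ⟨g, hg, -⟩ := Zassenhaus.exists_smul_pair hZ hx' hy'
      exact ⟨g, hg⟩⟩
  have hn := Zassenhaus.three_le_card hZ hab
  have hidx : (pairStab G a b).index = Fintype.card Ω * (Fintype.card Ω - 1) := by
    have h1 := (pairStab G a b).index_mul_card
    have h2 := (stabilizer G a).index_mul_card
    rw [index_stabilizer_of_transitive, Nat.card_eq_fintype_card (α := Ω),
      Zassenhaus.card_stabilizer hZ hab] at h2
    rw [← h2, ← mul_assoc] at h1
    exact Nat.eq_of_mul_eq_mul_right Nat.card_pos h1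
  intro h
  rw [hidx] at h
  have h2 : q ∣ Fintype.card Ω - 2 := hdvd.trans (Zassenhaus.card_pairStab_dvd hZ hab)
  rcases hq.dvd_mul.mp h with h | h
  · have := Nat.dvd_sub h h2
    rw [show Fintype.card Ω - (Fintype.card Ω - 2) = 2 by omega] at this
    exact hq2 ((Nat.prime_dvd_prime_iff_eq hq Nat.prime_two).mp this)
  · have := Nat.dvd_sub h h2
    rw [show Fintype.card Ω - 1 - (Fintype.card Ω - 2) = 1 by omega] at this
    exact hq.not_dvd_one this

/-- An automorphism of order at most two of a cyclic group of odd prime power order is trivial or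
inversion. -/
theorem eq_inv_or_eq_self {Q : Type*} [Group Q] [Finite Q] [IsCyclic Q] {q k : ℕ} (hq : q.Prime)
    (hq2 : q ≠ 2) (hcard : Nat.card Q = q ^ k) (φ : Q →* Q) (hφ : ∀ u, φ (φ u) = u) :
    (∀ u, φ u = u⁻¹) ∨ ∀ u, φ u = u := by
  obtain ⟨g, hg⟩ := IsCyclic.exists_generator (α := Q)
  obtain ⟨m, hm⟩ := Subgroup.mem_zpowers_iff.mp (hg (φ g))
  have hord : orderOf g = q ^ k := by rw [orderOf_eq_card_of_forall_mem_zpowers hg, hcard]
  have h2 : ((q ^ k : ℕ) : ℤ) ∣ (m - 1) * (m + 1) := by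
    rw [← hord, orderOf_dvd_iff_zpow_eq_one, show (m - 1) * (m + 1) = m * m - 1 by ring, zpow_sub,
      zpow_one, zpow_mul, hm, ← map_zpow, hm, hφ, mul_inv_cancel]
  have hqi : Prime (q : ℤ) := Nat.prime_iff_prime_int.mp hq
  push_cast at h2
  by_cases hd : (q : ℤ) ∣ m - 1
  · have hd' : ¬ (q : ℤ) ∣ m + 1 := fun h => by
      have := dvd_sub h hd
      rw [show m + 1 - (m - 1) = ((2 : ℕ) : ℤ) by push_cast; ring, Int.natCast_dvd_natCast] at this
      exact hq2 ((Nat.prime_dvd_prime_iff_eq hq Nat.prime_two).mp this)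
    have h3 : ((orderOf g : ℕ) : ℤ) ∣ m - 1 := by
      rw [hord]; push_cast
      exact ((hqi.irreducible.coprime_iff_not_dvd.mpr hd').pow_left).dvd_of_dvd_mul_right h2
    rw [orderOf_dvd_iff_zpow_eq_one, zpow_sub, zpow_one, hm, mul_inv_eq_one] at h3
    right
    intro u
    obtain ⟨i, rfl⟩ := Subgroup.mem_zpowers_iff.mp (hg u)
    rw [map_zpow, h3]
  · have h3 : ((orderOf g : ℕ) : ℤ) ∣ m + 1 := by
      rw [hord]; push_cast
      exact ((hqi.irreducible.coprime_iff_not_dvd.mpr hd).pow_left).dvd_of_dvd_mul_left h2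
    rw [orderOf_dvd_iff_zpow_eq_one, zpow_add, zpow_one, hm] at h3
    left
    intro u
    obtain ⟨i, rfl⟩ := Subgroup.mem_zpowers_iff.mp (hg u)
    rw [map_zpow, eq_inv_of_mul_eq_one_left h3, inv_zpow]

/-- If the automorphism induced on the abelianisation of an odd order Z-group by an automorphism
`σ` is inversion, the group is cyclic and `σ` inverts it. -/
theorem cyclic_of_inverts_abelianization {H : Type*} [Group H] [Finite H] [IsZGroup H]
    (hodd : Odd (Nat.card H)) (σ : MulAut H)
    (hσ : ∀ h, σ h * h ∈ commutator H) : IsCyclic H ∧ ∀ h, σ h = h⁻¹ := by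
  haveI hcyc : IsCyclic (commutator H) := IsZGroup.isCyclic_commutator H
  obtain ⟨x, hx⟩ := IsCyclic.exists_generator (α := commutator H)
  have hgen : ∀ y ∈ commutator H, ∃ i : ℤ, (x : H) ^ i = y := fun y hy => by
    obtain ⟨i, hi⟩ := Subgroup.mem_zpowers_iff.mp (hx ⟨y, hy⟩)
    exact ⟨i, by rw [← Subgroup.coe_zpow, hi]⟩
  have hDn : (commutator H).Normal := inferInstance
  have hDc : ∀ u ∈ commutator H, ∀ v ∈ commutator H, u * v = v * u := by
    intro u hu v hv
    obtain ⟨i, rfl⟩ := hgen u hu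
    obtain ⟨j, rfl⟩ := hgen v hv
    exact (Commute.zpow_zpow (Commute.refl (x : H)) i j).eq
  have hσD : ∀ u ∈ commutator H, σ u ∈ commutator H := by
    intro u hu
    have h : (commutator H).map σ.toMonoidHom = commutator H :=
      Subgroup.characteristic_iff_map_eq.mp inferInstance σ
    exact h ▸ ⟨u, hu, rfl⟩
  -- squares centralise the commutator subgroup
  have hcent : ∀ h : H, h * h * x = x * (h * h) := by
    intro h
    obtain ⟨k, hk⟩ := hgen _ (hDn.conj_mem x x.2 h)
    obtain ⟨l, hl⟩ := hgen _ (hσD x x.2)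
    have e1 : σ h * σ x * (σ h)⁻¹ = ((x : H) ^ l) ^ k := by
      rw [← map_inv, ← map_mul, ← map_mul, ← hk, map_zpow, hl]
    have e2 : σ h = h⁻¹ * (h * (σ h * h) * h⁻¹) := by group
    have he : h * (σ h * h) * h⁻¹ ∈ commutator H := hDn.conj_mem _ (hσ h) h
    rw [← hl] at e1
    have e3 : h⁻¹ * (x : H) ^ l * h = ((x : H) ^ l) ^ k := by
      rw [← e1, e2]
      set e := h * (σ h * h) * h⁻¹
      have hxl : e * (x : H) ^ l * e⁻¹ = (x : H) ^ l := by
        rw [hDc e he _ ((commutator H).zpow_mem x.2 l), mul_inv_cancel_right]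
      calc h⁻¹ * (x : H) ^ l * h = h⁻¹ * (e * (x : H) ^ l * e⁻¹) * h := by rw [hxl]
        _ = _ := by group
    obtain ⟨i, hi⟩ := hgen _ ((show σ.symm (x : H) ∈ commutator H from by
      have h : (commutator H).map σ.symm.toMonoidHom = commutator H :=
        Subgroup.characteristic_iff_map_eq.mp inferInstance σ.symm
      have h2 : σ.symm (x : H) ∈ (commutator H).map σ.symm.toMonoidHom := ⟨x, x.2, rfl⟩
      rwa [h] at h2))
    have hli : ((x : H) ^ l) ^ i = x := by
      rw [hl, ← map_zpow, hi, MulEquiv.apply_symm_apply]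
    have e4 : h⁻¹ * (x : H) * h = (x : H) ^ k := by
      calc h⁻¹ * (x : H) * h = (h⁻¹ * (x : H) ^ l * h) ^ i := by
            rw [show h⁻¹ * (x : H) ^ l * h = h⁻¹ * (x : H) ^ l * (h⁻¹)⁻¹ by group, conj_zpow, hli]
            group
        _ = (((x : H) ^ l) ^ i) ^ k := by rw [e3, ← zpow_mul, ← zpow_mul, ← zpow_mul, ← zpow_mul]; congr 1; ring
        _ = (x : H) ^ k := by rw [hli]
    have e5 : h⁻¹ * (x : H) * h = h * x * h⁻¹ := e4.trans hk
    calc h * h * x = h * (h * x * h⁻¹) * h := by group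
      _ = h * (h⁻¹ * x * h) * h := by rw [e5]
      _ = x * (h * h) := by group
  have hcenter : commutator H ≤ Subgroup.center H := by
    intro y hy
    rw [Subgroup.mem_center_iff]
    intro h
    obtain ⟨i, rfl⟩ := hgen y hy
    obtain ⟨k, hk⟩ : ∃ k, h = (h * h) ^ k := by
      have hcop : Nat.Coprime 2 (orderOf h) :=
        Nat.coprime_two_left.mpr (hodd.of_dvd_nat (orderOf_dvd_natCard h))
      obtain ⟨k, hk⟩ := exists_pow_eq_self_of_coprime hcop
      exact ⟨k, by rw [← pow_two, hk]⟩
    rw [hk]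
    exact ((show Commute (h * h) (x : H) from hcent h).pow_left k).zpow_right i
  haveI hHc : IsMulCommutative H := ⟨⟨fun u v => by
    have hker : (Abelianization.of : H →* Abelianization H).ker ≤ Subgroup.center H := by
      rw [Abelianization.ker_of]; exact hcenter
    exact commutative_of_cyclic_center_quotient _ hker u v⟩⟩
  letI : CommGroup H := { (inferInstance : Group H) with mul_comm := hHc.is_comm.comm }
  refine ⟨inferInstance, fun h => ?_⟩
  have := hσ h
  have hbot : commutator H ≤ ⊥ := by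
    rw [commutator_def, Subgroup.commutator_le]
    intro u _ v _
    rw [Subgroup.mem_bot, commutatorElement_def, hHc.is_comm.comm u v]
    group
  rw [le_bot_iff.mp hbot, Subgroup.mem_bot] at this
  exact eq_inv_of_mul_eq_one_left this

/-- Without normal `q`-complements for the primes dividing the odd order of the two-point
stabiliser, that stabiliser is cyclic, self-centralising and inverted by the elements exchanging the
two points. -/
theorem cyclic_inverted (hZ : Cfsg.IsZassenhausGroup G Ω) {a b : Ω} (hab : a ≠ b)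
    (hodd : Odd (Nat.card (pairStab G a b)))
    (hnil : ∀ q : ℕ, q.Prime → q ∣ Nat.card (pairStab G a b) →
      ¬ ∃ N : Subgroup G, N.Normal ∧ N.index = q ^ (Nat.card G).factorization q) :
    IsCyclic (pairStab G a b) ∧
      Subgroup.centralizer (pairStab G a b : Set G) = pairStab G a b ∧
      ∀ s : G, s • a = b → s • b = a → ∀ h ∈ pairStab G a b, s * h * s⁻¹ = h⁻¹ := by
  classical
  set H := pairStab G a b with hH
  haveI := isZGroup_pairStab hZ hab hodd
  have hconj : ∀ t : G, t • a = b → t • b = a → ∀ h ∈ H, t * h * t⁻¹ ∈ H := by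
    intro t hta htb h hh
    have := Zassenhaus.conj_mem_pairStab (g := t) hh
    rw [hta, htb] at this
    exact ⟨this.2, this.1⟩
  -- an element normalising a non-trivial subgroup of `H` fixes or exchanges the two points
  have hnorm : ∀ t h : G, h ∈ H → h ≠ 1 → t * h * t⁻¹ ∈ H →
      t ∈ H ∨ (t • a = b ∧ t • b = a) := by
    intro t h hh h1 hth
    have hne : t * h * t⁻¹ ≠ 1 := fun e => h1 (conj_eq_one_iff.mp e)
    have hfix : ∀ p : Ω, h • p = p → t • p = a ∨ t • p = b := fun p hp =>
      Zassenhaus.eq_one_of_fix_three hZ hne hab hth.1 hth.2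
        (by rw [mul_smul, mul_smul, inv_smul_smul, hp])
    rcases hfix a hh.1 with e1 | e1 <;> rcases hfix b hh.2 with e2 | e2
    · exact absurd (smul_left_cancel t (e1.trans e2.symm)) hab
    · exact Or.inl ⟨e1, e2⟩
    · exact Or.inr ⟨e1, e2⟩
    · exact absurd (smul_left_cancel t (e1.trans e2.symm)) hab
  have hswap : ∀ s : G, s • a = b → s • b = a →
      IsCyclic H ∧ ∀ h ∈ H, s * h * s⁻¹ = h⁻¹ := by
    intro s hsa hsb
    have hsa' : s⁻¹ • a = b := by rw [inv_smul_eq_iff, hsb]
    have hsb' : s⁻¹ • b = a := by rw [inv_smul_eq_iff, hsa]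
    let σ : MulAut H :=
      { toFun := fun h => ⟨s * h * s⁻¹, hconj s hsa hsb h h.2⟩
        invFun := fun h => ⟨s⁻¹ * h * (s⁻¹)⁻¹, hconj s⁻¹ hsa' hsb' h h.2⟩
        left_inv := fun h => Subtype.ext (by simp only; group)
        right_inv := fun h => Subtype.ext (by simp only; group)
        map_mul' := fun h k => Subtype.ext (by simp) }
    let π : H →* Abelianization H := Abelianization.of
    let ψ : H →* Abelianization H := (π.comp σ.toMonoidHom) * π
    have hψ : ∀ h, ψ h = 1 ↔ σ h * h ∈ commutator H := fun h => by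
      rw [← Abelianization.ker_of H, MonoidHom.mem_ker, map_mul]
      exact Iff.rfl
    suffices htop : ψ.ker = ⊤ by
      obtain ⟨hc, hi⟩ := cyclic_of_inverts_abelianization hodd σ fun h => (hψ h).mp
        (MonoidHom.mem_ker.mp (htop ▸ Subgroup.mem_top h : h ∈ ψ.ker))
      exact ⟨hc, fun h hh => congrArg Subtype.val (hi ⟨h, hh⟩)⟩
    by_contra htop
    obtain ⟨q, hq, hqd⟩ := Nat.exists_prime_and_dvd (fun e => htop (Subgroup.index_eq_one.mp e))
    haveI := Fact.mk hq
    have hqH : q ∣ Nat.card H := hqd.trans (Subgroup.index_dvd_card _)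
    have hq2 : q ≠ 2 := by
      rintro rfl
      exact (Nat.not_even_iff_odd.mpr hodd) (even_iff_two_dvd.mpr hqH)
    have hD : commutator H ≤ ψ.ker := by
      intro u hu
      rw [MonoidHom.mem_ker, hψ]
      refine mul_mem ?_ hu
      have h : (commutator H).map σ.toMonoidHom = commutator H :=
        Subgroup.characteristic_iff_map_eq.mp inferInstance σ
      exact h ▸ ⟨u, hu, rfl⟩
    have hqD : ¬ q ∣ Nat.card (commutator H) := fun h =>
      Nat.Prime.not_coprime_iff_dvd.mpr ⟨q, hq, h, hqd.trans (Subgroup.index_dvd_of_le hD)⟩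
        (IsZGroup.coprime_commutator_index H)
    obtain ⟨Q⟩ : Nonempty (Sylow q H) := inferInstance
    haveI : IsCyclic (Q : Subgroup H) := IsZGroup.isZGroup q hq Q
    suffices hQ : (Q : Subgroup H) ≤ ψ.ker from
      Q.not_dvd_index (hqd.trans (Subgroup.index_dvd_of_le hQ))
    -- `Q` is a Sylow subgroup of `G`
    set Qg : Subgroup G := (Q : Subgroup H).map H.subtype with hQg
    have hQgp : IsPGroup q Qg := Q.isPGroup'.map _
    have hQgidx : ¬ q ∣ Qg.index := by
      rw [hQg, Subgroup.index_map_subtype]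
      intro h
      rcases hq.dvd_mul.mp h with h | h
      · exact Q.not_dvd_index h
      · exact not_dvd_index hZ hab hq hq2 hqH h
    let P : Sylow q G := hQgp.toSylow hQgidx
    have hP : (P : Subgroup G) = Qg := rfl
    have hQcomm : ∀ u ∈ (Q : Subgroup H), ∀ v ∈ (Q : Subgroup H), u * v = v * u := fun u hu v hv =>
      congrArg Subtype.val ((IsCyclic.commutative (α := (Q : Subgroup H))).is_comm.comm ⟨u, hu⟩ ⟨v, hv⟩)
    -- elements of `H` normalising `Q` centralise it
    have hinside : ∀ h : H, ∀ u ∈ (Q : Subgroup H), h * u * h⁻¹ ∈ (Q : Subgroup H) →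
        h * u * h⁻¹ = u := by
      intro h u hu hhu
      refine mul_inv_eq_one.mp ?_
      have h1 : h * u * h⁻¹ * u⁻¹ ∈ commutator H :=
        Subgroup.commutator_mem_commutator (Subgroup.mem_top h) (Subgroup.mem_top u)
      have h2 : h * u * h⁻¹ * u⁻¹ ∈ (Q : Subgroup H) := mul_mem hhu (inv_mem hu)
      obtain ⟨k, hk⟩ := IsPGroup.iff_card.mp Q.isPGroup'
      have hdisj : commutator H ⊓ (Q : Subgroup H) = ⊥ :=
        Subgroup.inf_eq_bot_of_coprime (by
          rw [hk]
          exact Nat.Coprime.pow_right k ((hq.coprime_iff_not_dvd.mpr hqD).symm))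
      exact Subgroup.mem_bot.mp (hdisj ▸ (⟨h1, h2⟩ : _ ∈ commutator H ⊓ (Q : Subgroup H)))
    -- some element exchanging the points normalises `Q` without centralising it
    obtain ⟨t, htn, u0, hu0, htu0⟩ : ∃ t : G, (∀ u : H, u ∈ (Q : Subgroup H) →
          ∃ v ∈ (Q : Subgroup H), (v : G) = t * u * t⁻¹) ∧
        ∃ u0 ∈ (Q : Subgroup H), t * (u0 : G) * t⁻¹ ≠ u0 := by
      by_contra hcon
      simp only [not_exists, not_and, ne_eq, not_not] at hcon
      refine hnil q hq hqH ⟨_, MonoidHom.normal_ker (MonoidHom.transferSylow P ?_),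
        (MonoidHom.ker_transferSylow_isComplement' P ?_).symm.index_eq_card.trans P.card_eq_multiplicity⟩
      all_goals
        intro t ht
        change t ∈ Subgroup.normalizer (Qg : Set G) at ht
        show t ∈ Subgroup.centralizer (Qg : Set G)
        rw [Subgroup.mem_centralizer_iff]
        rintro _ ⟨u, hu, rfl⟩
        refine (mul_inv_eq_iff_eq_mul.mp (hcon t (fun v hv => ?_) u hu)).symm
        obtain ⟨w, hw, he⟩ := (Subgroup.mem_normalizer_iff.mp ht _).mp ⟨v, hv, rfl⟩
        exact ⟨w, hw, he⟩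
    have htswap : t • a = b ∧ t • b = a := by
      have hu1 : (u0 : G) ≠ 1 := fun e => htu0 (by rw [e, mul_one, mul_inv_cancel])
      obtain ⟨v, hv, hve⟩ := htn u0 hu0
      refine (hnorm t u0 u0.2 hu1 (hve ▸ v.2)).resolve_left fun ht => htu0 ?_
      exact congrArg Subtype.val (hinside ⟨t, ht⟩ u0 hu0 (by
        rw [show (⟨t, ht⟩ : H) * u0 * ⟨t, ht⟩⁻¹ = v from Subtype.ext hve.symm]; exact hv))
    let φ : (Q : Subgroup H) →* (Q : Subgroup H) :=
      { toFun := fun u => ⟨⟨t * (u : G) * t⁻¹, hconj t htswap.1 htswap.2 _ (u : H).2⟩, by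
          obtain ⟨v, hv, hve⟩ := htn u u.2
          convert hv using 1
          exact Subtype.ext hve.symm⟩
        map_one' := Subtype.ext (Subtype.ext (by simp))
        map_mul' := fun u v => Subtype.ext (Subtype.ext (by simp)) }
    have hφ : ∀ u, φ (φ u) = u := by
      intro u
      have htt : t * t ∈ H := Zassenhaus.mem_pairStab.mpr
        ⟨by rw [mul_smul, htswap.1, htswap.2], by rw [mul_smul, htswap.2, htswap.1]⟩
      have hmem : (⟨t * t, htt⟩ : H) * u * ⟨t * t, htt⟩⁻¹ ∈ (Q : Subgroup H) := by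
        obtain ⟨v, hv, hve⟩ := htn _ (φ u).2
        convert hv using 1
        refine Subtype.ext (Eq.trans ?_ hve.symm)
        show t * t * (u : G) * (t * t)⁻¹ = t * (t * (u : G) * t⁻¹) * t⁻¹
        group
      refine Subtype.ext (Subtype.ext ?_)
      show t * (t * (u : G) * t⁻¹) * t⁻¹ = u
      have h : t * t * (u : G) * (t * t)⁻¹ = (u : G) :=
        congrArg Subtype.val (hinside _ u u.2 hmem)
      exact (show t * (t * (u : G) * t⁻¹) * t⁻¹ = t * t * (u : G) * (t * t)⁻¹ by group).trans h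
    obtain ⟨k, hk⟩ := IsPGroup.iff_card.mp Q.isPGroup'
    have hinv : ∀ u, φ u = u⁻¹ := (eq_inv_or_eq_self hq hq2 hk φ hφ).resolve_right fun hid =>
      htu0 (congrArg (fun w : (Q : Subgroup H) => ((w : H) : G)) (hid ⟨u0, hu0⟩))
    intro u hu
    rw [MonoidHom.mem_ker]
    show π (σ u) * π u = 1
    -- `s` and `t` induce the same map on the abelianisation
    have hh0 : s⁻¹ * t ∈ H := Zassenhaus.mem_pairStab.mpr
      ⟨by rw [mul_smul, htswap.1, hsb'], by rw [mul_smul, htswap.2, hsa']⟩
    have e : (⟨t * (u : G) * t⁻¹, hconj t htswap.1 htswap.2 u u.2⟩ : H)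
        = σ (⟨s⁻¹ * t, hh0⟩ * u * ⟨s⁻¹ * t, hh0⟩⁻¹) := by
      refine Subtype.ext ?_
      show t * (u : G) * t⁻¹ = s * (s⁻¹ * t * (u : G) * (s⁻¹ * t)⁻¹) * s⁻¹
      group
    have e2 : (⟨t * (u : G) * t⁻¹, hconj t htswap.1 htswap.2 u u.2⟩ : H) = u⁻¹ :=
      congrArg Subtype.val (hinv ⟨u, hu⟩)
    have e3 := congrArg π (e.symm.trans e2)
    rw [map_mul, map_mul, map_mul, map_mul, map_inv, map_inv, map_inv, mul_inv_cancel_comm] at e3
    rw [e3, inv_mul_cancel]
  obtain ⟨s, hs⟩ := Zassenhaus.exists_smul_pair hZ hab (Ne.symm hab)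
  obtain ⟨hcyc, -⟩ := hswap s hs.1 hs.2
  haveI := hcyc
  refine ⟨hcyc, le_antisymm ?_ ?_, fun s ha hb => (hswap s ha hb).2⟩
  · intro x hx
    rw [Subgroup.mem_centralizer_iff] at hx
    haveI : Nontrivial H := Finite.one_lt_card_iff_nontrivial.mp (pairStab_ne_bot hZ hab)
    obtain ⟨⟨h, hh⟩, h1⟩ := exists_ne (1 : H)
    have hxh : x * h * x⁻¹ = h := by rw [← hx h hh, mul_inv_cancel_right]
    refine (hnorm x h hh (fun e => h1 (Subtype.ext e)) (hxh.symm ▸ hh)).resolve_right ?_
    rintro ⟨hxa, hxb⟩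
    have hinv := (hswap x hxa hxb).2 h hh
    rw [hxh] at hinv
    refine h1 (orderOf_eq_one_iff.mp ?_)
    have h2 : orderOf (⟨h, hh⟩ : H) ∣ 2 := orderOf_dvd_of_pow_eq_one
      (Subtype.ext (by rw [Subgroup.coe_pow, pow_two]; exact eq_inv_iff_mul_eq_one.mp hinv))
    exact Nat.eq_one_of_dvd_coprimes (Nat.coprime_two_left.mpr hodd) h2 (orderOf_dvd_natCard _)
  · intro x hx
    rw [Subgroup.mem_centralizer_iff]
    intro h hh
    exact congrArg Subtype.val
      ((IsCyclic.commutative (α := H)).is_comm.comm ⟨h, hh⟩ ⟨x, hx⟩)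

end CfsgLib.PermSmall.OddStab
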