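import Cfsg.Agent.Lib.PermSmall.FeitBound
import Cfsg.Agent.Lib.PermSmall.OddStab
import Cfsg.Agent.Lib.PermGroup.SharpTwoKernel

/-!
Zassenhaus groups with abelian regular normal subgroup in the point stabiliser: the order of the
two-point stabiliser, and absence of normal complements for its primes when it is odd.
-/

set_option autoImplicit false

namespace CfsgLib.PermSmall.AbelianKernel

open MulAction
open CfsgLib.PermSmall.Zassenhaus (pairStab)

universe u v

/-- A doubly transitive normal subgroup of a Zassenhaus group has no regular normal subgroup. -/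
theorem false_of_regular_normal {G : Type u} {Ω : Type v} [Group G] [Finite G] [MulAction G Ω]
    [Finite Ω] (hZ : Cfsg.IsZassenhausGroup G Ω) (N : Subgroup G) [N.Normal]
    (h2 : IsMultiplyPretransitive N Ω 2) (R : Subgroup N) [R.Normal] [IsPretransitive R Ω]
    (hreg : ∀ x : Ω, stabilizer R x = ⊥) : False := by
  haveI := hZ.1
  haveI : FaithfulSMul N Ω :=
    ⟨fun {m k} h => Subtype.ext (eq_of_smul_eq_smul (α := Ω) fun x => h x)⟩
  obtain ⟨g₀, -, x₀, y₀, hxy, -, -⟩ := hZ.2.2.2.1
  haveI : Nonempty Ω := ⟨x₀⟩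
  haveI : IsPreprimitive N Ω := isPreprimitive_of_is_two_pretransitive h2
  have hR : R ≠ ⊥ := by
    rintro rfl
    obtain ⟨⟨r, hr⟩, hrx⟩ := exists_smul_eq (⊥ : Subgroup N) x₀ y₀
    rw [Subgroup.mem_bot] at hr
    subst hr
    exact hxy (by rw [← hrx]; exact (one_smul N x₀).symm)
  have hab := (CfsgLib.PermGroup.regular_normal_elementary h2 R hR hreg).1
  -- the subgroup is normal in the whole group
  suffices hn : (R.map N.subtype).Normal by
    have htr : IsPretransitive (R.map N.subtype) Ω := ⟨fun x y => by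
      obtain ⟨r, hr⟩ := exists_smul_eq R x y
      exact ⟨⟨((r : N) : G), ⟨r, r.2, rfl⟩⟩, hr⟩⟩
    obtain ⟨x, hx⟩ := hZ.2.2.2.2 _ hn htr
    refine hx ((Subgroup.eq_bot_iff_forall _).mpr ?_)
    rintro ⟨_, r, hr, rfl⟩ hfix
    have : (⟨r, hr⟩ : R) ∈ stabilizer R x := hfix
    rw [hreg x, Subgroup.mem_bot] at this
    exact Subtype.ext (congrArg (fun w : R => ((w : N) : G)) this)
  refine ⟨?_⟩
  rintro _ ⟨r, hr, rfl⟩ g
  let c : N ≃* N :=
    { toFun := fun m => ⟨g * m * g⁻¹, Subgroup.Normal.conj_mem ‹_› _ m.2 g⟩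
      invFun := fun m => ⟨g⁻¹ * m * g, by simpa using Subgroup.Normal.conj_mem ‹N.Normal› _ m.2 g⁻¹⟩
      left_inv := fun m => Subtype.ext (by simp only; group)
      right_inv := fun m => Subtype.ext (by simp only; group)
      map_mul' := fun m k => Subtype.ext (by simp) }
  set R' : Subgroup N := R.map c.toMonoidHom with hR'
  haveI : R'.Normal := Subgroup.Normal.map ‹R.Normal› _ c.surjective
  suffices hle : R' ≤ R from ⟨c r, hle ⟨r, hr, rfl⟩, rfl⟩
  have hreg' : ∀ m ∈ R', ∀ x : Ω, m • x = x → m = 1 := by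
    rintro _ ⟨w, hw, rfl⟩ x hx
    have hx' : w • g⁻¹ • x = g⁻¹ • x := by
      have : (g * (w : G) * g⁻¹) • x = x := hx
      rw [mul_smul, mul_smul, smul_eq_iff_eq_inv_smul] at this
      exact this
    have : (⟨w, hw⟩ : R) ∈ stabilizer R (g⁻¹ • x) := hx'
    rw [hreg, Subgroup.mem_bot] at this
    rw [show w = 1 from congrArg Subtype.val this, map_one]
  have htr' : ∀ x y : Ω, ∃ m ∈ R', m • x = y := by
    intro x y
    obtain ⟨w, hw⟩ := exists_smul_eq R (g⁻¹ • x) (g⁻¹ • y)
    refine ⟨c w, ⟨w, w.2, rfl⟩, ?_⟩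
    show (g * ((w : N) : G) * g⁻¹) • x = y
    rw [mul_smul, mul_smul]
    exact (congrArg (g • ·) hw).trans (smul_inv_smul g y)
  by_cases hQ : R ⊓ R' = ⊥
  · exfalso
    obtain ⟨m, hm, hmx⟩ := htr' x₀ y₀
    obtain ⟨⟨w, hw⟩, hwx⟩ := exists_smul_eq R x₀ y₀
    have hwm : w⁻¹ * m = 1 := by
      refine eq_of_smul_eq_smul (α := Ω) fun z => ?_
      obtain ⟨⟨ρ, hρ⟩, hρz⟩ := exists_smul_eq R x₀ z
      have hc1 : m * ρ = ρ * m := (Subgroup.commute_of_normal_of_disjoint R R' ‹_› inferInstance
        (disjoint_iff.mpr hQ) ρ m hρ hm).symm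
      have hc2 : w⁻¹ * ρ = ρ * w⁻¹ :=
        congrArg Subtype.val (hab.is_comm.comm (⟨w⁻¹, inv_mem hw⟩ : R) ⟨ρ, hρ⟩)
      have hρz' : ρ • x₀ = z := hρz
      rw [one_smul, ← hρz', ← mul_smul, mul_assoc, hc1, ← mul_assoc, hc2, mul_assoc, mul_smul,
        mul_smul, hmx, inv_smul_eq_iff.mpr (show y₀ = w • x₀ from hwx.symm)]
    rw [inv_mul_eq_one] at hwm
    subst hwm
    have hw1 : w = 1 := Subgroup.mem_bot.mp (hQ ▸ (⟨hw, hm⟩ : w ∈ R ⊓ R'))
    exact hxy (by rw [← hmx, hw1, one_smul])
  · haveI : IsPretransitive (R ⊓ R' : Subgroup N) Ω := CfsgLib.PermGroup.isPretransitive_of_normal hQ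
    intro m hm
    obtain ⟨⟨q, hqR, hqR'⟩, hq⟩ := exists_smul_eq (R ⊓ R' : Subgroup N) x₀ (m • x₀)
    have : q⁻¹ * m = 1 := hreg' _ (mul_mem (inv_mem hqR') hm) x₀
      (by rw [mul_smul, inv_smul_eq_iff]; exact hq.symm)
    exact (inv_mul_eq_one.mp this) ▸ hqR

theorem exists_fixed_of_card {G : Type u} {Ω : Type v} [Group G] [MulAction G Ω] (N : Subgroup G)
    {a b : Ω} (h : ¬ ∀ g ∈ pairStab G a b ⊓ N, g = 1) :
    ∃ g : N, g ≠ 1 ∧ g • a = a ∧ g • b = b := by
  simp only [not_forall] at h
  obtain ⟨g, hg, hg1⟩ := h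
  exact ⟨⟨g, hg.2⟩, fun e => hg1 (congrArg Subtype.val e), hg.1.1, hg.1.2⟩

/-- In a Zassenhaus group with abelian kernel and two-point stabiliser of odd order `d`, the latter
is at least half the number of the other points. -/
theorem card_le_of_odd {Ω : Type v} [Fintype Ω] {a b : Ω} (hab : a ≠ b) :
    ∀ (G : Type u) [Group G] [Finite G] [MulAction G Ω], Cfsg.IsZassenhausGroup G Ω →
      ∀ F : Subgroup G, F ≤ stabilizer G a → (F.subgroupOf (stabilizer G a)).Normal →
        IsMulCommutative F → (∀ y z : Ω, y ≠ a → z ≠ a → ∃! u : F, (u : G) • y = z) →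
        Odd (Nat.card (pairStab G a b)) →
        Fintype.card Ω - 2 ≤ 2 * Nat.card (pairStab G a b) ∧
          ∀ q : ℕ, q.Prime → q ∣ Nat.card (pairStab G a b) →
            ¬ ∃ N : Subgroup G, N.Normal ∧ N.index = q ^ (Nat.card G).factorization q := by
  intro G _ _ _
  induction hk : Nat.card G using Nat.strong_induction_on generalizing G with
  | h k ih =>
    intro hZ F hFle hFn hFc hreg hodd
    subst hk
    have hFnorm : ∀ g : G, g • a = a → ∀ u ∈ F, g * u * g⁻¹ ∈ F := fun g hg u hu =>
      hFn.conj_mem ⟨u, hFle hu⟩ hu ⟨g, hg⟩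
    have hcardF := Kernel.card_regular hab hFle hreg
    have hΩ := Zassenhaus.three_le_card hZ hab
    have hdn := Zassenhaus.card_pairStab_dvd hZ hab
    have hnil : ∀ q : ℕ, q.Prime → q ∣ Nat.card (pairStab G a b) →
        ¬ ∃ N : Subgroup G, N.Normal ∧ N.index = q ^ (Nat.card G).factorization q := by
      rintro q hq hqd ⟨N, hNn, hNi⟩
      haveI := hNn
      haveI := hZ.1
      have hqF : ¬ q ∣ Nat.card F := by
        rw [hcardF]
        intro h
        have := Nat.dvd_sub h (hqd.trans hdn)
        rw [show Fintype.card Ω - 1 - (Fintype.card Ω - 2) = 1 by omega] at this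
        exact hq.not_dvd_one this
      have hFN : F ≤ N := by
        intro u hu
        have h1 : u ^ N.index ∈ N := Subgroup.pow_index_mem N u
        have hcop : Nat.Coprime N.index (orderOf u) := by
          rw [hNi]
          refine Nat.Coprime.pow_left _ (hq.coprime_iff_not_dvd.mpr fun h => hqF (h.trans ?_))
          exact Subgroup.orderOf_mk u hu ▸ orderOf_dvd_natCard _
        obtain ⟨j, hj⟩ := exists_pow_eq_self_of_coprime hcop
        rw [← hj]
        exact pow_mem h1 j
      have hNidx : N.index ≠ 1 := by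
        rw [hNi]
        intro h
        have := Nat.Prime.factorization_pos_of_dvd hq Nat.card_pos.ne'
          (hqd.trans (Subgroup.card_subgroup_dvd_card _))
        rcases Nat.pow_eq_one.mp h with h | h
        · exact hq.one_lt.ne' h
        · omega
      -- transitivity of `N`
      haveI : IsPretransitive G Ω := ⟨fun x y => by
        by_cases hxy : x = y
        · exact ⟨1, by rw [one_smul, hxy]⟩
        · obtain ⟨g, hg, -⟩ := Zassenhaus.exists_smul_pair hZ hxy (Ne.symm hxy)
          exact ⟨g, hg⟩⟩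
      haveI : IsPreprimitive G Ω := isPreprimitive_of_is_two_pretransitive hZ.2.1
      have hFne : F ≠ ⊥ := by
        rintro rfl
        rw [Subgroup.card_bot] at hcardF
        omega
      haveI hNt : IsPretransitive N Ω := CfsgLib.PermGroup.isPretransitive_of_normal
        (fun h => hFne (le_bot_iff.mp (h ▸ hFN)))
      have hN2 : IsMultiplyPretransitive N Ω 2 := by
        rw [is_two_pretransitive_iff]
        intro w x y z hwx hyz
        obtain ⟨g, hg⟩ := exists_smul_eq N w a
        obtain ⟨k, hk⟩ := exists_smul_eq N y a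
        have h1 : g • x ≠ a := fun e => hwx (smul_left_cancel g (hg.trans e.symm))
        have h2 : k • z ≠ a := fun e => hyz (smul_left_cancel k (hk.trans e.symm))
        obtain ⟨u, hu, -⟩ := hreg _ _ h1 h2
        have hua : (⟨u, hFN u.2⟩ : N) • a = a := hFle u.2
        refine ⟨k⁻¹ * ⟨u, hFN u.2⟩ * g, ?_, ?_⟩
        · rw [mul_smul, mul_smul, hg, hua, inv_smul_eq_iff]; exact hk.symm
        · rw [mul_smul, mul_smul, show (⟨u, hFN u.2⟩ : N) • g • x = k • z from hu, inv_smul_smul]
      -- the two-point stabiliser is not contained in `N`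
      have hHN : ¬ pairStab G a b ≤ N := by
        intro hle
        refine hNidx (Subgroup.index_eq_one.mpr ((Subgroup.eq_top_iff' N).mpr fun g => ?_))
        obtain ⟨m, hm⟩ := exists_smul_eq N (g • a) a
        have hga : ((m : G) * g) • a = a := by rw [mul_smul]; exact hm
        have hgb : ((m : G) * g) • b ≠ a := fun e => hab (smul_left_cancel _ (hga.trans e.symm))
        obtain ⟨u, hu, -⟩ := hreg b _ (Ne.symm hab) hgb
        have hmem : (u : G)⁻¹ * ((m : G) * g) ∈ pairStab G a b := Zassenhaus.mem_pairStab.mpr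
          ⟨by rw [mul_smul, hga, inv_smul_eq_iff]; exact (hFle u.2).symm,
           by rw [mul_smul, ← hu, inv_smul_smul]⟩
        have := mul_mem (mul_mem (inv_mem m.2) (hFN u.2)) (hle hmem)
        rwa [show ((m : G))⁻¹ * u * ((u : G)⁻¹ * ((m : G) * g)) = g by group] at this
      by_cases hone : ∀ g ∈ pairStab G a b ⊓ N, g = 1
      · -- `N` would be sharply doubly transitive
        obtain ⟨K, hKn, -, -, hKt, hKreg, -⟩ := CfsgLib.PermGroup.sharpTwo_kernel (G := N) (α := Ω) hN2
          (fun g x y hxy hx hy => by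
            obtain ⟨m, hma, hmb⟩ := is_two_pretransitive_iff.mp hN2 hxy hab
            have hmem : ((m * g * m⁻¹ : N) : G) ∈ pairStab G a b ⊓ N := by
              refine ⟨Zassenhaus.mem_pairStab.mpr ⟨?_, ?_⟩, SetLike.coe_mem _⟩
              · show (m * g * m⁻¹) • a = a
                rw [mul_smul, mul_smul, inv_smul_eq_iff.mpr hma.symm, hx, hma]
              · show (m * g * m⁻¹) • b = b
                rw [mul_smul, mul_smul, inv_smul_eq_iff.mpr hmb.symm, hy, hmb]
            exact conj_eq_one_iff.mp (Subtype.ext (hone _ hmem) : m * g * m⁻¹ = 1))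
          (by rw [Nat.card_eq_fintype_card]; omega)
        haveI := hKn
        haveI := hKt
        exact false_of_regular_normal hZ N hN2 K hKreg
      · have hNfaith : FaithfulSMul N Ω :=
          ⟨fun {m k} h => Subtype.ext (eq_of_smul_eq_smul (α := Ω) fun x => h x)⟩
        obtain ⟨g₁, hg1, hg1a, hg1b⟩ := exists_fixed_of_card N hone
        have hZN : Cfsg.IsZassenhausGroup N Ω := by
          refine ⟨hNfaith, hN2,
            fun g x y z hxy hyz hxz hx hy hz => Subtype.ext (hZ.2.2.1 g x y z hxy hyz hxz hx hy hz),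
            ⟨g₁, hg1, a, b, hab, hg1a, hg1b⟩, ?_⟩
          intro R hRn hRt
          by_contra hall
          simp only [not_exists, ne_eq, not_not] at hall
          haveI := hRn
          haveI := hRt
          exact false_of_regular_normal hZ N hN2 R hall
        have hlt : Nat.card N < Nat.card G := by
          rw [← N.index_mul_card]
          exact lt_mul_left Nat.card_pos
            ((Nat.two_le_iff _).mpr ⟨Subgroup.index_ne_zero_of_finite, hNidx⟩)
        have hcardN : Nat.card (pairStab N a b) = Nat.card (pairStab G a b ⊓ N : Subgroup G) :=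
          Nat.card_congr
            { toFun := fun g => ⟨((g : N) : G), g.2, (g : N).2⟩
              invFun := fun g => ⟨⟨(g : G), g.2.2⟩, g.2.1⟩
              left_inv := fun g => rfl
              right_inv := fun g => rfl }
        have hle3 : 3 * Nat.card (pairStab N a b) ≤ Nat.card (pairStab G a b) := by
          rw [hcardN]
          obtain ⟨t, ht⟩ := Subgroup.card_dvd_of_le
            (inf_le_left : pairStab G a b ⊓ N ≤ pairStab G a b)
          have ht1 : t ≠ 1 := by
            rintro rfl
            rw [mul_one] at ht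
            exact hHN ((Subgroup.eq_of_le_of_card_ge inf_le_left ht.le).symm ▸ inf_le_right)
          have ht2 : Odd t := hodd.of_dvd_nat (ht ▸ dvd_mul_left t _)
          obtain ⟨j, rfl⟩ := ht2
          have hj : 1 ≤ j := by omega
          rw [ht, mul_comm]
          exact Nat.mul_le_mul_left _ (by omega)
        have hb := (ih _ hlt N rfl hZN (F.subgroupOf N)
          (fun u hu => hFle hu)
          ⟨fun u hu g => hFnorm ((g : N) : G) g.2 _ hu⟩
          ⟨⟨fun u v => Subtype.ext (Subtype.ext (congrArg (fun t : F => (t : G))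
            (hFc.is_comm.comm ⟨((u : N) : G), u.2⟩ ⟨((v : N) : G), v.2⟩)))⟩⟩
          (fun y z hy hz => by
            obtain ⟨u, hu, huniq⟩ := hreg y z hy hz
            exact ⟨⟨⟨u, hFN u.2⟩, u.2⟩, hu, fun w hw => Subtype.ext (Subtype.ext
              (congrArg (fun t : F => (t : G)) (huniq ⟨((w : N) : G), w.2⟩ hw)))⟩)
          (by
            rw [hcardN]
            exact hodd.of_dvd_nat (Subgroup.card_dvd_of_le inf_le_left))).1
        have hdle : Nat.card (pairStab G a b) ≤ Fintype.card Ω - 2 :=
          Nat.le_of_dvd (by omega) hdn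
        omega
    refine ⟨?_, hnil⟩
    obtain ⟨hcyc, -, hinv⟩ := OddStab.cyclic_inverted hZ hab hodd hnil
    haveI := hcyc
    obtain ⟨s, hs⟩ := Zassenhaus.exists_smul_pair hZ hab (Ne.symm hab)
    let T : FeitFrame.Frame G a b :=
      { ne := hab
        three := hZ.2.2.1
        swap := s
        swap_a := hs.1
        swap_b := hs.2
        F := F
        F_le := hFle
        F_norm := hFnorm
        regular := hreg
        H_comm := IsCyclic.commutative
        odd := hodd
        inv := hinv }
    haveI := Fintype.ofFinite G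
    exact T.card_le hFc (OddStab.pairStab_ne_bot hZ hab)

end CfsgLib.PermSmall.AbelianKernel
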