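import Cfsg.Agent.Lib.PermSmall.Recognition
import Cfsg.Agent.Lib.PermSmall.AbelianKernel

/-!
Recognition of `PSL(2,q)`, `q ≡ 3 mod 4`, and of the groups with abelian kernel.
-/

set_option autoImplicit false

namespace CfsgLib.PermSmall.OddRecognition

open MulAction OnePoint
open CfsgLib.PermSmall.Zassenhaus (pairStab)
open CfsgLib.PermSmall.Coordinates (Coord transport)
open CfsgLib.PermSmall.Recognition (card_coord transport_eq)

variable {G Ω : Type*} [Group G] [MulAction G Ω] {a b c : Ω}

/-- A group with abelian regular `F` in a point stabiliser, and an abelian two-point stabiliser of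
odd order, half the number of the other points, inverted by an involution exchanging the two
points, in which no element exchanging the two points fixes a third, is `PSL(2,q)`. -/
theorem psl_of_inverted_odd [Finite G] [Fintype Ω] [FaithfulSMul G Ω] (hab : a ≠ b) (hac : a ≠ c)
    (hbc : b ≠ c) (hthree : ∀ g : G, g • a = a → g • b = b → g • c = c → g = 1)
    (F : Subgroup G) (hFle : F ≤ stabilizer G a)
    (hFn : (F.subgroupOf (stabilizer G a)).Normal) (hFc : IsMulCommutative F)
    (hreg : ∀ y z : Ω, y ≠ a → z ≠ a → ∃! u : F, (u : G) • y = z)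
    (hHc : IsMulCommutative (pairStab G a b))
    (hirr : ∀ M : Subgroup G, M ≤ F → (∀ g ∈ pairStab G a b, ∀ u ∈ M, g * u * g⁻¹ ∈ M) →
      (∃ u ∈ M, u ≠ 1) → M = F)
    (hd : 2 * Nat.card (pairStab G a b) = Fintype.card Ω - 2)
    (hodd : Odd (Nat.card (pairStab G a b)))
    (s : G) (hsa : s • a = b) (hsb : s • b = a) (hss : s * s = 1)
    (hinv : ∀ h ∈ pairStab G a b, s * h * s⁻¹ = h⁻¹)
    (hfpf : ∀ w : G, w • a = b → w • b = a → w • c ≠ c) :
    ∃ (K : Type) (_ : Field K) (_ : Fintype K), ringChar K ≠ 2 ∧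
      Fintype.card K = Fintype.card Ω - 1 ∧
      Nonempty (G ≃* Matrix.ProjectiveSpecialLinearGroup (Fin 2) K) := by
  classical
  obtain ⟨C⟩ := Coordinates.exists_coord hab hac hbc (fun g hg => hthree g hg.1 hg.2) F hFle hFn hFc
    hreg hHc hirr
  have hcard := card_coord C
  set d := Nat.card (pairStab G a b) with hd'
  have hd1 : 0 < d := Nat.card_pos
  have hq : Fintype.card C.K = 2 * d + 1 := by omega
  have hchar : ringChar C.K ≠ 2 := fun h2 => by
    have := FiniteField.even_card_of_char_two h2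
    omega
  refine ⟨C.K, inferInstance, inferInstance, hchar, by omega, ?_⟩
  have hsqiff : ∀ t : C.Kˣ, IsSquare t ↔ t ^ d = 1 := fun t => by
    rw [FiniteField.unit_isSquare_iff hchar, show Fintype.card C.K / 2 = d by omega]
  have hA : ∀ t : C.Kˣ, t ∈ C.A ↔ IsSquare t := by
    intro t
    have hle : ∀ t : C.Kˣ, t ∈ C.A → IsSquare t := fun t ht => by
      rw [hsqiff, hd', ← C.card_A]
      exact congrArg Subtype.val (pow_card_eq_one' (G := C.A) (x := ⟨t, ht⟩))
    refine ⟨hle t, fun ht => ?_⟩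
    let S : Finset C.Kˣ := Finset.univ.filter (fun t => t ^ d = 1)
    have hS : S.card ≤ d := IsCyclic.card_pow_eq_one_le hd1
    have hT : (Finset.univ.filter (fun t => t ∈ C.A)).card = d := by
      rw [hd', ← C.card_A, Nat.card_eq_fintype_card, Fintype.card_subtype]
    have heq : Finset.univ.filter (fun t => t ∈ C.A) = S := by
      refine Finset.eq_of_subset_of_card_le (fun u hu => ?_) (by omega)
      simp only [S, Finset.mem_filter, Finset.mem_univ, true_and] at hu ⊢
      exact (hsqiff u).mp (hle u hu)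
    have : t ∈ S := by simpa [S] using (hsqiff t).mp ht
    rw [← heq] at this
    exact (Finset.mem_filter.mp this).2
  have hnonsq : ∀ t : C.Kˣ, t ∉ C.A → t ^ d = -1 := by
    intro t ht
    have h2 : t ^ d * t ^ d = 1 := by
      rw [← pow_add, show d + d = Fintype.card C.Kˣ by rw [Fintype.card_units]; omega, pow_card_eq_one]
    have h3 : (t : C.K) ^ d * (t : C.K) ^ d = 1 := by
      rw [← Units.val_pow_eq_pow_val, ← Units.val_mul, h2, Units.val_one]
    refine Units.ext ((mul_self_eq_one_iff.mp h3).resolve_left fun e => ht ?_)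
    exact (hA t).mpr ((hsqiff t).mpr (Units.ext (by simpa using e)))
  have hflip : ∀ t : C.Kˣ, t ∉ C.A → -t⁻¹ ∈ C.A := by
    intro t ht
    rw [hA, hsqiff, hodd.neg_pow, inv_pow, hnonsq t ht]
    simp
  have hs2 : ∀ (w : G), w * w = 1 → ∀ x : Ω, w • w • x = x := fun w hw x => by
    rw [← mul_smul, hw, one_smul]
  obtain ⟨x, hx⟩ := C.e.surjective (s • C.e ((1 : C.K) : OnePoint C.K))
  cases x with
  | infty =>
    exfalso
    rw [C.e_infty, C.e_one] at hx
    exact hbc (hsa.symm.trans ((congrArg (s • ·) hx).trans (hs2 s hss c)))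
  | coe l =>
  have hl0 : l ≠ 0 := by
    rintro rfl
    rw [C.e_zero, C.e_one] at hx
    exact hac (hsb.symm.trans ((congrArg (s • ·) hx).trans (hs2 s hss c)))
  set L : C.Kˣ := Units.mk0 l hl0 with hLdef
  have hL : L ∉ C.A := by
    intro hL
    obtain ⟨h, hh, hact⟩ := C.exists_pairStab L⁻¹ (inv_mem hL)
    refine hfpf (h * s) ?_ ?_ ?_
    · rw [mul_smul, hsa, hh.2]
    · rw [mul_smul, hsb, hh.1]
    · rw [mul_smul, ← C.e_one, ← hx, hact, hLdef, Units.val_inv_eq_inv_val, Units.val_mk0,
        inv_mul_cancel₀ hl0]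
  obtain ⟨h0, hh0, hact0⟩ := C.exists_pairStab (-L⁻¹) (hflip L hL)
  set s' : G := h0 * s with hs'
  have hs'a : s' • a = b := by rw [hs', mul_smul, hsa, hh0.2]
  have hs'b : s' • b = a := by rw [hs', mul_smul, hsb, hh0.1]
  have hs'inv : ∀ h ∈ pairStab G a b, s' * h * s'⁻¹ = h⁻¹ := by
    intro h hh
    have e : h0 * h⁻¹ = h⁻¹ * h0 :=
      congrArg Subtype.val (hHc.is_comm.comm (⟨h0, hh0⟩ : pairStab G a b) ⟨h⁻¹, inv_mem hh⟩)
    calc s' * h * s'⁻¹ = h0 * (s * h * s⁻¹) * h0⁻¹ := by rw [hs']; group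
      _ = h⁻¹ := by rw [hinv h hh, e, mul_inv_cancel_right]
  have hs's : s' * s' = 1 := by
    calc s' * s' = h0 * (s * h0 * s⁻¹) * (s * s) := by rw [hs']; group
      _ = 1 := by rw [hinv h0 hh0, hss]; simp
  have hs'1 : s' • C.e ((1 : C.K) : OnePoint C.K) = C.e ((-1 : C.K) : OnePoint C.K) := by
    rw [hs', mul_smul, ← hx, hact0, hLdef, Units.val_neg, Units.val_inv_eq_inv_val, Units.val_mk0,
      neg_mul, inv_mul_cancel₀ hl0]
  have hsq : ∀ t ∈ C.A, s' • C.e (((t : C.K)) : OnePoint C.K)
      = C.e ((-(t : C.K)⁻¹ : C.K) : OnePoint C.K) := by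
    intro t ht
    obtain ⟨h, hh, hact⟩ := C.exists_pairStab t ht
    have hi : ∀ k : C.K, h⁻¹ • C.e (k : OnePoint C.K)
        = C.e ((((t : C.K)⁻¹) * k : C.K) : OnePoint C.K) := by
      intro k
      rw [inv_smul_eq_iff, hact, ← mul_assoc, mul_inv_cancel₀ t.ne_zero, one_mul]
    have e : s' * h = h⁻¹ * s' := by rw [← hs'inv h hh, inv_mul_cancel_right]
    have h1 : h • C.e ((1 : C.K) : OnePoint C.K) = C.e (((t : C.K)) : OnePoint C.K) := by
      rw [hact, mul_one]
    rw [← h1, ← mul_smul, e, mul_smul, hs'1, hi, mul_neg, mul_one]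
  refine Moebius.nonempty_mulEquiv_psl (transport C.e) (Coordinates.transport_injective C.e) ?_
  refine Moebius.eq_range_slHom (fun σ hσ => ?_) (transport C.e s') ⟨s', rfl⟩ ?_ ?_ ?_
  · rw [C.stab_iff σ hσ]
    exact ⟨fun ⟨t, ht, β, e⟩ => ⟨t, β, (hA t).mp ht, e⟩, fun ⟨t, β, ht, e⟩ => ⟨t, (hA t).mpr ht, β, e⟩⟩
  · exact transport_eq C.e s' ((congrArg (s' • ·) C.e_infty).trans (hs'a.trans C.e_zero.symm))
  · exact transport_eq C.e s' ((congrArg (s' • ·) C.e_zero).trans (hs'b.trans C.e_infty.symm))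
  · intro k hk
    refine transport_eq C.e s' ?_
    by_cases hkA : Units.mk0 k hk ∈ C.A
    · have := hsq _ hkA
      rw [Units.val_mk0] at this
      rw [this]
      congr 2
      simp [neg_div]
    · have := congrArg (s' • ·) (hsq _ (hflip _ hkA))
      simp only [hs2 s' hs's, Units.val_neg, Units.val_inv_eq_inv_val, Units.val_mk0, inv_neg,
        inv_inv, neg_neg] at this
      rw [← this]
      congr 2
      simp [neg_div]

/-- A Zassenhaus group with an abelian regular normal subgroup of a point stabiliser is sharply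
triply transitive or a `PSL(2,q)`, `q` odd. -/
theorem card_and_recognition [Finite G] [Fintype Ω] (hZ : Cfsg.IsZassenhausGroup G Ω) (hab : a ≠ b)
    (F : Subgroup G) (hFle : F ≤ stabilizer G a) (hFn : (F.subgroupOf (stabilizer G a)).Normal)
    (hFc : IsMulCommutative F)
    (hreg : ∀ y z : Ω, y ≠ a → z ≠ a → ∃! u : F, (u : G) • y = z) :
    Nat.card (pairStab G a b) = Fintype.card Ω - 2 ∨
      (2 * Nat.card (pairStab G a b) = Fintype.card Ω - 2 ∧
      ∃ (K : Type) (_ : Field K) (_ : Fintype K), ringChar K ≠ 2 ∧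
        Fintype.card K = Fintype.card Ω - 1 ∧
        Nonempty (G ≃* Matrix.ProjectiveSpecialLinearGroup (Fin 2) K)) := by
  classical
  haveI := hZ.1
  set d := Nat.card (pairStab G a b) with hd
  have h3 := Zassenhaus.three_le_card hZ hab
  have hdiv := Zassenhaus.card_pairStab_dvd hZ hab
  have hd1 := OddStab.pairStab_ne_bot hZ hab
  obtain ⟨t, ht⟩ := hdiv
  rw [← hd] at ht
  have hpos : 0 < Fintype.card Ω - 2 := by omega
  have ht0 : t ≠ 0 := by rintro rfl; omega
  obtain ⟨c, hca, hcb⟩ := Zassenhaus.exists_ne_ne hZ a b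
  have hthree : ∀ g : G, g • a = a → g • b = b → g • c = c → g = 1 := fun g h1 h2 h3' =>
    Zassenhaus.eq_one hZ hab (Ne.symm hcb) (Ne.symm hca) h1 h2 h3'
  have hcases : Fintype.card Ω - 2 ≤ 2 * d → d = Fintype.card Ω - 2 ∨ 2 * d = Fintype.card Ω - 2 := by
    intro hle
    have : t ≤ 2 := by
      by_contra h
      have := Nat.mul_le_mul_left d (show 3 ≤ t by omega)
      omega
    interval_cases t <;> omega
  rcases Nat.even_or_odd d with heven | hodd
  · rcases hcases (Zassenhaus.le_two_mul_card hZ hab heven) with h | h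
    · exact Or.inl h
    · refine Or.inr ⟨h, ?_⟩
      set Z : Set G := {z : G | orderOf z = 2 ∧ (∃ x : Ω, z • x = x) ∧ z • a = b ∧ z • b = a} with hZdef
      have hm : 2 * Z.ncard = Fintype.card Ω - 2 := Zassenhaus.two_mul_swapping hZ hab heven
      obtain ⟨s, hs⟩ : Z.Nonempty := by
        rw [← Set.ncard_pos (Set.toFinite _)]; omega
      obtain ⟨hs2, ⟨c', hsc⟩, hsa, hsb⟩ := hs
      have hss := Zassenhaus.sq_eq_one_of_orderOf hs2
      have hac : a ≠ c' := fun e => hab (by rw [← hsa, e, hsc])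
      have hbc : b ≠ c' := fun e => hab (by rw [← hsb, e, hsc])
      have hall : ∀ h ∈ pairStab G a b, s * h ∈ Z := by
        have himg : (fun h : G => s * h) '' (pairStab G a b : Set G) = Z := by
          refine (Set.eq_of_subset_of_ncard_le ?_ ?_ (Set.toFinite _)).symm
          · rintro z ⟨-, -, hza, hzb⟩
            refine ⟨s * z, Zassenhaus.mem_pairStab.mpr ⟨?_, ?_⟩, ?_⟩
            · rw [mul_smul, hza, hsb]
            · rw [mul_smul, hzb, hsa]
            · show s * (s * z) = z
              rw [← mul_assoc, hss, one_mul]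
          · refine le_trans (Set.ncard_image_le (Set.toFinite _)) ?_
            have : (pairStab G a b : Set G).ncard = d := rfl
            omega
        intro k hk
        rw [← himg]
        exact ⟨k, hk, rfl⟩
      have hinv : ∀ k ∈ pairStab G a b, s * k * s⁻¹ = k⁻¹ := by
        intro k hk
        have h1 := Zassenhaus.sq_eq_one_of_orderOf (hall k hk).1
        rw [inv_eq_of_mul_eq_one_left hss, eq_inv_iff_mul_eq_one]
        rw [← mul_assoc] at h1
        exact h1
      have hHc : IsMulCommutative (pairStab G a b) := by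
        refine ⟨⟨fun g k => Subtype.ext ?_⟩⟩
        have h1 := hinv _ (mul_mem g.2 k.2)
        rw [show s * ((g : G) * k) * s⁻¹ = (s * g * s⁻¹) * (s * k * s⁻¹) by group,
          hinv _ g.2, hinv _ k.2, mul_inv_rev] at h1
        have := congrArg (·⁻¹) h1
        simpa using this.symm
      exact Recognition.psl_of_inverted hab hac hbc
        (fun g h1 h2 h3' => Zassenhaus.eq_one hZ hab hbc hac h1 h2 h3') F hFle hFn hFc hreg hHc
        (Kernel.irreducible_of_large hZ hab h.ge hFle hreg) h heven s hsa hsb hsc hinv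
  · obtain ⟨hle, hnil⟩ := AbelianKernel.card_le_of_odd hab G hZ F hFle hFn hFc hreg hodd
    rcases hcases hle with h | h
    · exact Or.inl h
    refine Or.inr ⟨h, ?_⟩
    obtain ⟨hcyc, -, hinv⟩ := OddStab.cyclic_inverted hZ hab hodd hnil
    haveI := hcyc
    have hHc : IsMulCommutative (pairStab G a b) := IsCyclic.commutative
    obtain ⟨s, hsa, hsb⟩ := Zassenhaus.exists_smul_pair hZ hab (Ne.symm hab)
    have hsq : ∀ w : G, w • a = b → w • b = a → w * w = 1 := by
      intro w hwa hwb
      have hH : w * w ∈ pairStab G a b :=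
        Zassenhaus.mem_pairStab.mpr ⟨by rw [mul_smul, hwa, hwb], by rw [mul_smul, hwb, hwa]⟩
      have hi := hinv w hwa hwb _ hH
      rw [show w * (w * w) * w⁻¹ = w * w by group] at hi
      let x : pairStab G a b := ⟨w * w, hH⟩
      have h2 : orderOf x ∣ 2 := orderOf_dvd_of_pow_eq_one
        (Subtype.ext (by rw [Subgroup.coe_pow, pow_two]; exact eq_inv_iff_mul_eq_one.mp hi))
      exact congrArg Subtype.val (orderOf_eq_one_iff.mp
        (Nat.eq_one_of_dvd_coprimes (Nat.coprime_two_left.mpr hodd) h2 (orderOf_dvd_natCard x)))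
    have hfpf : ∀ w : G, w • a = b → w • b = a → w • c ≠ c := by
      intro w hwa hwb hwc
      have h2 : orderOf w = 2 :=
        orderOf_eq_prime (by rw [pow_two]; exact hsq w hwa hwb) fun e => hab (by rw [← hwa, e, one_smul])
      have hdv : orderOf (⟨w, mem_stabilizer_iff.mpr hwc⟩ : stabilizer G c) ∣ Nat.card (stabilizer G c) := orderOf_dvd_natCard _
      rw [Subgroup.orderOf_mk, h2, Zassenhaus.card_stabilizer hZ hca,
        Zassenhaus.card_pairStab_eq hZ hab hca] at hdv
      obtain ⟨j, hj⟩ := hodd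
      have hodd' : Odd ((Fintype.card Ω - 1) * d) :=
        Odd.mul ⟨d, by omega⟩ ⟨j, hj⟩
      exact (Nat.not_even_iff_odd.mpr hodd') (even_iff_two_dvd.mpr hdv)
    exact psl_of_inverted_odd hab (Ne.symm hca) (Ne.symm hcb) hthree F hFle hFn hFc hreg hHc
      (Kernel.irreducible_of_large hZ hab hle hFle hreg) h hodd s hsa hsb (hsq s hsa hsb)
      (hinv s hsa hsb) hfpf

end CfsgLib.PermSmall.OddRecognition
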