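import Cfsg.Agent.Lib.PermSmall.Recognition
import Cfsg.Agent.Lib.PermGroup.SharpTwoKernel

/-!
Regular normal subgroups of point stabilisers for the recognition theorems.
-/

namespace CfsgLib.PermSmall.Kernel

open MulAction
open CfsgLib.PermSmall.Zassenhaus (pairStab)

variable {G Ω : Type*} [Group G] [MulAction G Ω] {a b : Ω}

theorem regular_ne (hab : a ≠ b) {F : Subgroup G} (hFle : F ≤ stabilizer G a)
    (hreg : ∀ y z : Ω, y ≠ a → z ≠ a → ∃! u : F, (u : G) • y = z) {u : G} (hu : u ∈ F)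
    (hu1 : u ≠ 1) : u • b ≠ a ∧ u • b ≠ b := by
  refine ⟨fun e => hab (smul_left_cancel u (e.trans (hFle hu).symm)).symm, fun e => ?_⟩
  obtain ⟨w, -, huniq⟩ := hreg b b (Ne.symm hab) (Ne.symm hab)
  exact hu1 (congrArg Subtype.val ((huniq ⟨u, hu⟩ e).trans (huniq 1 (one_smul _ _)).symm))

theorem regular_inj (hab : a ≠ b) {F : Subgroup G} (hFle : F ≤ stabilizer G a)
    (hreg : ∀ y z : Ω, y ≠ a → z ≠ a → ∃! u : F, (u : G) • y = z) {u v : G} (hu : u ∈ F)
    (hv : v ∈ F) (h : u • b = v • b) : u = v := by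
  by_contra hne
  exact (regular_ne hab hFle hreg (mul_mem (inv_mem hv) hu)
    (fun e => hne (inv_mul_eq_one.mp e).symm)).2 (by rw [mul_smul, h, inv_smul_smul])

theorem card_regular [Fintype Ω] (hab : a ≠ b) {F : Subgroup G} (hFle : F ≤ stabilizer G a)
    (hreg : ∀ y z : Ω, y ≠ a → z ≠ a → ∃! u : F, (u : G) • y = z) :
    Nat.card F = Fintype.card Ω - 1 := by
  classical
  rw [← Fintype.card_subtype_eq a, ← Fintype.card_subtype_compl, ← Nat.card_eq_fintype_card]
  refine Nat.card_congr (Equiv.ofBijective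
    (fun u : F => (⟨(u : G) • b, fun e => hab (smul_left_cancel (u : G) (e.trans (hFle u.2).symm)).symm⟩
      : {x : Ω // ¬ x = a})) ⟨?_, ?_⟩)
  · intro u v e
    exact Subtype.ext (regular_inj hab hFle hreg u.2 v.2 (congrArg Subtype.val e))
  · intro x
    obtain ⟨u, hu, -⟩ := hreg b x.1 (Ne.symm hab) x.2
    exact ⟨u, Subtype.ext hu⟩

/-- If the two-point stabiliser has at least half as many elements as there are other points, it
leaves invariant no proper non-trivial subgroup of the regular subgroup. -/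
theorem irreducible_of_large [Finite G] [Fintype Ω] (hZ : Cfsg.IsZassenhausGroup G Ω) (hab : a ≠ b)
    (hd : Fintype.card Ω - 2 ≤ 2 * Nat.card (pairStab G a b))
    {F : Subgroup G} (hFle : F ≤ stabilizer G a)
    (hreg : ∀ y z : Ω, y ≠ a → z ≠ a → ∃! u : F, (u : G) • y = z)
    (M : Subgroup G) (hMF : M ≤ F) (hMH : ∀ g ∈ pairStab G a b, ∀ u ∈ M, g * u * g⁻¹ ∈ M)
    (hM1 : ∃ u ∈ M, u ≠ 1) : M = F := by
  set d := Nat.card (pairStab G a b)
  have hcardF := card_regular hab hFle hreg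
  have hinj : ∀ u ∈ F, ∀ v ∈ F, u • b = v • b → u = v := fun u hu v hv => regular_inj hab hFle hreg hu hv
  set S : Set Ω := (fun u : G => u • b) '' ((M : Set G) \ {1}) with hS
  have hScard : S.ncard = Nat.card M - 1 := by
    rw [hS, Set.InjOn.ncard_image (fun u hu v hv e => hinj u (hMF hu.1) v (hMF hv.1) e),
      Set.ncard_sdiff (by simp) (Set.toFinite _), Set.ncard_singleton]
    rfl
  have hdvdS : d ∣ S.ncard := by
    refine CfsgLib.PermSmall.Zassenhaus.dvd_ncard_invariant hZ hab S ?_ ?_ ?_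
    · rintro g hg _ ⟨u, ⟨hu, hu1⟩, rfl⟩
      refine ⟨g * u * g⁻¹, ⟨hMH g hg u hu, fun e => hu1 ?_⟩, ?_⟩
      · simp only [Set.mem_singleton_iff] at e ⊢
        exact conj_eq_one_iff.mp e
      · show (g * u * g⁻¹) • b = g • u • b
        rw [mul_smul, mul_smul, inv_smul_eq_iff.mpr hg.2.symm]
    · rintro ⟨u, ⟨hu, hu1⟩, e⟩; exact (regular_ne hab hFle hreg (hMF hu) hu1).1 e
    · rintro ⟨u, ⟨hu, hu1⟩, e⟩; exact (regular_ne hab hFle hreg (hMF hu) hu1).2 e
  have hMpos : 1 < Nat.card M := by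
    rw [Finite.one_lt_card_iff_nontrivial]
    obtain ⟨u, hu, hu1⟩ := hM1
    exact ⟨⟨u, hu⟩, 1, fun e => hu1 (congrArg Subtype.val e)⟩
  refine Subgroup.eq_of_le_of_card_ge hMF ?_
  obtain ⟨q, hq⟩ := Subgroup.card_dvd_of_le hMF
  by_contra hlt
  have hq2 : 2 ≤ q := by
    rcases q with _ | _ | q
    · have hp : 0 < Nat.card F := Nat.card_pos
      omega
    · omega
    · omega
  have : Nat.card M * 2 ≤ Nat.card M * q := Nat.mul_le_mul_left _ hq2
  have := Nat.le_of_dvd (by omega) hdvdS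
  omega

/-- If the two-point stabiliser is transitive on the other points, it leaves invariant no proper
non-trivial subgroup of the regular subgroup. -/
theorem irreducible_of_transitive (hab : a ≠ b) {F : Subgroup G} (hFle : F ≤ stabilizer G a)
    (hnorm : ∀ g ∈ pairStab G a b, ∀ u ∈ F, g * u * g⁻¹ ∈ F)
    (hreg : ∀ y z : Ω, y ≠ a → z ≠ a → ∃! u : F, (u : G) • y = z)
    (htr : ∀ x y : Ω, x ≠ a → x ≠ b → y ≠ a → y ≠ b → ∃ h ∈ pairStab G a b, h • x = y)
    (M : Subgroup G) (hMF : M ≤ F) (hMH : ∀ g ∈ pairStab G a b, ∀ u ∈ M, g * u * g⁻¹ ∈ M)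
    (hM1 : ∃ u ∈ M, u ≠ 1) : M = F := by
  refine le_antisymm hMF fun v hv => ?_
  obtain ⟨u, hu, hu1⟩ := hM1
  by_cases hv1 : v = 1
  · exact hv1 ▸ one_mem M
  obtain ⟨h1, h2⟩ := regular_ne hab hFle hreg (hMF hu) hu1
  obtain ⟨h3, h4⟩ := regular_ne hab hFle hreg hv hv1
  obtain ⟨h, hh, he⟩ := htr _ _ h1 h2 h3 h4
  have : h * u * h⁻¹ = v := regular_inj hab hFle hreg (hnorm h hh u (hMF hu)) hv
    (by rw [mul_smul, mul_smul, inv_smul_eq_iff.mpr hh.2.symm, he])
  exact this ▸ hMH h hh u hu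

/-- The point stabiliser of a sharply 3-transitive group has an elementary abelian regular normal
subgroup, and the two-point stabilisers are regular on the other points. -/
theorem sharplyThree [Finite G] [Fintype Ω] (h3 : IsMultiplyPretransitive G Ω 3)
    (hthree : ∀ g : G, ∀ x y z : Ω, x ≠ y → y ≠ z → x ≠ z → g • x = x → g • y = y → g • z = z → g = 1)
    (hn : 3 ≤ Fintype.card Ω) (hab : a ≠ b) :
    (∀ x y : Ω, x ≠ a → x ≠ b → y ≠ a → y ≠ b → ∃ h ∈ pairStab G a b, h • x = y) ∧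
    Nat.card (pairStab G a b) = Fintype.card Ω - 2 ∧
    ∃ F : Subgroup G, F ≤ stabilizer G a ∧ (F.subgroupOf (stabilizer G a)).Normal ∧
      IsMulCommutative F ∧ (∀ g : G, g ∈ F ↔ g = 1 ∨ ∀ x, g • x = x ↔ x = a) ∧
      ∀ y z : Ω, y ≠ a → z ≠ a → ∃! u : F, (u : G) • y = z := by
  classical
  have hemb : ∀ x y z x' y' z' : Ω, x ≠ y → x ≠ z → y ≠ z → x' ≠ y' → x' ≠ z' → y' ≠ z' →
      ∃ g : G, g • x = x' ∧ g • y = y' ∧ g • z = z' := by
    intro x y z x' y' z' h1 h2 h3' h1' h2' h3''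
    let u : Fin 3 ↪ Ω := ⟨![x, y, z], fun i j e => by
      fin_cases i <;> fin_cases j <;> simp_all [eq_comm]⟩
    let v : Fin 3 ↪ Ω := ⟨![x', y', z'], fun i j e => by
      fin_cases i <;> fin_cases j <;> simp_all [eq_comm]⟩
    obtain ⟨g, hg⟩ := exists_smul_eq G u v
    exact ⟨g, DFunLike.congr_fun hg 0, DFunLike.congr_fun hg 1, DFunLike.congr_fun hg 2⟩
  have htr : ∀ x y : Ω, x ≠ a → x ≠ b → y ≠ a → y ≠ b → ∃ h ∈ pairStab G a b, h • x = y := by
    intro x y h1 h2 h3' h4
    obtain ⟨g, g1, g2, g3⟩ := hemb a b x a b y hab (Ne.symm h1) (Ne.symm h2) hab (Ne.symm h3') (Ne.symm h4)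
    exact ⟨g, ⟨g1, g2⟩, g3⟩
  refine ⟨htr, ?_, ?_⟩
  · obtain ⟨c, hca, hcb⟩ : ∃ c, c ≠ a ∧ c ≠ b := by
      by_contra hall
      simp only [not_exists, not_and, not_not] at hall
      have : (Finset.univ : Finset Ω) ⊆ {a, b} := fun x _ => by
        by_cases hx : x = a
        · simp [hx]
        · simp [hall x hx]
      have := Finset.card_le_card this
      rw [Finset.card_univ, Finset.card_pair hab] at this
      omega
    rw [← Finset.card_univ, ← Finset.card_pair hab, ← Finset.card_sdiff_of_subset (Finset.subset_univ _),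
      ← Fintype.card_coe, ← Nat.card_eq_fintype_card]
    refine Nat.card_congr (Equiv.ofBijective (fun h : pairStab G a b =>
      (⟨(h : G) • c, Finset.mem_sdiff.mpr ⟨Finset.mem_univ _, ?_⟩⟩ :
        ↥((Finset.univ : Finset Ω) \ {a, b}))) ⟨?_, ?_⟩)
    · simp only [Finset.mem_insert, Finset.mem_singleton, not_or]
      exact ⟨fun e => hca (smul_left_cancel (h : G) (e.trans h.2.1.symm)),
        fun e => hcb (smul_left_cancel (h : G) (e.trans h.2.2.symm))⟩
    · intro g h e
      have e' : (g : G) • c = (h : G) • c := congrArg Subtype.val e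
      apply Subtype.ext
      refine (inv_mul_eq_one.mp (hthree ((h : G)⁻¹ * g) a b c hab (Ne.symm hcb) (Ne.symm hca)
        ((h⁻¹ * g) : pairStab G a b).2.1 ((h⁻¹ * g) : pairStab G a b).2.2
        (by rw [mul_smul, e', inv_smul_smul]))).symm
    · intro x
      have hx := (Finset.mem_sdiff.mp x.2).2
      simp only [Finset.mem_insert, Finset.mem_singleton, not_or] at hx
      obtain ⟨h, hh, he⟩ := htr c x.1 hca hcb hx.1 hx.2
      exact ⟨⟨h, hh⟩, Subtype.ext he⟩
  · -- sharply 2-transitive on the remaining points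
    have h2 : IsMultiplyPretransitive (stabilizer G a) (SubMulAction.ofStabilizer G a) 2 := by
      rw [is_two_pretransitive_iff]
      intro x y x' y' hxy hxy'
      obtain ⟨g, g1, g2, g3⟩ := hemb a x y a x' y' (Ne.symm x.2) (Ne.symm y.2)
        (fun e => hxy (Subtype.ext e)) (Ne.symm x'.2) (Ne.symm y'.2) (fun e => hxy' (Subtype.ext e))
      exact ⟨⟨g, g1⟩, Subtype.ext g2, Subtype.ext g3⟩
    have hs : ∀ g : stabilizer G a, ∀ x y : SubMulAction.ofStabilizer G a, x ≠ y →
        g • x = x → g • y = y → g = 1 := by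
      intro g x y hxy hx hy
      exact Subtype.ext (hthree g a x y (Ne.symm x.2) (fun e => hxy (Subtype.ext e)) (Ne.symm y.2) g.2
        (congrArg Subtype.val hx) (congrArg Subtype.val hy))
    have hcard : 2 ≤ Nat.card (SubMulAction.ofStabilizer G a) := by
      have := SubMulAction.nat_card_ofStabilizer_add_one_eq (G := G) a
      rw [Nat.card_eq_fintype_card (α := Ω)] at this
      omega
    obtain ⟨K, hKn, hKc, hKmem, hKtr, hKst, -⟩ := CfsgLib.PermGroup.sharpTwo_kernel h2 hs hcard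
    refine ⟨K.map (stabilizer G a).subtype, Subgroup.map_subtype_le _, ?_, ?_, ?_, ?_⟩
    · rw [Subgroup.subgroupOf, Subgroup.comap_map_eq_self_of_injective (Subgroup.subtype_injective _)]
      exact hKn
    · refine ⟨⟨?_⟩⟩
      rintro ⟨_, x, hx, rfl⟩ ⟨_, y, hy, rfl⟩
      apply Subtype.ext
      have := congrArg (fun k : K => ((k : stabilizer G a) : G)) (hKc.is_comm.comm ⟨x, hx⟩ ⟨y, hy⟩)
      simpa using this
    · intro g
      constructor
      · rintro ⟨k, hk, rfl⟩
        rcases (hKmem k).mp hk with rfl | h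
        · exact Or.inl rfl
        · refine Or.inr fun x => ⟨fun hx => ?_, fun hx => hx ▸ k.2⟩
          by_contra hxa
          exact h ⟨x, hxa⟩ (Subtype.ext hx)
      · rintro (rfl | h)
        · exact one_mem _
        · refine ⟨⟨g, (h a).mpr rfl⟩, (hKmem _).mpr (Or.inr fun x hx => ?_), rfl⟩
          exact x.2 ((h x).mp (congrArg Subtype.val hx))
    · intro y z hy hz
      obtain ⟨k, hk⟩ := hKtr.exists_smul_eq (⟨y, hy⟩ : SubMulAction.ofStabilizer G a) ⟨z, hz⟩
      refine ⟨⟨((k : stabilizer G a) : G), ⟨k, k.2, rfl⟩⟩, congrArg Subtype.val hk, ?_⟩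
      rintro ⟨_, k', hk', rfl⟩ he
      apply Subtype.ext
      have : (⟨k', hk'⟩ : K) = k := CfsgLib.PermGroup.semiregular_inj hKst
        (x := (⟨y, hy⟩ : SubMulAction.ofStabilizer G a)) (Subtype.ext (he.trans (congrArg Subtype.val hk).symm))
      exact congrArg (fun k : K => ((k : stabilizer G a) : G)) this

/-- Trivial stabilisers of ordered triples mean that only the identity fixes three points. -/
theorem three_of_stabilizer_embedding (hsharp : ∀ x : Fin 3 ↪ Ω, stabilizer G x = ⊥) (g : G)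
    (x y z : Ω) (hxy : x ≠ y) (hyz : y ≠ z) (hxz : x ≠ z) (hx : g • x = x) (hy : g • y = y)
    (hz : g • z = z) : g = 1 := by
  let u : Fin 3 ↪ Ω := ⟨![x, y, z], fun i j e => by
    fin_cases i <;> fin_cases j <;> simp [hxy, hyz, hxz, hxy.symm, hyz.symm, hxz.symm] at e ⊢⟩
  have hg : g ∈ stabilizer G u := by
    rw [mem_stabilizer_iff]
    ext i
    rw [Function.Embedding.smul_apply]
    fin_cases i
    · exact hx
    · exact hy
    · exact hz
  rwa [hsharp, Subgroup.mem_bot] at hg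

end CfsgLib.PermSmall.Kernel
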