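import Mathlib.Topology.Compactification.OnePoint.ProjectiveLine
import Mathlib.LinearAlgebra.Matrix.GeneralLinearGroup.Projective
import Mathlib.LinearAlgebra.Matrix.ProjectiveSpecialLinearGroup
import Mathlib.Tactic

/-!
Recognition of `PGL(2,K)` and `PSL(2,K)` as permutation groups of the projective line.
-/

namespace CfsgLib.PermSmall.Moebius

open OnePoint

variable {K : Type*} [Field K] [DecidableEq K]

/-- The permutation `x ↦ t * x + β` of the projective line. -/
def affinePerm (t : Kˣ) (β : K) : Equiv.Perm (OnePoint K) where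
  toFun x := x.elim ∞ fun k => ((t : K) * k + β : K)
  invFun x := x.elim ∞ fun k => ((t : K)⁻¹ * (k - β) : K)
  left_inv x := by cases x <;> simp
  right_inv x := by cases x <;> simp

@[simp] theorem affinePerm_infty (t : Kˣ) (β : K) : affinePerm t β ∞ = ∞ := rfl

@[simp] theorem affinePerm_coe (t : Kˣ) (β k : K) :
    affinePerm t β (k : OnePoint K) = (((t : K) * k + β : K) : OnePoint K) := rfl

/-- The action of `GL(2,K)` on the projective line. -/
def glHom (K : Type*) [Field K] [DecidableEq K] : GL (Fin 2) K →* Equiv.Perm (OnePoint K) :=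
  MulAction.toPermHom (GL (Fin 2) K) (OnePoint K)

theorem glHom_apply (g : GL (Fin 2) K) (x : OnePoint K) : glHom K g x = g • x := rfl

/-- The action of `SL(2,K)` on the projective line. -/
def slHom (K : Type*) [Field K] [DecidableEq K] :
    Matrix.SpecialLinearGroup (Fin 2) K →* Equiv.Perm (OnePoint K) :=
  (glHom K).comp Matrix.SpecialLinearGroup.toGL

theorem glHom_eq_affinePerm {g : GL (Fin 2) K} (h : g 1 0 = 0) :
    ∃ t : Kˣ, (t : K) * g 1 1 = g 0 0 ∧ glHom K g = affinePerm t (g 0 1 / g 1 1) := by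
  have hdet := g.det_ne_zero
  rw [Matrix.det_fin_two, h, mul_zero, sub_zero] at hdet
  have h00 : g 0 0 ≠ 0 := left_ne_zero_of_mul hdet
  have h11 : g 1 1 ≠ 0 := right_ne_zero_of_mul hdet
  refine ⟨Units.mk0 (g 0 0 / g 1 1) (div_ne_zero h00 h11), by simp [div_mul_cancel₀ _ h11], ?_⟩
  refine Equiv.ext fun x => ?_
  rw [glHom_apply]
  cases x with
  | infty => simp [smul_infty_eq_ite, h]
  | coe k =>
    simp only [smul_some_eq_ite, h, zero_mul, zero_add, if_neg h11, affinePerm_coe, Units.val_mk0,
      OnePoint.coe_eq_coe]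
    field_simp

/-- The kernel of the action of `GL(2,K)` on the projective line is the centre. -/
theorem glHom_ker : (glHom K).ker = Subgroup.center (GL (Fin 2) K) := by
  ext g
  rw [MonoidHom.mem_ker, Matrix.GeneralLinearGroup.center_eq_range_scalar]
  constructor
  · intro hg
    have h10 : g 1 0 = 0 := by
      have := Equiv.congr_fun hg (∞ : OnePoint K)
      rwa [glHom_apply, Equiv.Perm.one_apply, smul_infty_eq_self_iff] at this
    obtain ⟨t, ht, htg⟩ := glHom_eq_affinePerm h10
    have h0 := Equiv.congr_fun (htg.symm.trans hg) ((0 : K) : OnePoint K)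
    have h1 := Equiv.congr_fun (htg.symm.trans hg) ((1 : K) : OnePoint K)
    simp only [affinePerm_coe, Equiv.Perm.one_apply, mul_zero, zero_add, mul_one,
      OnePoint.coe_eq_coe] at h0 h1
    rw [h0, add_zero] at h1
    rw [h1, one_mul] at ht
    have hdet := g.det_ne_zero
    rw [Matrix.det_fin_two, h10, mul_zero, sub_zero] at hdet
    have h11 : g 1 1 ≠ 0 := right_ne_zero_of_mul hdet
    have h01 : g 0 1 = 0 := by
      rcases div_eq_zero_iff.mp h0 with e | e
      · exact e
      · exact absurd e h11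
    refine ⟨Units.mk0 (g 1 1) h11, ?_⟩
    apply Units.ext
    ext i j
    fin_cases i <;> fin_cases j <;>
      simp [Matrix.GeneralLinearGroup.coe_scalar, Matrix.scalar_apply, h10, h01, ← ht]
  · rintro ⟨u, rfl⟩
    refine Equiv.ext fun x => ?_
    rw [glHom_apply, Equiv.Perm.one_apply]
    cases x with
    | infty => simp [smul_infty_eq_ite, Matrix.GeneralLinearGroup.coe_scalar, Matrix.scalar_apply]
    | coe k =>
      simp [smul_some_eq_ite, Matrix.GeneralLinearGroup.coe_scalar, Matrix.scalar_apply]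

theorem slHom_ker :
    (slHom K).ker = Subgroup.center (Matrix.SpecialLinearGroup (Fin 2) K) := by
  ext g
  rw [slHom, ← MonoidHom.comap_ker, glHom_ker, Subgroup.mem_comap,
    Matrix.SpecialLinearGroup.toGL_mem_center_iff]

/-- Two groups of permutations of the projective line coincide if they contain one common
element exchanging `∞` with a finite point, contain all translations and have the same stabiliser
of `∞`. -/
theorem eq_of_stabilizer_eq {P Q : Subgroup (Equiv.Perm (OnePoint K))} (w : Equiv.Perm (OnePoint K))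
    (hwP : w ∈ P) (hwQ : w ∈ Q) (hw0 : w ((0 : K) : OnePoint K) = ∞)
    (hTP : ∀ β, affinePerm 1 β ∈ P)
    (hstab : ∀ σ : Equiv.Perm (OnePoint K), σ ∞ = ∞ → (σ ∈ P ↔ σ ∈ Q)) : P = Q := by
  have hT : ∀ β, affinePerm 1 β ∈ Q := fun β => (hstab _ (affinePerm_infty _ _)).mp (hTP β)
  have key : ∀ P Q : Subgroup (Equiv.Perm (OnePoint K)), w ∈ P → w ∈ Q →
      (∀ β, affinePerm 1 β ∈ P) → (∀ β, affinePerm 1 β ∈ Q) →
      (∀ σ : Equiv.Perm (OnePoint K), σ ∞ = ∞ → σ ∈ P → σ ∈ Q) → P ≤ Q := by
    intro P Q hwP hwQ hTP hTQ hst σ hσ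
    cases hc : σ ∞ with
    | infty => exact hst σ hc hσ
    | coe c =>
      set τ := w * affinePerm 1 (-c) * σ with hτ
      have h1 : τ ∞ = ∞ := by simp [hτ, hc, hw0]
      have h2 : τ ∈ Q := hst τ h1 (mul_mem (mul_mem hwP (hTP _)) hσ)
      have h3 : σ = (w * affinePerm 1 (-c))⁻¹ * τ := by rw [hτ]; group
      rw [h3]
      exact mul_mem (inv_mem (mul_mem hwQ (hTQ _))) h2
  exact le_antisymm (key P Q hwP hwQ hTP hT fun σ h => (hstab σ h).mp)
    (key Q P hwQ hwP hT hTP fun σ h => (hstab σ h).mpr)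

/-- `x ↦ t * x + β` comes from `GL(2,K)`. -/
theorem affinePerm_mem_glHom (t : Kˣ) (β : K) : affinePerm t β ∈ (glHom K).range := by
  let g : GL (Fin 2) K := Matrix.GeneralLinearGroup.mkOfDetNeZero !![(t : K), β; 0, 1]
    (by simp [Matrix.det_fin_two])
  refine ⟨g, ?_⟩
  obtain ⟨u, hu, hg⟩ := glHom_eq_affinePerm (g := g) (by simp [g])
  rw [hg]
  have hut : u = t := Units.ext (by simpa [g] using hu)
  rw [hut]
  simp [g]

/-- The group of fractional linear maps is recognised by its stabiliser of `∞` and inversion. -/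
theorem eq_range_glHom {P : Subgroup (Equiv.Perm (OnePoint K))}
    (hstab : ∀ σ : Equiv.Perm (OnePoint K), σ ∞ = ∞ → (σ ∈ P ↔ ∃ t β, σ = affinePerm t β))
    (w : Equiv.Perm (OnePoint K)) (hwP : w ∈ P) (hwi : w ∞ = ((0 : K) : OnePoint K))
    (hw0 : w ((0 : K) : OnePoint K) = ∞)
    (hwx : ∀ k : K, k ≠ 0 → w (k : OnePoint K) = ((1 / k : K) : OnePoint K)) :
    P = (glHom K).range := by
  refine eq_of_stabilizer_eq w hwP ?_ hw0
    (fun β => (hstab _ (affinePerm_infty _ _)).mpr ⟨1, β, rfl⟩) fun σ hσ => ?_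
  · refine ⟨Matrix.GeneralLinearGroup.mkOfDetNeZero !![0, 1; 1, 0] (by simp [Matrix.det_fin_two]), ?_⟩
    refine Equiv.ext fun x => ?_
    rw [glHom_apply]
    cases x with
    | infty => simp [smul_infty_eq_ite, hwi]
    | coe k =>
      rcases eq_or_ne k 0 with rfl | hk
      · simp [smul_some_eq_ite, hw0]
      · simp [smul_some_eq_ite, hk, hwx k hk]
  · rw [hstab σ hσ]
    constructor
    · rintro ⟨t, β, rfl⟩; exact affinePerm_mem_glHom t β
    · rintro ⟨g, rfl⟩
      rw [glHom_apply, smul_infty_eq_self_iff] at hσ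
      obtain ⟨t, -, ht⟩ := glHom_eq_affinePerm hσ
      exact ⟨t, _, ht⟩

theorem glHom_mem_range_slHom (g : GL (Fin 2) K)
    (hdet : (g : Matrix (Fin 2) (Fin 2) K).det = 1) : glHom K g ∈ (slHom K).range :=
  ⟨⟨(g : Matrix (Fin 2) (Fin 2) K), hdet⟩, congrArg (glHom K) (Units.ext rfl)⟩

/-- The group of fractional linear maps of determinant one is recognised by its stabiliser of `∞`
and negative inversion. -/
theorem eq_range_slHom {P : Subgroup (Equiv.Perm (OnePoint K))}
    (hstab : ∀ σ : Equiv.Perm (OnePoint K), σ ∞ = ∞ →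
      (σ ∈ P ↔ ∃ (t : Kˣ) (β : K), IsSquare t ∧ σ = affinePerm t β))
    (w : Equiv.Perm (OnePoint K)) (hwP : w ∈ P) (hwi : w ∞ = ((0 : K) : OnePoint K))
    (hw0 : w ((0 : K) : OnePoint K) = ∞)
    (hwx : ∀ k : K, k ≠ 0 → w (k : OnePoint K) = ((-1 / k : K) : OnePoint K)) :
    P = (slHom K).range := by
  refine eq_of_stabilizer_eq w hwP ?_ hw0
    (fun β => (hstab _ (affinePerm_infty _ _)).mpr ⟨1, β, IsSquare.one, rfl⟩) fun σ hσ => ?_
  · let g : GL (Fin 2) K :=
      Matrix.GeneralLinearGroup.mkOfDetNeZero !![0, -1; 1, 0] (by simp [Matrix.det_fin_two])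
    have hw : w = glHom K g := by
      refine Equiv.ext fun x => ?_
      rw [glHom_apply]
      cases x with
      | infty => simp [g, smul_infty_eq_ite, hwi]
      | coe k =>
        rcases eq_or_ne k 0 with rfl | hk
        · simp [g, smul_some_eq_ite, hw0]
        · simp [g, smul_some_eq_ite, hk, hwx k hk]
    rw [hw]
    exact glHom_mem_range_slHom g (by simp [g, Matrix.det_fin_two])
  · rw [hstab σ hσ]
    constructor
    · rintro ⟨t, β, ⟨r, rfl⟩, rfl⟩
      let g : GL (Fin 2) K :=
        Matrix.GeneralLinearGroup.mkOfDetNeZero !![(r : K), β * (r : K)⁻¹; 0, (r : K)⁻¹]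
          (by simp [Matrix.det_fin_two])
      obtain ⟨u, hu, hg⟩ := glHom_eq_affinePerm (g := g) (by simp [g])
      have hur : u = r * r := Units.ext (by
        simp [g] at hu ⊢
        field_simp at hu
        linear_combination hu)
      have : affinePerm (r * r) β = glHom K g := by
        rw [hg, hur]
        simp [g]
      rw [this]
      exact glHom_mem_range_slHom g (by simp [g, Matrix.det_fin_two])
    · rintro ⟨g, rfl⟩
      rw [slHom, MonoidHom.comp_apply, glHom_apply, smul_infty_eq_self_iff] at hσ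
      rw [slHom, MonoidHom.comp_apply]
      obtain ⟨t, ht, htg⟩ := glHom_eq_affinePerm hσ
      have hdet : (g : Matrix (Fin 2) (Fin 2) K) 0 0 * (g : Matrix (Fin 2) (Fin 2) K) 1 1 = 1 := by
        have := g.2
        rw [Matrix.det_fin_two] at this
        simp at hσ
        simpa [hσ] using this
      have h0 : (g : Matrix (Fin 2) (Fin 2) K) 0 0 ≠ 0 := left_ne_zero_of_mul_eq_one hdet
      refine ⟨t, _, ⟨Units.mk0 _ h0, Units.ext ?_⟩, htg⟩
      simp at ht ⊢
      linear_combination ((g : Matrix (Fin 2) (Fin 2) K) 0 0) * ht - (t : K) * hdet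

/-- A group of permutations of the projective line equal to the fractional linear group is
isomorphic to `PGL(2,K)`. -/
theorem nonempty_mulEquiv_pgl {G : Type*} [Group G] (f : G →* Equiv.Perm (OnePoint K))
    (hf : Function.Injective f) (h : f.range = (glHom K).range) :
    Nonempty (G ≃* Matrix.ProjGenLinGroup (Fin 2) K) :=
  ⟨((MonoidHom.ofInjective hf).trans (MulEquiv.subgroupCongr h)).trans
    ((QuotientGroup.quotientKerEquivRange (glHom K)).symm.trans
      (QuotientGroup.quotientMulEquivOfEq glHom_ker))⟩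

/-- A group of permutations of the projective line equal to the special fractional linear group is
isomorphic to `PSL(2,K)`. -/
theorem nonempty_mulEquiv_psl {G : Type*} [Group G] (f : G →* Equiv.Perm (OnePoint K))
    (hf : Function.Injective f) (h : f.range = (slHom K).range) :
    Nonempty (G ≃* Matrix.ProjectiveSpecialLinearGroup (Fin 2) K) :=
  ⟨((MonoidHom.ofInjective hf).trans (MulEquiv.subgroupCongr h)).trans
    ((QuotientGroup.quotientKerEquivRange (slHom K)).symm.trans
      (QuotientGroup.quotientMulEquivOfEq slHom_ker))⟩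

end CfsgLib.PermSmall.Moebius
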