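import Cfsg.Agent.Lib.PermSmall.FeitBound
import Cfsg.Agent.Lib.PermSmall.OddStab
import Cfsg.Agent.Lib.Frobenius.Action
import Cfsg.Agent.Lib.Frobenius.Theorem

/-!
Involutions and conjugacy classes of Zassenhaus groups with two-point stabilisers of odd order.
-/

set_option autoImplicit false

noncomputable section

namespace CfsgLib.PermSmall.FeitFrame

open MulAction Cfsg CfsgLib.Characters
open CfsgLib.PermSmall.Zassenhaus (pairStab)
open scoped Classical

universe u

/-- The frame of a simple Zassenhaus group with two-point stabilisers of odd order. -/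
theorem exists_frame {G : Type u} {Ω : Type*} [Group G] [Finite G] [MulAction G Ω] [Fintype Ω]
    (hZ : Cfsg.IsZassenhausGroup G Ω) {a b : Ω} (hab : a ≠ b) [IsSimpleGroup G]
    (hodd : Odd (Nat.card (pairStab G a b))) (H : Subgroup G) (hHa : H ≤ stabilizer G a)
    (hHcard : Nat.card H + 1 = Fintype.card Ω)
    (hHfix : ∀ u ∈ H, u ≠ 1 → ∀ c : Ω, u • c = c → c = a) :
    ∃ T : Frame G a b, T.F = H := by
  have hnil : ∀ q : ℕ, q.Prime → q ∣ Nat.card (pairStab G a b) →
      ¬ ∃ N : Subgroup G, N.Normal ∧ N.index = q ^ (Nat.card G).factorization q := by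
    rintro q hq hqd ⟨N, hN, hNi⟩
    have hv : 0 < (Nat.card G).factorization q := Nat.Prime.factorization_pos_of_dvd hq Nat.card_pos.ne'
      (hqd.trans (Subgroup.card_subgroup_dvd_card _))
    rcases hN.eq_bot_or_eq_top with rfl | rfl
    · obtain ⟨s, hs2, -, -⟩ := Zassenhaus.exists_swapping hZ hab
      rw [Subgroup.index_bot] at hNi
      have h2 : 2 ∣ q ^ (Nat.card G).factorization q := by
        rw [← hNi, ← hs2]; exact orderOf_dvd_natCard s
      obtain rfl := (Nat.prime_dvd_prime_iff_eq Nat.prime_two hq).mp (Nat.prime_two.dvd_of_dvd_pow h2)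
      exact (Nat.not_even_iff_odd.mpr hodd) (even_iff_two_dvd.mpr hqd)
    · rw [Subgroup.index_top] at hNi
      exact (Nat.one_lt_pow hv.ne' hq.one_lt).ne hNi
  obtain ⟨hcyc, -, hinv⟩ := OddStab.cyclic_inverted hZ hab hodd hnil
  haveI := hcyc
  have hfree : ∀ u ∈ H, ∀ y, y ≠ a → u • y = y → u = 1 := fun u hu y hy e =>
    by_contra fun h1 => hy (hHfix u hu h1 y e)
  have hreg : ∀ y z : Ω, y ≠ a → z ≠ a → ∃! u : H, (u : G) • y = z := by
    intro y z hy hz
    let f : H → {x : Ω // ¬ x = a} := fun u => ⟨(u : G) • y, fun e =>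
      hy (smul_left_cancel (u : G) (e.trans (hHa u.2).symm))⟩
    have hf : Function.Bijective f := by
      refine (Nat.bijective_iff_injective_and_card _).mpr ⟨?_, ?_⟩
      · intro u v e
        have e' : (u : G) • y = (v : G) • y := congrArg Subtype.val e
        apply Subtype.ext
        exact (inv_mul_eq_one.mp (hfree _ (mul_mem (inv_mem v.2) u.2) y hy
          (by rw [mul_smul, e', inv_smul_smul]))).symm
      · rw [Nat.card_eq_fintype_card (α := {x : Ω // ¬ x = a}), Fintype.card_subtype_compl,
          Fintype.card_subtype_eq]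
        omega
    obtain ⟨u, hu⟩ := hf.2 ⟨z, hz⟩
    exact ⟨u, congrArg Subtype.val hu, fun v hv => hf.1 (hu ▸ Subtype.ext hv)⟩
  have hset : ∀ g : G, g ∈ H ↔ g = 1 ∨ Zassenhaus.fixOnly a g := by
    have h1 : (1 : G) ∉ {g : G | Zassenhaus.fixOnly a g} := fun h =>
      hab ((h b).mp (one_smul G b)).symm
    have heq : (H : Set G) = insert 1 {g : G | Zassenhaus.fixOnly a g} := by
      refine Set.eq_of_subset_of_ncard_le ?_ ?_ (Set.toFinite _)
      · intro g hg
        by_cases hg1 : g = 1
        · exact Set.mem_insert_iff.mpr (Or.inl hg1)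
        · exact Set.mem_insert_of_mem _ fun x => ⟨hHfix g hg hg1 x, fun e => e ▸ hHa hg⟩
      · rw [Set.ncard_insert_of_notMem h1 (Set.toFinite _)]
        have := Zassenhaus.ncard_fixOnly hZ a
        have : (H : Set G).ncard = Nat.card H := rfl
        omega
    intro g
    rw [← SetLike.mem_coe, heq]
    exact Set.mem_insert_iff
  have hnorm : ∀ g, g • a = a → ∀ u ∈ H, g * u * g⁻¹ ∈ H := by
    intro g hg u hu
    rw [hset] at hu ⊢
    rcases hu with rfl | hu
    · left; group
    · right
      intro x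
      rw [mul_smul, mul_smul, smul_eq_iff_eq_inv_smul, hu, inv_smul_eq_iff, hg]
  obtain ⟨s, hs⟩ := Zassenhaus.exists_smul_pair hZ hab (Ne.symm hab)
  exact ⟨{ ne := hab, three := hZ.2.2.1, swap := s, swap_a := hs.1, swap_b := hs.2, F := H,
           F_le := hHa, F_norm := hnorm, regular := hreg, H_comm := IsCyclic.commutative,
           odd := hodd, inv := hinv }, rfl⟩

theorem orderOf_two_iff {G : Type*} [Monoid G] {w : G} : orderOf w = 2 ↔ w * w = 1 ∧ w ≠ 1 := by
  rw [orderOf_eq_prime_iff (p := 2), pow_two]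

namespace Frame

variable {G : Type u} {Ω : Type*} [Group G] [MulAction G Ω] {a b : Ω} (T : Frame G a b)
include T

theorem exists_pair {x y : Ω} (hxy : x ≠ y) : ∃ g : G, g • a = x ∧ g • b = y := by
  obtain ⟨g, hg⟩ := T.transitive x
  have hne : g⁻¹ • y ≠ a := fun e => hxy (by rw [← hg, ← e, smul_inv_smul])
  obtain ⟨u, hu, -⟩ := T.regular b _ (Ne.symm T.ne) hne
  exact ⟨g * u, by rw [mul_smul, show (u : G) • a = a from T.F_le u.2, hg],
    by rw [mul_smul, hu, smul_inv_smul]⟩

variable [Finite G]

theorem eq_one_of_two_fixed {w : G} (hw : w * w = 1) {x y : Ω} (hxy : x ≠ y) (hx : w • x = x)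
    (hy : w • y = y) : w = 1 := by
  obtain ⟨g, rfl, rfl⟩ := T.exists_pair hxy
  have hmem : g⁻¹ * w * g ∈ pairStab G a b := Zassenhaus.mem_pairStab.mpr
    ⟨by rw [mul_smul, mul_smul, hx, inv_smul_smul], by rw [mul_smul, mul_smul, hy, inv_smul_smul]⟩
  let v : T.H := ⟨_, hmem⟩
  have h2 : orderOf v ∣ 2 := orderOf_dvd_of_pow_eq_one (Subtype.ext (by
    show ((v ^ 2 : T.H) : G) = 1
    rw [Subgroup.coe_pow, pow_two]
    show g⁻¹ * w * g * (g⁻¹ * w * g) = 1
    calc g⁻¹ * w * g * (g⁻¹ * w * g) = g⁻¹ * (w * w) * g := by group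
      _ = 1 := by rw [hw]; group))
  have h1 : g⁻¹ * w * g = 1 := congrArg Subtype.val (orderOf_eq_one_iff.mp
    (Nat.eq_one_of_dvd_coprimes (Nat.coprime_two_left.mpr T.odd) h2 (orderOf_dvd_natCard v)))
  calc w = g * (g⁻¹ * w * g) * g⁻¹ := by group
    _ = 1 := by rw [h1]; group

theorem conj_swap {w : G} (hwa : w • a = b) (hwb : w • b = a) :
    ∃ k ∈ T.H, k⁻¹ * T.swap * k = w := by
  have hh : T.swap⁻¹ * w ∈ pairStab G a b := Zassenhaus.mem_pairStab.mpr
    ⟨by rw [mul_smul, hwa, inv_smul_eq_iff, T.swap_a], by rw [mul_smul, hwb, inv_smul_eq_iff, T.swap_b]⟩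
  let h : T.H := ⟨_, hh⟩
  have hcop : Nat.Coprime 2 (orderOf h) :=
    Nat.coprime_two_left.mpr (T.odd.of_dvd_nat (orderOf_dvd_natCard h))
  obtain ⟨j, hj⟩ := exists_pow_eq_self_of_coprime hcop
  set k : T.H := h ^ j with hk
  have hkk : (k : G) * k = T.swap⁻¹ * w := by
    have : ((k * k : T.H) : G) = (h : G) := by rw [hk, ← pow_two, ← pow_mul, mul_comm, pow_mul, hj]
    exact this
  refine ⟨k, k.2, ?_⟩
  have hi := T.inv T.swap⁻¹ (by rw [inv_smul_eq_iff, T.swap_b]) (by rw [inv_smul_eq_iff, T.swap_a]) _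
    (inv_mem k.2)
  rw [inv_inv, inv_inv] at hi
  calc (k : G)⁻¹ * T.swap * k = T.swap * (T.swap⁻¹ * (k : G)⁻¹ * T.swap) * k := by group
    _ = T.swap * ((k : G) * k) := by rw [hi]; group
    _ = w := by rw [hkk]; group

theorem exists_moved {w : G} (hw : orderOf w = 2) : ∃ x : Ω, w • x ≠ x := by
  by_contra hall
  simp only [not_exists, not_not] at hall
  obtain ⟨h1, h2⟩ := orderOf_two_iff.mp hw
  exact h2 (T.eq_one_of_two_fixed h1 T.ne (hall a) (hall b))

/-- All involutions are conjugate. -/
theorem isConj_swap {w : G} (hw : orderOf w = 2) : IsConj T.swap w := by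
  obtain ⟨h1, -⟩ := orderOf_two_iff.mp hw
  obtain ⟨x, hx⟩ := T.exists_moved hw
  obtain ⟨g, hga, hgb⟩ := T.exists_pair (Ne.symm hx)
  obtain ⟨k, -, hk⟩ := T.conj_swap (w := g⁻¹ * w * g)
    (by rw [mul_smul, mul_smul, hga, inv_smul_eq_iff, hgb])
    (by rw [mul_smul, mul_smul, hgb, inv_smul_eq_iff, hga, ← mul_smul, h1, one_smul])
  refine isConj_iff.mpr ⟨g * k⁻¹, ?_⟩
  calc g * k⁻¹ * T.swap * (g * k⁻¹)⁻¹ = g * (k⁻¹ * T.swap * k) * g⁻¹ := by group
    _ = w := by rw [hk]; group

/-- The involutions moving `a` correspond to the pairs of a translation and an element of the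
two-point stabiliser. -/
theorem card_moving_a :
    Nat.card {w : G // orderOf w = 2 ∧ w • a ≠ a} = Nat.card T.F * Nat.card T.H := by
  rw [← Nat.card_prod]
  have hua : ∀ u : T.F, (u : G) • a = a := fun u => T.F_le u.2
  have hmove : ∀ x : T.F × T.H,
      ((x.1 : G) * (T.swap * x.2) * (x.1 : G)⁻¹) • a = (x.1 : G) • b := by
    intro x
    rw [mul_smul, mul_smul, inv_smul_eq_iff.mpr (hua x.1).symm,
      (T.mul_mem_swap T.swap_a T.swap_b x.2).1]
  have hne : ∀ x : T.F × T.H, ((x.1 : G) * (T.swap * x.2) * (x.1 : G)⁻¹) • a ≠ a := by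
    intro x e
    rw [hmove] at e
    exact T.ne (smul_left_cancel (x.1 : G) (e.trans (hua x.1).symm)).symm
  have hord : ∀ x : T.F × T.H, orderOf ((x.1 : G) * (T.swap * x.2) * (x.1 : G)⁻¹) = 2 := by
    intro x
    obtain ⟨e1, e2⟩ := T.mul_mem_swap T.swap_a T.swap_b x.2
    refine orderOf_eq_prime ?_ fun e => hne x (by rw [e, one_smul])
    rw [conj_pow, pow_two, T.swap_sq e1 e2, mul_one, mul_inv_cancel]
  refine (Nat.card_congr (Equiv.ofBijective
    (fun x : T.F × T.H => (⟨_, hord x, hne x⟩ : {w : G // orderOf w = 2 ∧ w • a ≠ a})) ⟨?_, ?_⟩)).symm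
  · intro x y e
    have e' := congrArg Subtype.val e
    simp only at e'
    have h1 : x.1 = y.1 := Subtype.ext (Kernel.regular_inj T.ne T.F_le T.regular x.1.2 y.1.2
      (by rw [← hmove, e', hmove]))
    rw [h1, mul_left_inj, mul_right_inj, mul_right_inj] at e'
    exact Prod.ext h1 (Subtype.ext e')
  · rintro ⟨w, hw, hwa⟩
    obtain ⟨h1, -⟩ := orderOf_two_iff.mp hw
    obtain ⟨u, hu, -⟩ := T.regular b (w • a) (Ne.symm T.ne) hwa
    have hva : ((u : G)⁻¹ * w * u) • a = b := by
      rw [mul_smul, mul_smul, hua, inv_smul_eq_iff, hu]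
    have hvb : ((u : G)⁻¹ * w * u) • b = a := by
      rw [mul_smul, mul_smul, hu, inv_smul_eq_iff, hua, ← mul_smul, h1, one_smul]
    have hh : T.swap⁻¹ * ((u : G)⁻¹ * w * u) ∈ pairStab G a b := Zassenhaus.mem_pairStab.mpr
      ⟨by rw [mul_smul, hva, inv_smul_eq_iff, T.swap_a],
       by rw [mul_smul, hvb, inv_smul_eq_iff, T.swap_b]⟩
    exact ⟨(u, ⟨_, hh⟩), Subtype.ext (by simp only; group)⟩

theorem card_moving (x : Ω) :
    Nat.card {w : G // orderOf w = 2 ∧ w • x ≠ x} = Nat.card T.F * Nat.card T.H := by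
  rw [← T.card_moving_a]
  obtain ⟨g, rfl⟩ := T.transitive x
  refine (Nat.card_congr (Equiv.subtypeEquiv (MulAut.conj g).toEquiv fun w => ?_)).symm
  show _ ↔ orderOf ((MulAut.conj g : G ≃* G) w) = 2 ∧ (MulAut.conj g : G ≃* G) w • g • a ≠ g • a
  rw [MulEquiv.orderOf_eq, MulAut.conj_apply, mul_smul, mul_smul, inv_smul_smul]
  exact and_congr Iff.rfl (smul_left_cancel_iff g).not.symm

variable [Fintype Ω]

theorem card_fixed_involution {w : G} (hw : orderOf w = 2) :
    (Finset.univ.filter fun x : Ω => w • x = x).card = Fintype.card Ω % 2 := by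
  obtain ⟨h1, h2⟩ := orderOf_two_iff.mp hw
  have hle : (Finset.univ.filter fun x : Ω => w • x = x).card ≤ 1 := by
    rw [Finset.card_le_one]
    intro x hx y hy
    by_contra hne
    exact h2 (T.eq_one_of_two_fixed h1 hne (Finset.mem_filter.mp hx).2 (Finset.mem_filter.mp hy).2)
  have hmod := Zassenhaus.fixedBy_modEq (Ω := Ω) h1
  have hc : Nat.card (fixedBy Ω w) = (Finset.univ.filter fun x : Ω => w • x = x).card := by
    rw [Nat.card_coe_set_eq, ← Set.ncard_coe_finset]
    congr 1
    ext x
    simp
  rw [hc] at hmod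
  have hmod' : Fintype.card Ω % 2 = _ % 2 := hmod
  omega

/-- The number of involutions. -/
theorem involutions_mul :
    Nat.card {w : G // orderOf w = 2} * (Fintype.card Ω - Fintype.card Ω % 2)
      = Fintype.card Ω * (Nat.card T.F * Nat.card T.H) := by
  haveI := Fintype.ofFinite G
  set I : Finset G := Finset.univ.filter fun w => orderOf w = 2 with hI
  have hIc : Nat.card {w : G // orderOf w = 2} = I.card := by
    rw [Nat.card_eq_fintype_card, Fintype.card_subtype]
  have h := Finset.sum_card_bipartiteAbove_eq_sum_card_bipartiteBelow (s := I)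
    (t := (Finset.univ : Finset Ω)) (fun w x => w • x ≠ x)
  rw [Finset.sum_const_nat (m := Fintype.card Ω - Fintype.card Ω % 2) (fun w hw => ?_),
    Finset.sum_const_nat (m := Nat.card T.F * Nat.card T.H) (fun x _ => ?_)] at h
  · rwa [hIc, ← Finset.card_univ]
  · rw [← T.card_moving x, Nat.card_eq_fintype_card, Fintype.card_subtype]
    simp only [Finset.bipartiteBelow, hI, Finset.filter_filter]
  · have h2 := Finset.card_filter_add_card_filter_not (s := (Finset.univ : Finset Ω))
      (fun x : Ω => w • x = x)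
    rw [T.card_fixed_involution (Finset.mem_filter.mp hw).2, Finset.card_univ] at h2
    simp only [Finset.bipartiteAbove]
    simp only [ne_eq] at h2 ⊢
    omega

theorem card_involutions :
    Nat.card {w : G // orderOf w = 2} =
      if Even (Nat.card T.F) then Nat.card T.H * (Nat.card T.F + 1) else Nat.card T.H * Nat.card T.F := by
  have h := T.involutions_mul
  have hF : 0 < Nat.card T.F := Nat.card_pos
  have hn : Fintype.card Ω = Nat.card T.F + 1 := by
    have := T.card_F
    have := T.two_le_card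
    omega
  rw [hn] at h
  split_ifs with hev
  · rw [Nat.even_iff] at hev
    rw [show Nat.card T.F + 1 - (Nat.card T.F + 1) % 2 = Nat.card T.F by omega] at h
    refine Nat.eq_of_mul_eq_mul_right hF (h.trans ?_)
    ring
  · rw [Nat.not_even_iff] at hev
    rw [show Nat.card T.F + 1 - (Nat.card T.F + 1) % 2 = Nat.card T.F + 1 by omega] at h
    refine Nat.eq_of_mul_eq_mul_right (Nat.succ_pos (Nat.card T.F)) (h.trans ?_)
    rw [Nat.succ_eq_add_one]
    ring

/-- The involutions fixing a point. -/
theorem card_fixing (x : Ω) :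
    Nat.card {w : G // orderOf w = 2 ∧ w • x = x} + Nat.card T.F * Nat.card T.H
      = Nat.card {w : G // orderOf w = 2} := by
  haveI := Fintype.ofFinite G
  rw [← T.card_moving x]
  simp only [Nat.card_eq_fintype_card, Fintype.card_subtype]
  have h := Finset.card_filter_add_card_filter_not
    (s := Finset.univ.filter fun w : G => orderOf w = 2) (fun w : G => w • x = x)
  simpa only [Finset.filter_filter] using h

omit [Fintype Ω] in
/-- An involution fixing `a` is a translation. -/
theorem mem_F_of_fix {w : G} (hw : orderOf w = 2) (hwa : w • a = a) : w ∈ T.F := by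
  refine T.mem_F_of_proj (m := ⟨w, hwa⟩) (orderOf_eq_one_iff.mp (Nat.eq_one_of_dvd_coprimes
    (Nat.coprime_two_left.mpr T.odd) ?_ (orderOf_dvd_natCard _)))
  refine (orderOf_map_dvd T.proj _).trans ?_
  rw [← orderOf_injective T.M.subtype T.M.subtype_injective]
  exact dvd_of_eq hw

theorem even_of_involution_mem {u : G} (hu : u ∈ T.F) (hu2 : orderOf u = 2) :
    Even (Nat.card T.F) := by
  rw [even_iff_two_dvd, ← hu2, ← Subgroup.orderOf_mk u hu]
  exact orderOf_dvd_natCard _

/-- The conjugation action on the translations. -/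
def conjHom : T.H →* MulAut T.F where
  toFun := T.conjF
  map_one' := MulEquiv.ext fun u => Subtype.ext (by
    show ((1 : T.H) : G) * u * ((1 : T.H) : G)⁻¹ = u
    simp)
  map_mul' h k := MulEquiv.ext fun u => Subtype.ext (by
    show ((h * k : T.H) : G) * u * ((h * k : T.H) : G)⁻¹ = (h : G) * ((k : G) * u * (k : G)⁻¹) * (h : G)⁻¹
    rw [Subgroup.coe_mul]
    group)

/-- The involutions fixing a point commute. -/
theorem commute_of_fix {x y : G} (hx : orderOf x = 2) (hxa : x • a = a) (hy : orderOf y = 2)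
    (hya : y • a = a) : Commute x y := by
  have hxF := T.mem_F_of_fix hx hxa
  have hyF := T.mem_F_of_fix hy hya
  have hev := T.even_of_involution_mem hxF hx
  haveI : Fact (Nat.Prime 2) := ⟨Nat.prime_two⟩
  letI : MulDistribMulAction T.H T.F := MulDistribMulAction.compHom T.F T.conjHom
  have hfpf : CfsgLib.Frobenius.IsFPF T.H T.F := fun k hk u hu =>
    T.fixed_translation hk (congrArg Subtype.val hu)
  obtain ⟨P, hP⟩ := hfpf.exists_invariant_sylow 2
  have hPinv : ∀ (k : T.H) (v : T.F), v ∈ (P : Subgroup T.F) → T.conjF k v ∈ (P : Subgroup T.F) :=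
    fun k v hv => hP k v hv
  haveI : Nontrivial (P : Subgroup T.F) :=
    (Subgroup.nontrivial_iff_ne_bot _).2 (P.ne_bot_of_dvd_card (even_iff_two_dvd.mp hev))
  haveI := P.isPGroup'.center_nontrivial
  obtain ⟨z, hz⟩ : ∃ z : Subgroup.center (P : Subgroup T.F), orderOf z = 2 := by
    refine exists_prime_orderOf_dvd_card' 2 ?_
    obtain ⟨n, hn⟩ := (P.isPGroup'.to_subgroup (Subgroup.center (P : Subgroup T.F))).exists_card_eq
    rw [hn]
    refine dvd_pow_self 2 fun e => ?_
    have := Finite.one_lt_card (α := Subgroup.center (P : Subgroup T.F))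
    rw [hn, e, pow_zero] at this
    omega
  set v : T.F := ((z : (P : Subgroup T.F)) : T.F) with hvdef
  have hv2 : orderOf v = 2 := by
    rw [← hz, hvdef, Subgroup.orderOf_coe, Subgroup.orderOf_coe]
  have hvcomm : ∀ p ∈ (P : Subgroup T.F), p * v = v * p := fun p hp =>
    congrArg Subtype.val (Subgroup.mem_center_iff.mp z.2 ⟨p, hp⟩)
  have hord : ∀ k : T.H, orderOf (T.conjF k v : G) = 2 := fun k => by
    rw [Subgroup.orderOf_coe, MulEquiv.orderOf_eq, hv2]
  let f : T.H → {w : G // orderOf w = 2 ∧ w • a = a} := fun k =>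
    ⟨(T.conjF k v : G), hord k, T.F_le (T.conjF k v).2⟩
  have hf : Function.Bijective f := by
    refine (Nat.bijective_iff_injective_and_card f).mpr ⟨?_, ?_⟩
    · intro k k' e
      have e' : T.conjF k v = T.conjF k' v := Subtype.ext (congrArg Subtype.val e :)
      have hne : v ≠ 1 := fun e1 => by simp [e1] at hv2
      by_contra hkk
      refine hne (hfpf (k'⁻¹ * k) (fun e1 => hkk (inv_mul_eq_one.mp e1).symm) v ?_)
      rw [mul_smul, inv_smul_eq_iff]
      exact e'
    · have h1 := T.card_fixing a
      rw [T.card_involutions, if_pos hev, Nat.mul_add, Nat.mul_one, Nat.mul_comm (Nat.card T.F)] at h1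
      omega
  obtain ⟨k, hk⟩ := hf.2 ⟨x, hx, hxa⟩
  obtain ⟨l, hl⟩ := hf.2 ⟨y, hy, hya⟩
  have hkx : (T.conjF k v : G) = x := congrArg Subtype.val hk
  have hly : (T.conjF l v : G) = y := congrArg Subtype.val hl
  have hvP : v ∈ (P : Subgroup T.F) := (z : (P : Subgroup T.F)).2
  have hmain : (T.conjF k).symm (T.conjF l v) * v = v * (T.conjF k).symm (T.conjF l v) := by
    refine hvcomm _ ?_
    have hkinv : (T.conjF k).symm (T.conjF l v) = T.conjF k⁻¹ (T.conjF l v) := by
      rw [MulEquiv.symm_apply_eq]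
      refine Subtype.ext ?_
      show _ = (k : G) * (((k⁻¹ : T.H) : G) * _ * ((k⁻¹ : T.H) : G)⁻¹) * (k : G)⁻¹
      rw [Subgroup.coe_inv]
      group
    rw [hkinv]
    exact hPinv _ _ (hPinv _ _ hvP)
  have h2 := congrArg (fun u => (T.conjF k u : G)) hmain
  simp only [map_mul, MulEquiv.apply_symm_apply, Subgroup.coe_mul, hkx, hly] at h2
  exact h2.symm

/-- A translation which is a product of two involutions is an involution. -/
theorem orderOf_eq_two_of_mul {x y u : G} (hu : u ∈ T.F) (hu1 : u ≠ 1) (hx : orderOf x = 2)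
    (hy : orderOf y = 2) (hxy : x * y = u) : orderOf u = 2 := by
  obtain ⟨hx1, -⟩ := orderOf_two_iff.mp hx
  obtain ⟨hy1, -⟩ := orderOf_two_iff.mp hy
  have hua : u⁻¹ • a = a := T.F_le (inv_mem hu)
  have hxux : x * u⁻¹ * x = u := by
    rw [← hxy, mul_inv_rev, inv_eq_of_mul_eq_one_right hy1, inv_eq_of_mul_eq_one_right hx1]
    calc x * (y * x) * x = x * y * (x * x) := by group
      _ = x * y := by rw [hx1, mul_one]
  have hxa : x • a = a := by
    refine T.fix_only hu hu1 ?_
    conv_lhs => rw [← hxux, mul_smul, ← mul_smul x x a, hx1, one_smul, mul_smul, hua]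
  have hya : y • a = a := by
    have : y = x * u := by rw [← hxy, ← mul_assoc, hx1, one_mul]
    rw [this, mul_smul, show u • a = a from T.F_le hu, hxa]
  refine orderOf_two_iff.mpr ⟨?_, hu1⟩
  have hc := (T.commute_of_fix hx hxa hy hya).eq
  rw [← hxy]
  calc x * y * (x * y) = x * (y * x) * y := by group
    _ = x * (x * y) * y := by rw [hc]
    _ = (x * x) * (y * y) := by group
    _ = 1 := by rw [hx1, hy1, one_mul]

/-- Two fixed-point-free elements need not be conjugate. -/
theorem exists_fpf_not_conj (hd : 1 < Nat.card T.H) (hn : 3 ≤ Fintype.card Ω)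
    (hone : ∀ x : Ω, {g : G | Zassenhaus.fixOnly x g}.ncard + 2 = Fintype.card Ω) :
    ∃ x y : G, (∀ c : Ω, x • c ≠ c) ∧ (∀ c : Ω, y • c ≠ c) ∧ ¬ IsConj x y := by
  haveI := Fintype.ofFinite G
  haveI : IsPretransitive G Ω := ⟨fun x y => by
    obtain ⟨g, hg⟩ := T.transitive x
    obtain ⟨k, hk⟩ := T.transitive y
    exact ⟨k * g⁻¹, by rw [mul_smul, inv_smul_eq_iff.mpr hg.symm, hk]⟩⟩
  set n := Fintype.card Ω with hndef
  set fx : G → ℕ := fun g => (Finset.univ.filter fun x : Ω => g • x = x).card with hfxdef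
  set A : ℕ → Finset G := fun i => Finset.univ.filter fun g => g ≠ 1 ∧ fx g = i with hA
  have hfix : ∀ g : G, g ≠ 1 → fx g ≤ 2 := by
    intro g hg
    by_contra hlt
    obtain ⟨x, y, z, hx, hy, hz, hxy, hxz, hyz⟩ := Finset.two_lt_card_iff.mp (not_le.mp hlt)
    exact hg (T.three g x y z hxy hyz hxz (Finset.mem_filter.mp hx).2 (Finset.mem_filter.mp hy).2
      (Finset.mem_filter.mp hz).2)
  have hsum : ∑ g : G, fx g = Nat.card G := by
    have h := MulAction.sum_card_fixedBy_eq_card_orbits_mul_card_group G Ω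
    rw [Fintype.card_eq_one_iff.mpr ⟨Quotient.mk _ a, fun q => Quotient.inductionOn q fun x =>
      Quotient.sound (MulAction.exists_smul_eq G a x)⟩, one_mul, ← Nat.card_eq_fintype_card] at h
    rw [← h]
    refine Finset.sum_congr rfl fun g _ => ?_
    rw [hfxdef, Fintype.card_subtype]
    rfl
  have hcount : ∑ g : G, fx g = n + (A 1).card + 2 * (A 2).card ∧
      Nat.card G = 1 + (A 0).card + (A 1).card + (A 2).card := by
    have hsplit : ∀ F : G → ℕ, ∑ g : G, F g = F 1 + ∑ i ∈ Finset.range 3, ∑ g ∈ A i, F g := by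
      intro F
      rw [← Finset.add_sum_erase _ _ (Finset.mem_univ (1 : G))]
      congr 1
      rw [← Finset.sum_fiberwise_of_maps_to (g := fx) (t := Finset.range 3)
        (fun g hg => Finset.mem_range.mpr (Nat.lt_succ_of_le (hfix g (Finset.ne_of_mem_erase hg))))]
      refine Finset.sum_congr rfl fun i _ => Finset.sum_congr ?_ fun _ _ => rfl
      ext g
      simp [hA]
    have hval : ∀ i, ∀ g ∈ A i, fx g = i := fun i g hg => (Finset.mem_filter.mp hg).2.2
    constructor
    · rw [hsplit, Finset.sum_range_succ, Finset.sum_range_succ, Finset.sum_range_one,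
        Finset.sum_const_nat (hval 0), Finset.sum_const_nat (hval 1), Finset.sum_const_nat (hval 2)]
      have : fx 1 = n := by simp [hfxdef, hndef]
      omega
    · rw [Nat.card_eq_fintype_card, ← Finset.card_univ, Finset.card_eq_sum_ones, hsplit,
        Finset.sum_range_succ, Finset.sum_range_succ, Finset.sum_range_one]
      simp [add_assoc]
  have hA1 : (A 1).card = n * (n - 2) := by
    have h : A 1 = (Finset.univ : Finset Ω).biUnion
        (fun x => Finset.univ.filter fun g : G => Zassenhaus.fixOnly x g) := by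
      ext g
      rw [Finset.mem_biUnion]
      simp only [hA, hfxdef, Finset.mem_filter, Finset.mem_univ, true_and]
      simp only [Zassenhaus.fixOnly, Finset.card_eq_one, Finset.ext_iff, Finset.mem_singleton, Finset.mem_filter, Finset.mem_univ, true_and]
      constructor
      · exact fun h => h.2
      · rintro ⟨x, hx⟩
        refine ⟨fun e => ?_, x, hx⟩
        subst e
        exact T.ne (((hx a).mp (one_smul _ _)).trans ((hx b).mp (one_smul _ _)).symm)
    rw [h, Finset.card_biUnion, Finset.sum_const_nat (m := n - 2), Finset.card_univ]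
    · intro x _
      have h1 := hone x
      rw [show {g : G | Zassenhaus.fixOnly x g}.ncard
        = (Finset.univ.filter fun g : G => Zassenhaus.fixOnly x g).card by
          rw [← Set.ncard_coe_finset]; simp] at h1
      omega
    · intro x _ y _ hxy
      simp only [Function.onFun, Finset.disjoint_left, Finset.mem_filter, Finset.mem_univ, true_and]
      exact fun g hg hg' => hxy ((hg' x).mp ((hg x).mpr rfl))
  obtain ⟨hs, hG⟩ := hcount
  rw [hsum] at hs
  have hGc : Nat.card G = n * ((n - 1) * Nat.card T.H) := by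
    rw [← T.M.index_mul_card, T.index_M, T.card_M, T.card_F]
  rw [hA1] at hs hG
  obtain ⟨h, hh⟩ : ∃ h, n = h + 1 := ⟨n - 1, by omega⟩
  obtain ⟨k, hk⟩ : ∃ k, Nat.card T.H = k + 3 := by
    obtain ⟨m, hm⟩ : Odd (Nat.card T.H) := T.odd
    exact ⟨Nat.card T.H - 3, by omega⟩
  rw [hh, Nat.add_sub_cancel] at hGc
  rw [hh, show h + 1 - 2 = h - 1 by omega] at hs hG
  obtain ⟨g, rfl⟩ : ∃ g, h = g + 2 := ⟨h - 2, by omega⟩
  rw [show g + 2 - 1 = g + 1 by omega] at hs hG
  have hN : 2 * (A 0).card = (g + 2) * ((g + 3) * (k + 2) + 2) := by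
    rw [hk] at hGc
    nlinarith [hs, hG, hGc]
  have hpos : 0 < (A 0).card := by
    rcases Nat.eq_zero_or_pos (A 0).card with e | e
    · rw [e] at hN; nlinarith
    · exact e
  obtain ⟨x, hx⟩ := Finset.card_pos.mp hpos
  have hx' : ∀ c : Ω, x • c ≠ c := fun c hc => by
    have h0 := (Finset.mem_filter.mp hx).2.2
    rw [hfxdef, Finset.card_eq_zero] at h0
    exact Finset.notMem_empty c (h0 ▸ Finset.mem_filter.mpr ⟨Finset.mem_univ _, hc⟩)
  by_contra hall
  simp only [not_exists, not_and, not_not] at hall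
  have hclass : Nat.card {y : G // IsConj x y} = (A 0).card := by
    rw [Nat.card_eq_fintype_card, Fintype.card_subtype]
    congr 1
    ext y
    simp only [hA, hfxdef, Finset.mem_filter, Finset.mem_univ, true_and, Finset.card_eq_zero,
      Finset.filter_eq_empty_iff]
    constructor
    · intro hy
      obtain ⟨c, rfl⟩ := isConj_iff.mp hy
      refine ⟨fun e => ?_, fun {z} _ hz => ?_⟩
      · exact (Finset.mem_filter.mp hx).2.1 (conj_eq_one_iff.mp e)
      · rw [mul_smul, mul_smul, smul_eq_iff_eq_inv_smul] at hz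
        exact hx' _ hz
    · exact fun hy => hall x y hx' fun c => hy.2 (x := c) trivial
  have hc := card_isConj_mul_card_centralizer x
  rw [hclass, hGc, hk] at hc
  have hc2 : 2 ≤ Nat.card (Subgroup.centralizer ({x} : Set G)) := by
    haveI : Nontrivial (Subgroup.centralizer ({x} : Set G)) :=
      ⟨⟨x, by rw [Subgroup.mem_centralizer_singleton_iff]⟩, 1,
        fun e => (Finset.mem_filter.mp hx).2.1 (congrArg Subtype.val e)⟩
    exact Finite.one_lt_card
  set c := Nat.card (Subgroup.centralizer ({x} : Set G))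
  have hc' : c * ((g + 3) * (k + 2) + 2) = 2 * (g + 3) * (k + 3) := by
    refine Nat.eq_of_mul_eq_mul_left (show 0 < g + 2 by omega) ?_
    rw [Nat.mul_left_comm, ← hN]
    linear_combination 2 * hc
  rcases Nat.lt_or_ge c 3 with h3 | h3
  · have e2 : c = 2 := by omega
    rw [e2] at hc'
    nlinarith
  · have := Nat.mul_le_mul_right ((g + 3) * (k + 2) + 2) h3
    rw [hc'] at this
    nlinarith

/-- Products of two involutions: the counting of classes. -/
theorem classes_avoiding (hlt : 2 ≤ Nat.card T.F) (hle : Nat.card T.H ≤ Nat.card T.F) :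
    Nat.card T.H ≤ Nat.card {C : ConjClasses G // ∀ g : G, ConjClasses.mk g = C → g ∉ T.F} := by
  haveI := Fintype.ofFinite G
  set h := Nat.card T.F with hhdef
  set e := Nat.card T.H with hedef
  set I : Finset G := Finset.univ.filter fun w => orderOf w = 2 with hI
  set t := I.card with htdef
  have htN : Nat.card {w : G // orderOf w = 2} = t := by
    rw [Nat.card_eq_fintype_card, Fintype.card_subtype]
  have hn : Fintype.card Ω = h + 1 := by
    have := T.card_F
    have := T.two_le_card
    omega
  have hG : Nat.card G = (h + 1) * (h * e) := by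
    rw [← T.M.index_mul_card, T.index_M, T.card_M, hn]
  have ht := T.card_involutions
  rw [htN] at ht
  set c : G → ℕ := fun g => (I.filter fun x => orderOf (x * g) = 2).card with hcdef
  set P : ConjClasses G → Prop := fun C => ∀ g : G, ConjClasses.mk g = C → g ∉ T.F with hP
  set Q : ConjClasses G → Prop := fun C => P C ∧ C ≠ ConjClasses.mk T.swap with hQ
  have hsum : ∑ g : G, c g = t * t := by
    have h := Finset.sum_card_bipartiteAbove_eq_sum_card_bipartiteBelow
      (s := (Finset.univ : Finset G)) (t := I) (fun g x => orderOf (x * g) = 2)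
    simp only [Finset.bipartiteAbove, Finset.bipartiteBelow] at h
    show ∑ g : G, (I.filter fun x => orderOf (x * g) = 2).card = t * t
    rw [h, Finset.sum_const_nat (m := t) fun x _ => ?_]
    rw [htdef]
    refine Finset.card_bij (fun g _ => x * g) (fun g hg => by simpa [hI] using hg)
      (fun g _ g' _ e => mul_left_cancel e) fun y hy => ⟨x⁻¹ * y, ?_, mul_inv_cancel_left x y⟩
    simpa [hI] using hy
  -- products of two involutions centralise
  have hcomm : ∀ g x : G, g * g = 1 → orderOf x = 2 → orderOf (x * g) = 2 → x * g = g * x := by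
    intro g x hg hx hxg
    obtain ⟨h1, -⟩ := orderOf_two_iff.mp hx
    obtain ⟨h2, -⟩ := orderOf_two_iff.mp hxg
    calc x * g = (x * g)⁻¹ := (inv_eq_of_mul_eq_one_right h2).symm
      _ = g * x := by rw [mul_inv_rev, inv_eq_of_mul_eq_one_right h1, inv_eq_of_mul_eq_one_right hg]
  -- an involution
  have hinvle : ∀ g : G, orderOf g = 2 → c g ≤ (if Even h then e else h) - 1 := by
    intro g hg
    obtain ⟨hg1, hgne⟩ := orderOf_two_iff.mp hg
    have hgnot : ∀ x ∈ I.filter (fun x => orderOf (x * g) = 2), x ≠ g := by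
      intro x hx e
      have := (Finset.mem_filter.mp hx).2
      rw [e, hg1, orderOf_one] at this
      omega
    split_ifs with hev
    · have hfx := T.card_fixed_involution hg
      rw [hn] at hfx
      have hodd : (h + 1) % 2 = 1 := by rw [Nat.even_iff] at hev; omega
      rw [hodd, Finset.card_eq_one] at hfx
      obtain ⟨p, hp⟩ := hfx
      have hgp : g • p = p := by
        have : p ∈ Finset.univ.filter fun x : Ω => g • x = x := by rw [hp]; exact Finset.mem_singleton_self p
        exact (Finset.mem_filter.mp this).2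
      have he : (I.filter fun x => x • p = p).card = e := by
        have h1 := T.card_fixing p
        rw [htN, ht, if_pos hev, Nat.card_eq_fintype_card, Fintype.card_subtype,
          ← hhdef, ← hedef, Nat.mul_add, Nat.mul_one, Nat.mul_comm h] at h1
        rw [hI, Finset.filter_filter]
        omega
      have hsub : I.filter (fun x => orderOf (x * g) = 2) ⊆ (I.filter fun x => x • p = p).erase g := by
        intro x hx
        obtain ⟨hxI, hxg⟩ := Finset.mem_filter.mp hx
        refine Finset.mem_erase.mpr ⟨hgnot x hx, Finset.mem_filter.mpr ⟨hxI, ?_⟩⟩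
        have hxx : g • x • p = x • p := by
          rw [← mul_smul, ← hcomm g x hg1 (Finset.mem_filter.mp hxI).2 hxg, mul_smul, hgp]
        exact Finset.mem_singleton.mp (hp ▸ Finset.mem_filter.mpr ⟨Finset.mem_univ _, hxx⟩)
      have hgI : g ∈ I.filter fun x => x • p = p :=
        Finset.mem_filter.mpr ⟨Finset.mem_filter.mpr ⟨Finset.mem_univ _, hg⟩, hgp⟩
      have := Finset.card_le_card hsub
      rw [Finset.card_erase_of_mem hgI, he] at this
      exact this
    · set Z : Finset G := Finset.univ.filter fun x => x * g = g * x with hZdef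
      have hclass : Nat.card {y : G // IsConj g y} = t := by
        rw [← htN]
        refine Nat.card_congr (Equiv.subtypeEquivRight fun y => ⟨fun hy => ?_, fun hy => ?_⟩)
        · obtain ⟨k, rfl⟩ := isConj_iff.mp hy
          rw [← hg]
          exact MulEquiv.orderOf_eq (MulAut.conj k) g
        · exact (T.isConj_swap hg).symm.trans (T.isConj_swap hy)
      have hZc : Z.card = h + 1 := by
        have h1 := card_isConj_mul_card_centralizer g
        rw [hclass, hG, ht, if_neg hev] at h1
        have h2 : Nat.card (Subgroup.centralizer ({g} : Set G)) = Z.card := by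
          rw [Nat.card_eq_fintype_card, Fintype.card_subtype]
          congr 1
          ext x
          simp [hZdef, Subgroup.mem_centralizer_singleton_iff]
        rw [h2] at h1
        have hep : 0 < e := Nat.card_pos
        refine Nat.eq_of_mul_eq_mul_left (Nat.mul_pos hep (Nat.card_pos : 0 < h)) (h1.trans ?_)
        ring
      have hsub : I.filter (fun x => orderOf (x * g) = 2) ⊆ (Z.erase g).erase 1 := by
        intro x hx
        obtain ⟨hxI, hxg⟩ := Finset.mem_filter.mp hx
        have hx2 := (Finset.mem_filter.mp hxI).2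
        exact Finset.mem_erase.mpr ⟨(orderOf_two_iff.mp hx2).2, Finset.mem_erase.mpr
          ⟨hgnot x hx, Finset.mem_filter.mpr ⟨Finset.mem_univ _, hcomm g x hg1 hx2 hxg⟩⟩⟩
      have := Finset.card_le_card hsub
      rw [Finset.card_erase_of_mem (by simp [hZdef, Ne.symm hgne]),
        Finset.card_erase_of_mem (by simp [hZdef]), hZc] at this
      exact this
  -- other elements
  have hgen : ∀ g : G, c g ≤ Nat.card (Subgroup.centralizer ({g} : Set G)) := by
    intro g
    rcases (I.filter fun x => orderOf (x * g) = 2).eq_empty_or_nonempty with e0 | ⟨x0, hx0⟩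
    · simp [hcdef, e0]
    · have hinv : ∀ x ∈ I.filter (fun x => orderOf (x * g) = 2), x⁻¹ = x ∧ g * x = x * g⁻¹ := by
        intro x hx
        obtain ⟨hxI, hxg⟩ := Finset.mem_filter.mp hx
        obtain ⟨h1, -⟩ := orderOf_two_iff.mp (Finset.mem_filter.mp hxI).2
        obtain ⟨h2, -⟩ := orderOf_two_iff.mp hxg
        have hx' := inv_eq_of_mul_eq_one_right h1
        refine ⟨hx', ?_⟩
        have h3 := inv_eq_of_mul_eq_one_right h2
        calc g * x = x⁻¹ * (x * g) * x := by group
          _ = x⁻¹ * (x * g)⁻¹ * x := by rw [h3]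
          _ = x * g⁻¹ := by rw [mul_inv_rev, hx']; simp [mul_assoc, h1]
      have hmem : ∀ x ∈ I.filter (fun x => orderOf (x * g) = 2),
          x0 * x ∈ Subgroup.centralizer ({g} : Set G) := by
        intro x hx
        obtain ⟨e1, e2⟩ := hinv x0 hx0
        obtain ⟨e3, e4⟩ := hinv x hx
        have e5 : x * g = g⁻¹ * x := by
          calc x * g = x * g * x * x⁻¹ := by group
            _ = x * (g * x) * x⁻¹ := by group
            _ = g⁻¹ * x := by rw [e4, e3]; simp [← mul_assoc, (orderOf_two_iff.mp (Finset.mem_filter.mp (Finset.mem_filter.mp hx).1).2).1]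
        rw [Subgroup.mem_centralizer_singleton_iff]
        calc x0 * x * g = x0 * (g⁻¹ * x) := by rw [mul_assoc, e5]
          _ = (x0 * g⁻¹) * x := by rw [mul_assoc]
          _ = g * (x0 * x) := by rw [← e2, mul_assoc]
      rw [Nat.card_eq_fintype_card, Fintype.card_subtype]
      exact Finset.card_le_card_of_injOn (fun x => x0 * x)
        (fun x hx => Finset.mem_coe.mpr (Finset.mem_filter.mpr ⟨Finset.mem_univ _, hmem x hx⟩))
        (fun x _ y _ e => mul_left_cancel e)
  have hbound : ∀ g : G, c g ≤ (if g = 1 then t else 0)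
      + (if orderOf g = 2 then (if Even h then e else h) - 1 else 0)
      + (if Q (ConjClasses.mk g) then Nat.card (Subgroup.centralizer ({g} : Set G)) else 0) := by
    intro g
    by_cases h1 : g = 1
    · subst h1
      rw [if_pos rfl]
      exact le_add_right (le_add_right (Finset.card_filter_le _ _))
    by_cases h2 : orderOf g = 2
    · rw [if_pos h2]
      exact le_add_right (le_add_left (hinvle g h2))
    by_cases h3 : Q (ConjClasses.mk g)
    · rw [if_pos h3]
      exact le_add_left (hgen g)
    refine le_of_eq_of_le ?_ (Nat.zero_le _)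
    rw [hcdef, Finset.card_eq_zero, Finset.filter_eq_empty_iff]
    intro x hxI hxg
    have hx := (Finset.mem_filter.mp hxI).2
    have hC : ConjClasses.mk g ≠ ConjClasses.mk T.swap := fun e0 => h2 (by
      obtain ⟨k, hk⟩ := isConj_iff.mp (ConjClasses.mk_eq_mk_iff_isConj.mp e0).symm
      rw [← hk, ← MulAut.conj_apply, MulEquiv.orderOf_eq]
      exact orderOf_two_iff.mpr ⟨T.swap_sq T.swap_a T.swap_b,
        fun e1 => T.ne (by rw [← T.swap_a, e1, one_smul])⟩)
    simp only [hQ, hP, hC, ne_eq, not_false_iff, and_true, not_forall, not_not] at h3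
    obtain ⟨u, hu, huF⟩ := h3
    obtain ⟨k, hk⟩ := isConj_iff.mp (ConjClasses.mk_eq_mk_iff_isConj.mp hu).symm
    have hu1 : u ≠ 1 := fun e0 => h1 (conj_eq_one_iff.mp (hk.trans e0))
    refine h2 ?_
    have := T.orderOf_eq_two_of_mul (x := k * x * k⁻¹) (y := k * (x * g) * k⁻¹) huF hu1
      (by rw [← MulAut.conj_apply, MulEquiv.orderOf_eq, hx])
      (by rw [← MulAut.conj_apply, MulEquiv.orderOf_eq, hxg])
      (by
        obtain ⟨hx1, -⟩ := orderOf_two_iff.mp hx
        rw [← hk]
        calc k * x * k⁻¹ * (k * (x * g) * k⁻¹) = k * ((x * x) * g) * k⁻¹ := by group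
          _ = k * g * k⁻¹ := by rw [hx1, one_mul])
    rwa [← hk, ← MulAut.conj_apply, MulEquiv.orderOf_eq] at this
  have hclasses : ∑ g : G,
      (if Q (ConjClasses.mk g) then Nat.card (Subgroup.centralizer ({g} : Set G)) else 0)
      = (Finset.univ.filter fun C : ConjClasses G => Q C).card * Nat.card G := by
    rw [← Finset.sum_fiberwise Finset.univ ConjClasses.mk, ← smul_eq_mul, ← Finset.sum_const,
      Finset.sum_filter]
    refine Finset.sum_congr rfl fun C _ => ?_
    obtain ⟨g0, rfl⟩ := ConjClasses.mk_surjective C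
    have hsame : ∀ g ∈ Finset.univ.filter (fun g : G => ConjClasses.mk g = ConjClasses.mk g0),
        (if Q (ConjClasses.mk g) then Nat.card (Subgroup.centralizer ({g} : Set G)) else 0)
          = if Q (ConjClasses.mk g0) then Nat.card (Subgroup.centralizer ({g0} : Set G)) else 0 := by
      intro g hg
      have hgg := (Finset.mem_filter.mp hg).2
      have hIC : IsConj g g0 := ConjClasses.mk_eq_mk_iff_isConj.mp hgg
      have e1 := card_isConj_mul_card_centralizer g
      rw [← card_isConj_mul_card_centralizer g0, Nat.card_congr (Equiv.subtypeEquivRight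
        (p := fun y => IsConj g y) (q := fun y => IsConj g0 y)
        fun y => ⟨fun hy => hIC.symm.trans hy, fun hy => hIC.trans hy⟩)] at e1
      rw [hgg, Nat.eq_of_mul_eq_mul_left
        (Nat.card_pos_iff.mpr ⟨⟨g0, IsConj.refl g0⟩, inferInstance⟩) e1]
    rw [Finset.sum_const_nat hsame, mul_ite, mul_zero]
    refine if_congr Iff.rfl ?_ rfl
    have hfil : (Finset.univ.filter fun g : G => ConjClasses.mk g = ConjClasses.mk g0).card
        = Nat.card {y : G // IsConj g0 y} := by
      rw [Nat.card_eq_fintype_card, Fintype.card_subtype]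
      congr 1
      ext y
      simp only [Finset.mem_filter, Finset.mem_univ, true_and, ConjClasses.mk_eq_mk_iff_isConj]
      exact isConj_comm
    rw [hfil, card_isConj_mul_card_centralizer]
  have hmain := Finset.sum_le_sum (s := (Finset.univ : Finset G)) fun g _ => hbound g
  rw [hsum, Finset.sum_add_distrib, Finset.sum_add_distrib, hclasses, Finset.sum_ite_eq'] at hmain
  simp only [Finset.mem_univ, if_true] at hmain
  rw [← Finset.sum_filter, Finset.sum_const, smul_eq_mul] at hmain
  rw [show (Finset.univ.filter fun g : G => orderOf g = 2).card = t from rfl, hG] at hmain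
  have hK : Nat.card {C : ConjClasses G // P C} = (Finset.univ.filter fun C => P C).card := by
    rw [Nat.card_eq_fintype_card, Fintype.card_subtype]
  rw [show Nat.card {C : ConjClasses G // ∀ g : G, ConjClasses.mk g = C → g ∉ T.F}
    = (Finset.univ.filter fun C => P C).card from hK]
  set k' := (Finset.univ.filter fun C : ConjClasses G => Q C).card with hk'
  have hQP : (Finset.univ.filter fun C : ConjClasses G => Q C) ⊆
      Finset.univ.filter fun C => P C := fun C hC =>
    Finset.mem_filter.mpr ⟨Finset.mem_univ _, (Finset.mem_filter.mp hC).2.1⟩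
  have hep : 0 < e := Nat.card_pos
  by_cases hev : Even h
  · rw [if_pos hev] at ht hmain
    refine le_trans ?_ (Finset.card_le_card hQP)
    rw [← hk']
    obtain ⟨d, hd⟩ : ∃ d, e = d + 1 := ⟨e - 1, by omega⟩
    simp only [← hhdef, ← hedef, ht, hd, Nat.add_sub_cancel] at hmain
    rw [hd]
    by_contra hlt'
    have : k' + 1 ≤ d + 1 := by omega
    have h1 : k' * ((h + 1) * (h * (d + 1))) ≤ d * ((h + 1) * (h * (d + 1))) :=
      Nat.mul_le_mul_right _ (by omega)
    nlinarith
  · rw [if_neg hev] at ht hmain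
    have hnotQ : ConjClasses.mk T.swap ∉ Finset.univ.filter fun C : ConjClasses G => Q C :=
      fun hm => (Finset.mem_filter.mp hm).2.2 rfl
    have hP0 : P (ConjClasses.mk T.swap) := by
      intro g hg hgF
      refine hev (T.even_of_involution_mem hgF ?_)
      obtain ⟨k, hk⟩ := isConj_iff.mp (ConjClasses.mk_eq_mk_iff_isConj.mp hg).symm
      rw [← hk, ← MulAut.conj_apply, MulEquiv.orderOf_eq]
      exact orderOf_two_iff.mpr ⟨T.swap_sq T.swap_a T.swap_b,
        fun e1 => T.ne (by rw [← T.swap_a, e1, one_smul])⟩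
    have hins := Finset.card_le_card (Finset.insert_subset
      (Finset.mem_filter.mpr ⟨Finset.mem_univ _, hP0⟩) hQP)
    rw [Finset.card_insert_of_notMem hnotQ, ← hk'] at hins
    refine le_trans ?_ hins
    by_contra hlt'
    obtain ⟨d, hd⟩ : ∃ d, h = d + 1 := ⟨h - 1, by omega⟩
    simp only [← hhdef, ← hedef, ht, hd, Nat.add_sub_cancel] at hmain
    have h1 : k' * (d + 2) + 2 * (d + 2) ≤ e * (d + 2) := by
      rw [← Nat.add_mul]
      exact Nat.mul_le_mul_right _ (by omega)
    have h2 : e * (d + 1) ≤ d + 1 + k' * (d + 2) := by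
      refine Nat.le_of_mul_le_mul_left (a := e * (d + 1)) (hmain.trans (le_of_eq ?_)) (Nat.mul_pos hep (Nat.succ_pos d))
      ring
    have h3 : e * (d + 2) = e * (d + 1) + e := by ring
    omega

end Frame

/-- The Frobenius kernel of the stabiliser of a point. -/
theorem exists_translations {G : Type u} {Ω : Type*} [Group G] [Finite G] [MulAction G Ω] [Fintype Ω]
    (hZ : Cfsg.IsZassenhausGroup G Ω) {a b : Ω} (hab : a ≠ b) :
    ∃ H : Subgroup G, H ≤ stabilizer G a ∧ Nat.card H + 1 = Fintype.card Ω ∧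
      ∀ u ∈ H, u ≠ 1 → ∀ c : Ω, u • c = c → c = a := by
  obtain ⟨N, hNK, -, hcompl⟩ :=
    CfsgLib.Frobenius.exists_normal_kernel (OddStab.isFrobeniusComplement hZ hab)
  refine ⟨N.map (stabilizer G a).subtype, Subgroup.map_subtype_le N, ?_, ?_⟩
  · have h1 := hcompl.card_mul_card
    rw [Nat.card_congr (Subgroup.subgroupOfEquivOfLe
      (show pairStab G a b ≤ stabilizer G a from inf_le_left)).toEquiv,
      Zassenhaus.card_stabilizer hZ hab] at h1
    rw [Subgroup.card_map_of_injective (stabilizer G a).subtype_injective,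
      Nat.eq_of_mul_eq_mul_right Nat.card_pos h1]
    have := Zassenhaus.three_le_card hZ hab
    omega
  · rintro _ ⟨u, hu, rfl⟩ hu1 c hc
    have huK : u ∈ Cfsg.frobeniusKernel ((pairStab G a b).subgroupOf (stabilizer G a)) := hNK ▸ hu
    rcases huK with rfl | huK
    · exact absurd rfl hu1
    by_contra hca
    obtain ⟨g, hga, hgb⟩ := Zassenhaus.exists_smul_pair hZ hab (c := a) (d := c) (Ne.symm hca)
    apply huK ⟨g, hga⟩
    rw [Subgroup.mem_pointwise_smul_iff_inv_smul_mem, Subgroup.mem_subgroupOf]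
    have hua : (u : G) • a = a := u.2
    have hc' : (u : G) • c = c := hc
    refine Zassenhaus.mem_pairStab.mpr ⟨?_, ?_⟩
    · simp [mul_smul, hga, hua, inv_smul_eq_iff]
    · simp [mul_smul, hgb, hc', inv_smul_eq_iff]

end CfsgLib.PermSmall.FeitFrame
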