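import Cfsg.Agent.Lib.PermSmall.Coordinates
import Mathlib.FieldTheory.Finite.Basic

/-!
Recognition of `PGL(2,q)` and `PSL(2,q)` from coordinates and an involution exchanging two points.
-/

namespace CfsgLib.PermSmall.Recognition

open MulAction OnePoint
open CfsgLib.PermSmall.Zassenhaus (pairStab)
open CfsgLib.PermSmall.Moebius (affinePerm)
open CfsgLib.PermSmall.Coordinates (Coord transport)

variable {K : Type*} [Field K] [Fintype K]

/-- In odd characteristic some non-square exceeds a non-zero square by one. -/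
theorem exists_nonsquare_succ_square (hK : ringChar K ≠ 2) :
    ∃ x : K, x ≠ 0 ∧ IsSquare x ∧ ¬ IsSquare (x + 1) := by
  classical
  by_contra hcon
  simp only [not_exists, not_and, not_not] at hcon
  have hone : ∀ x : K, IsSquare x → IsSquare (x + 1) := fun x hx => by
    rcases eq_or_ne x 0 with rfl | hx0
    · simp
    · exact hcon x hx0 hx
  let S : AddSubgroup K :=
    { carrier := {x | IsSquare x}
      zero_mem' := IsSquare.zero
      add_mem' := by
        intro x y hx hy
        rcases eq_or_ne y 0 with rfl | hy0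
        · simpa using hx
        · have h1 : IsSquare (x / y + 1) := hone _ (hx.div hy)
          have h2 := h1.mul hy
          rwa [add_mul, div_mul_cancel₀ _ hy0, one_mul] at h2
      neg_mem' := by
        intro x hx
        obtain ⟨p, hp⟩ := CharP.exists K
        haveI : CharP K p := hp
        have hp0 : p ≠ 0 := (CharP.char_is_prime K p).ne_zero
        have hsq : IsSquare ((p - 1 : ℕ) : K) := by
          have : ∀ n : ℕ, IsSquare (n : K) := fun n => by
            induction n with
            | zero => simp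
            | succ n ih => rw [Nat.cast_succ]; exact hone _ ih
          exact this _
        have : ((p - 1 : ℕ) : K) = -1 := by
          rw [Nat.cast_sub (Nat.one_le_iff_ne_zero.mpr hp0), CharP.cast_eq_zero, Nat.cast_one, zero_sub]
        rw [this] at hsq
        have h2 := hsq.mul hx
        rw [neg_one_mul] at h2
        exact h2 }
  -- the squares would form a subgroup of order more than a third of the field
  have htop : S = ⊤ := by
    apply AddSubgroup.eq_top_of_card_eq
    obtain ⟨q, hq⟩ : Nat.card S ∣ Nat.card K := AddSubgroup.card_addSubgroup_dvd_card S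
    have hle : Nat.card K ≤ 2 * Nat.card S - 1 := by
      have hsub : (Finset.univ : Finset K) ⊆
          (Finset.univ.filter (fun x : K => IsSquare x)).biUnion
            (fun x => Finset.univ.filter (fun y : K => y * y = x)) := by
        intro y _
        simp only [Finset.mem_biUnion, Finset.mem_filter, Finset.mem_univ, true_and]
        exact ⟨y * y, ⟨y, rfl⟩, rfl⟩
      have h1 := Finset.card_le_card hsub
      set T := Finset.univ.filter (fun x : K => IsSquare x) with hT
      have h0 : (0 : K) ∈ T := by simp [hT]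
      have h2 : ∑ x ∈ T, (Finset.univ.filter (fun y : K => y * y = x)).card ≤ 1 + 2 * (T.card - 1) := by
        rw [← Finset.add_sum_erase T _ h0]
        refine Nat.add_le_add ?_ ?_
        · refine le_of_eq (Finset.card_eq_one.mpr ⟨0, ?_⟩)
          ext y; simp
        · rw [← Finset.card_erase_of_mem h0, mul_comm, ← smul_eq_mul]
          refine Finset.sum_le_card_nsmul _ _ _ fun x _ => ?_
          by_cases hx : ∃ y, y * y = x
          · obtain ⟨y, hy⟩ := hx
            refine le_trans (Finset.card_le_card (t := {y, -y}) fun z hz => ?_) Finset.card_le_two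
            have hz' : z * z = y * y := by rw [hy]; exact (Finset.mem_filter.mp hz).2
            simpa using mul_self_eq_mul_self_iff.mp hz'
          · rw [Finset.filter_eq_empty_iff.mpr fun y _ e => hx ⟨y, e⟩]
            simp
      have hTS : T.card = Nat.card S := by
        rw [Nat.card_eq_fintype_card, hT]
        exact (Fintype.card_of_subtype _ fun x => by simp [S]).symm
      have h3 := h1.trans (Finset.card_biUnion_le.trans h2)
      rw [Finset.card_univ, ← Nat.card_eq_fintype_card, hTS] at h3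
      have : 0 < Nat.card S := Nat.card_pos
      omega
    have hS : 0 < Nat.card S := Nat.card_pos
    have hK' : 0 < Nat.card K := Nat.card_pos
    rcases q with _ | _ | q
    · omega
    · simpa using hq.symm
    · exfalso
      have : Nat.card S * 2 ≤ Nat.card S * (q + 1 + 1) := Nat.mul_le_mul_left _ (by omega)
      omega
  obtain ⟨ν, hν⟩ := FiniteField.exists_nonsquare hK
  exact hν (htop ▸ AddSubgroup.mem_top ν : ν ∈ S)

variable {G Ω : Type*} [Group G] [MulAction G Ω] {a b c : Ω}

/-- The coordinates of an involution exchanging `a`, `b`, fixing `c`, and inverting the elements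
acting as multiplication by squares, are those of `x ↦ 1 / x`. -/
theorem inversion (C : Coord G a b c) (hab : a ≠ b) (hac : a ≠ c) (hbc : b ≠ c)
    (hthree : ∀ g : G, g • a = a → g • b = b → g • c = c → g = 1)
    {s : G} (hsa : s • a = b) (hsb : s • b = a) (hsc : s • c = c)
    (hsq : ∀ t : C.Kˣ, IsSquare t → t ∈ C.A) (hneg : (-1 : C.Kˣ) ∈ C.A)
    (hinv : ∀ h ∈ pairStab G a b, ∀ t : C.Kˣ, IsSquare t →
      (∀ k : C.K, h • C.e (k : OnePoint C.K) = C.e (((t : C.K) * k : C.K) : OnePoint C.K)) →
      s * h * s⁻¹ = h⁻¹) :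
    ∀ k : C.K, k ≠ 0 → s • C.e (k : OnePoint C.K) = C.e ((1 / k : C.K) : OnePoint C.K) := by
  classical
  have hss : s * s = 1 := by
    apply hthree
    · rw [mul_smul, hsa, hsb]
    · rw [mul_smul, hsb, hsa]
    · rw [mul_smul, hsc, hsc]
  have hs2 : ∀ x : Ω, s • s • x = x := fun x => by rw [← mul_smul, hss, one_smul]
  -- the function describing `s`
  have hex : ∀ k : C.K, k ≠ 0 → ∃ l : C.K, l ≠ 0 ∧ s • C.e (k : OnePoint C.K) = C.e (l : OnePoint C.K) := by
    intro k hk
    obtain ⟨x, hx⟩ := C.e.surjective (s • C.e (k : OnePoint C.K))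
    cases x with
    | infty =>
      exfalso
      rw [C.e_infty] at hx
      have : C.e (k : OnePoint C.K) = C.e ((0 : C.K) : OnePoint C.K) :=
        (hs2 _).symm.trans ((congrArg (s • ·) hx.symm).trans (hsa.trans C.e_zero.symm))
      exact hk (OnePoint.coe_eq_coe.mp (C.e.injective this))
    | coe l =>
      refine ⟨l, fun hl => ?_, hx.symm⟩
      subst hl
      rw [C.e_zero] at hx
      have : C.e (k : OnePoint C.K) = C.e ∞ :=
        (hs2 _).symm.trans ((congrArg (s • ·) hx.symm).trans (hsb.trans C.e_infty.symm))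
      exact OnePoint.coe_ne_infty k (C.e.injective this)
  choose φ' hφ0' hφ' using hex
  let φ : C.K → C.K := fun k => if hk : k = 0 then 0 else φ' k hk
  have hφ : ∀ k, k ≠ 0 → φ k ≠ 0 ∧ s • C.e (k : OnePoint C.K) = C.e (φ k : OnePoint C.K) :=
    fun k hk => by simp only [φ, dif_neg hk]; exact ⟨hφ0' k hk, hφ' k hk⟩
  have hφuniq : ∀ k l : C.K, k ≠ 0 → s • C.e (k : OnePoint C.K) = C.e (l : OnePoint C.K) → φ k = l :=
    fun k l hk hl => OnePoint.coe_eq_coe.mp (C.e.injective ((hφ k hk).2.symm.trans hl))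
  have hφ1 : φ 1 = 1 := hφuniq 1 1 one_ne_zero (by rw [C.e_one, hsc])
  -- elements of the two-point stabiliser through `s`
  have hconj : ∀ h ∈ pairStab G a b, s * h * s⁻¹ ∈ pairStab G a b := by
    intro h hh
    have := Zassenhaus.conj_mem_pairStab (g := s) hh
    rw [hsa, hsb] at this
    exact ⟨this.2, this.1⟩
  have heqv : ∀ h ∈ pairStab G a b, ∀ t t' : C.Kˣ,
      (∀ k : C.K, h • C.e (k : OnePoint C.K) = C.e (((t : C.K) * k : C.K) : OnePoint C.K)) →
      (∀ k : C.K, (s * h * s⁻¹) • C.e (k : OnePoint C.K) = C.e (((t' : C.K) * k : C.K) : OnePoint C.K)) →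
      ∀ k, k ≠ 0 → φ ((t : C.K) * k) = t' * φ k := by
    intro h hh t t' ht ht' k hk
    apply hφuniq _ _ (mul_ne_zero t.ne_zero hk)
    rw [← ht, ← ht', ← (hφ k hk).2, mul_smul, mul_smul, inv_smul_smul]
  have hsquare : ∀ t : C.Kˣ, IsSquare t → ∀ k, k ≠ 0 → φ ((t : C.K) * k) = φ k / t := by
    intro t ht k hk
    obtain ⟨h, hh, hact⟩ := C.exists_pairStab t (hsq t ht)
    have hact' : ∀ k : C.K, (s * h * s⁻¹) • C.e (k : OnePoint C.K)
        = C.e ((((t⁻¹ : C.Kˣ) : C.K) * k : C.K) : OnePoint C.K) := by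
      intro k
      rw [hinv h hh t ht hact, inv_smul_eq_iff, hact, ← mul_assoc, Units.mul_inv, one_mul]
    rw [heqv h hh t t⁻¹ hact hact' k hk, Units.val_inv_eq_inv_val]
    field_simp
  -- an element of the two-point stabiliser determines its multiplier
  have hmult : ∀ h : G, ∀ t t' : C.Kˣ,
      (∀ k : C.K, h • C.e (k : OnePoint C.K) = C.e (((t : C.K) * k : C.K) : OnePoint C.K)) →
      (∀ k : C.K, h • C.e (k : OnePoint C.K) = C.e (((t' : C.K) * k : C.K) : OnePoint C.K)) → t = t' := by
    intro h t t' ht ht'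
    have := OnePoint.coe_eq_coe.mp (C.e.injective ((ht 1).symm.trans (ht' 1)))
    rw [mul_one, mul_one] at this
    exact Units.ext this
  have heq1 : ∀ h ∈ pairStab G a b,
      (∀ k : C.K, h • C.e (k : OnePoint C.K) = C.e ((((1 : C.Kˣ) : C.K) * k : C.K) : OnePoint C.K)) →
      h = 1 := by
    intro h hh ht
    refine hthree h hh.1 hh.2 ?_
    rw [← C.e_one, ht, Units.val_one, one_mul]
  -- squaring multipliers
  have hsquareact : ∀ h : G, ∀ t : C.Kˣ,
      (∀ k : C.K, h • C.e (k : OnePoint C.K) = C.e (((t : C.K) * k : C.K) : OnePoint C.K)) →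
      ∀ k : C.K, (h * h) • C.e (k : OnePoint C.K) = C.e ((((t * t : C.Kˣ) : C.K) * k : C.K) : OnePoint C.K) := by
    intro h t ht k
    rw [mul_smul, ht, ht, Units.val_mul, mul_assoc]
  -- the element acting as negation commutes with `s`
  obtain ⟨z, hz, hzact⟩ := C.exists_pairStab (-1) hneg
  obtain ⟨u, -, huact⟩ := C.mem_pairStab _ (hconj z hz)
  have hz2 : z * z = 1 := heq1 _ (mul_mem hz hz) (by
    intro k; have := hsquareact z _ hzact k; rwa [neg_one_mul, neg_neg] at this)
  have hu : u = -1 := by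
    have hu2 : u * u = 1 := hmult ((s * z * s⁻¹) * (s * z * s⁻¹)) _ _ (hsquareact _ _ huact) (by
      intro k
      rw [show s * z * s⁻¹ * (s * z * s⁻¹) = s * (z * z) * s⁻¹ by group, hz2, mul_one, mul_inv_cancel,
        one_smul, Units.val_one, one_mul])
    rcases mul_self_eq_one_iff.mp (show (u : C.K) * u = 1 by rw [← Units.val_mul, hu2, Units.val_one])
      with h | h
    · have hu1 : u = 1 := Units.ext h
      subst hu1
      have h1 := heq1 _ (hconj z hz) huact
      have hz1 : z = 1 := conj_eq_one_iff.mp h1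
      exact (hmult z 1 (-1) (fun k => by rw [hz1, one_smul, Units.val_one, one_mul]) hzact)
    · exact Units.ext (by simpa using h)
  subst hu
  have hodd : ∀ k : C.K, k ≠ 0 → φ (-k) = -φ k := fun k hk => by
    simpa using heqv z hz _ _ hzact huact k hk
  -- translation by one
  obtain ⟨v, hv⟩ := (C.stab_iff (affinePerm 1 1) (Moebius.affinePerm_infty _ _)).mpr
    ⟨1, C.A.one_mem, 1, rfl⟩
  have hv' : ∀ k : C.K, v • C.e (k : OnePoint C.K) = C.e ((k + 1 : C.K) : OnePoint C.K) := by
    intro k
    have := congrArg (fun σ : Equiv.Perm (OnePoint C.K) => C.e (σ (k : OnePoint C.K))) hv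
    simpa using this
  have hva : v • a = a := by
    have := congrArg (fun σ : Equiv.Perm (OnePoint C.K) => C.e (σ ∞)) hv
    simpa [C.e_infty] using this
  have hvi : ∀ k : C.K, v⁻¹ • C.e (k : OnePoint C.K) = C.e ((k - 1 : C.K) : OnePoint C.K) := by
    intro k
    rw [inv_smul_eq_iff, hv', sub_add_cancel]
  have hvia : v⁻¹ • a = a := by rw [inv_smul_eq_iff, hva]
  have hvb : v • b = c :=
    (congrArg (v • ·) C.e_zero.symm).trans ((hv' 0).trans (by rw [zero_add]; exact C.e_one))
  have hvic : v⁻¹ • c = b := inv_smul_eq_iff.mpr hvb.symm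
  have hvib : v⁻¹ • b = C.e ((-1 : C.K) : OnePoint C.K) :=
    (congrArg (v⁻¹ • ·) C.e_zero.symm).trans ((hvi 0).trans (by rw [zero_sub]))
  set g : G := v⁻¹ * s * v * s * v⁻¹ with hg
  have hm : φ (-1) = -1 := by rw [hodd 1 one_ne_zero, hφ1]
  have hga : g • a = b := by
    simp only [hg, mul_smul]
    rw [hvia, hsa, hvb, hsc, hvic]
  have hgb : g • b = a := by
    simp only [hg, mul_smul]
    rw [hvib, (hφ _ (neg_ne_zero.mpr one_ne_zero)).2, hm, hv', neg_add_cancel,
      C.e_zero, hsb, hvia]
  have hgh : s * g ∈ pairStab G a b :=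
    Zassenhaus.mem_pairStab.mpr ⟨by rw [mul_smul, hga, hsb], by rw [mul_smul, hgb, hsa]⟩
  have hg1 : g • C.e ((1 : C.K) : OnePoint C.K) = C.e ((-1 : C.K) : OnePoint C.K) := by
    simp only [hg, mul_smul]
    rw [hvi, sub_self, C.e_zero, hsb, hva, hsa, hvib]
  have hgk : ∀ k : C.K, k ≠ 0 → g • C.e (k : OnePoint C.K) = C.e ((φ (-k) : C.K) : OnePoint C.K) := by
    obtain ⟨t, -, htact⟩ := C.mem_pairStab _ hgh
    have e : (s * g) • C.e ((1 : C.K) : OnePoint C.K) = C.e ((-1 : C.K) : OnePoint C.K) := by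
      rw [mul_smul, hg1, (hφ _ (neg_ne_zero.mpr one_ne_zero)).2, hm]
    have ht : (t : C.K) = -1 := by
      have := OnePoint.coe_eq_coe.mp (C.e.injective ((htact 1).symm.trans e))
      rwa [mul_one] at this
    intro k hk
    rw [← (hφ (-k) (neg_ne_zero.mpr hk)).2, ← neg_one_mul, ← ht, ← htact, mul_smul s g, hs2]
  -- values at squares and non-squares
  intro k hk
  by_cases hksq : IsSquare (Units.mk0 k hk)
  · have := hsquare _ hksq 1 one_ne_zero
    rw [Units.val_mk0, mul_one, hφ1] at this
    rw [(hφ k hk).2, this]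
  have hchar : ringChar C.K ≠ 2 := fun h2 => hksq (by
    haveI : CharP C.K 2 := ringChar.of_eq h2
    obtain ⟨r, hr⟩ := FiniteField.isSquare_of_char_two h2 k
    have hr0 : r ≠ 0 := by rintro rfl; simp [hk] at hr
    exact ⟨Units.mk0 r hr0, Units.ext hr⟩)
  set κ := k * φ k with hκ
  have hnonsq : ∀ y, y ≠ 0 → ¬ IsSquare y → φ y = κ / y := by
    intro y hy hy2
    have hyu : ¬ IsSquare (Units.mk0 y hy) := fun ⟨r, hr⟩ => hy2 ⟨r, congrArg Units.val hr⟩
    have hsq2 : IsSquare (Units.mk0 y hy * (Units.mk0 k hk)⁻¹) := by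
      rw [FiniteField.unit_isSquare_iff hchar] at hksq hyu ⊢
      have h1 := (FiniteField.pow_dichotomy hchar (a := k) hk).resolve_left
        (fun e => hksq (Units.ext (by simpa using e)))
      have h2 := (FiniteField.pow_dichotomy hchar (a := y) hy).resolve_left
        (fun e => hyu (Units.ext (by simpa using e)))
      apply Units.ext
      rw [Units.val_pow_eq_pow_val, Units.val_mul, Units.val_inv_eq_inv_val, Units.val_mk0,
        Units.val_mk0, mul_pow, inv_pow, h1, h2]
      simp
    have := hsquare _ hsq2 k hk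
    simp only [Units.val_mul, Units.val_inv_eq_inv_val, Units.val_mk0] at this
    rw [inv_mul_cancel_right₀ hk] at this
    rw [this, hκ]
    field_simp
  obtain ⟨x, hx0, ⟨r, hr⟩, hx1⟩ := exists_nonsquare_succ_square (K := C.K) hchar
  have hr0 : r ≠ 0 := by rintro rfl; simp [hx0] at hr
  set y := x + 1 with hy
  have hy0 : y ≠ 0 := fun e => hx1 (e ▸ IsSquare.zero)
  have hφx : φ x = 1 / x := by
    have := hsquare (Units.mk0 x hx0) ⟨Units.mk0 r hr0, Units.ext hr⟩ 1 one_ne_zero
    simpa [hφ1] using this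
  have hyx : ¬ IsSquare (y / x) := fun h => hx1 (by
    have := h.mul (⟨r, hr⟩ : IsSquare x)
    rwa [div_mul_cancel₀ _ hx0] at this)
  have hyx0 : y / x ≠ 0 := div_ne_zero hy0 hx0
  have e1 : g • C.e (y : OnePoint C.K) = C.e ((φ (y / x) - 1 : C.K) : OnePoint C.K) := by
    simp only [hg, mul_smul]
    rw [hvi, show y - 1 = x by rw [hy]; ring, (hφ x hx0).2, hφx, hv',
      show 1 / x + 1 = y / x by rw [hy]; field_simp; ring, (hφ _ hyx0).2, hvi]
  have e2 := OnePoint.coe_eq_coe.mp (C.e.injective (e1.symm.trans (hgk y hy0)))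
  rw [hodd y hy0, hnonsq _ hyx0 hyx, hnonsq y hy0 hx1] at e2
  have hκ1 : κ = 1 := by
    field_simp at e2
    have : (κ - 1) * y = 0 := by rw [hy] at e2 ⊢; linear_combination e2
    exact sub_eq_zero.mp ((mul_eq_zero.mp this).resolve_right hy0)
  rw [(hφ k hk).2]
  congr 2
  rw [eq_div_iff hk, mul_comm, ← hκ, hκ1]

theorem card_coord [Fintype Ω] (C : Coord G a b c) : Fintype.card C.K + 1 = Fintype.card Ω := by
  rw [← Fintype.card_congr C.e]
  exact (Fintype.card_option (α := C.K)).symm

theorem transport_eq [DecidableEq K] (e : OnePoint K ≃ Ω) (g : G) {x y : OnePoint K}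
    (h : g • e x = e y) : transport e g x = y := by
  rw [Coordinates.transport_apply, h, Equiv.symm_apply_apply]

/-- A group with abelian regular `F` in a point stabiliser, and an abelian two-point stabiliser,
regular on the other points, whose squares are inverted by an involution exchanging the two points,
is
`PGL(2,q)`. -/
theorem pgl_of_inverted_squares [Finite G] [Fintype Ω] [FaithfulSMul G Ω] (hab : a ≠ b) (hac : a ≠ c)
    (hbc : b ≠ c) (hthree : ∀ g : G, g • a = a → g • b = b → g • c = c → g = 1)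
    (F : Subgroup G) (hFle : F ≤ stabilizer G a)
    (hFn : (F.subgroupOf (stabilizer G a)).Normal) (hFc : IsMulCommutative F)
    (hreg : ∀ y z : Ω, y ≠ a → z ≠ a → ∃! u : F, (u : G) • y = z)
    (hHc : IsMulCommutative (pairStab G a b))
    (hirr : ∀ M : Subgroup G, M ≤ F → (∀ g ∈ pairStab G a b, ∀ u ∈ M, g * u * g⁻¹ ∈ M) →
      (∃ u ∈ M, u ≠ 1) → M = F)
    (hd : Nat.card (pairStab G a b) = Fintype.card Ω - 2)
    (s : G) (hsa : s • a = b) (hsb : s • b = a) (hsc : s • c = c)
    (hinv : ∀ h ∈ pairStab G a b, s * (h * h) * s⁻¹ = (h * h)⁻¹) :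
    ∃ (K : Type) (_ : Field K) (_ : Fintype K), Fintype.card K = Fintype.card Ω - 1 ∧
      Nonempty (G ≃* Matrix.ProjGenLinGroup (Fin 2) K) := by
  obtain ⟨C⟩ := Coordinates.exists_coord hab hac hbc (fun g hg => hthree g hg.1 hg.2) F hFle hFn hFc
    hreg hHc hirr
  have hcard := card_coord C
  refine ⟨C.K, inferInstance, inferInstance, by omega, ?_⟩
  have hA : C.A = ⊤ := by
    apply Subgroup.eq_top_of_card_eq
    rw [C.card_A, hd, Nat.card_eq_fintype_card, Fintype.card_units]
    omega
  have hall : ∀ t : C.Kˣ, t ∈ C.A := fun t => hA ▸ Subgroup.mem_top t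
  have hs := inversion C hab hac hbc hthree hsa hsb hsc (fun t _ => hall t) (hall _)
    (fun h hh t ht hact => by
      obtain ⟨r, hr⟩ := ht
      obtain ⟨k, hk, hkact⟩ := C.exists_pairStab r (hall r)
      have hkk : h = k * k := by
        refine (inv_mul_eq_one.mp (hthree ((k * k)⁻¹ * h) (mul_mem (inv_mem (mul_mem hk hk)) hh).1
          (mul_mem (inv_mem (mul_mem hk hk)) hh).2 ?_)).symm
        rw [mul_smul, inv_smul_eq_iff, ← C.e_one, hact, mul_smul, hkact, hkact, hr, Units.val_mul,
          mul_assoc]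
      rw [hkk]
      exact hinv k hk)
  refine Moebius.nonempty_mulEquiv_pgl (transport C.e) (Coordinates.transport_injective C.e) ?_
  refine Moebius.eq_range_glHom (fun σ hσ => ?_) (transport C.e s) ⟨s, rfl⟩ ?_ ?_ ?_
  · rw [C.stab_iff σ hσ]
    exact ⟨fun ⟨t, _, β, e⟩ => ⟨t, β, e⟩, fun ⟨t, β, e⟩ => ⟨t, hall t, β, e⟩⟩
  · exact transport_eq C.e s ((congrArg (s • ·) C.e_infty).trans (hsa.trans C.e_zero.symm))
  · exact transport_eq C.e s ((congrArg (s • ·) C.e_zero).trans (hsb.trans C.e_infty.symm))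
  · exact fun k hk => transport_eq C.e s (hs k hk)

/-- A group with abelian regular `F` in a point stabiliser, and an abelian two-point stabiliser,
regular on the other points and inverted by an involution exchanging the two points, is
`PGL(2,q)`. -/
theorem pgl_of_inverted [Finite G] [Fintype Ω] [FaithfulSMul G Ω] (hab : a ≠ b) (hac : a ≠ c)
    (hbc : b ≠ c) (hthree : ∀ g : G, g • a = a → g • b = b → g • c = c → g = 1)
    (F : Subgroup G) (hFle : F ≤ stabilizer G a)
    (hFn : (F.subgroupOf (stabilizer G a)).Normal) (hFc : IsMulCommutative F)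
    (hreg : ∀ y z : Ω, y ≠ a → z ≠ a → ∃! u : F, (u : G) • y = z)
    (hHc : IsMulCommutative (pairStab G a b))
    (hirr : ∀ M : Subgroup G, M ≤ F → (∀ g ∈ pairStab G a b, ∀ u ∈ M, g * u * g⁻¹ ∈ M) →
      (∃ u ∈ M, u ≠ 1) → M = F)
    (hd : Nat.card (pairStab G a b) = Fintype.card Ω - 2)
    (s : G) (hsa : s • a = b) (hsb : s • b = a) (hsc : s • c = c)
    (hinv : ∀ h ∈ pairStab G a b, s * h * s⁻¹ = h⁻¹) :
    ∃ (K : Type) (_ : Field K) (_ : Fintype K), Fintype.card K = Fintype.card Ω - 1 ∧
      Nonempty (G ≃* Matrix.ProjGenLinGroup (Fin 2) K) :=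
  pgl_of_inverted_squares hab hac hbc hthree F hFle hFn hFc hreg hHc hirr hd s hsa hsb hsc
    fun h hh => hinv _ (mul_mem hh hh)

/-- A group with abelian regular `F` in a point stabiliser, and an abelian two-point stabiliser of
even order, half the number of the other points, inverted by an involution exchanging the two points
and fixing a third one, is `PSL(2,q)`. -/
theorem psl_of_inverted [Finite G] [Fintype Ω] [FaithfulSMul G Ω] (hab : a ≠ b) (hac : a ≠ c)
    (hbc : b ≠ c) (hthree : ∀ g : G, g • a = a → g • b = b → g • c = c → g = 1)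
    (F : Subgroup G) (hFle : F ≤ stabilizer G a)
    (hFn : (F.subgroupOf (stabilizer G a)).Normal) (hFc : IsMulCommutative F)
    (hreg : ∀ y z : Ω, y ≠ a → z ≠ a → ∃! u : F, (u : G) • y = z)
    (hHc : IsMulCommutative (pairStab G a b))
    (hirr : ∀ M : Subgroup G, M ≤ F → (∀ g ∈ pairStab G a b, ∀ u ∈ M, g * u * g⁻¹ ∈ M) →
      (∃ u ∈ M, u ≠ 1) → M = F)
    (hd : 2 * Nat.card (pairStab G a b) = Fintype.card Ω - 2)
    (heven : Even (Nat.card (pairStab G a b)))
    (s : G) (hsa : s • a = b) (hsb : s • b = a) (hsc : s • c = c)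
    (hinv : ∀ h ∈ pairStab G a b, s * h * s⁻¹ = h⁻¹) :
    ∃ (K : Type) (_ : Field K) (_ : Fintype K), ringChar K ≠ 2 ∧
      Fintype.card K = Fintype.card Ω - 1 ∧
      Nonempty (G ≃* Matrix.ProjectiveSpecialLinearGroup (Fin 2) K) := by
  obtain ⟨C⟩ := Coordinates.exists_coord hab hac hbc (fun g hg => hthree g hg.1 hg.2) F hFle hFn hFc
    hreg hHc hirr
  have hcard := card_coord C
  set d := Nat.card (pairStab G a b) with hd'
  have hd1 : 0 < d := Nat.card_pos
  have hq : Fintype.card C.K = 2 * d + 1 := by omega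
  have hchar : ringChar C.K ≠ 2 := fun h2 => by
    have := FiniteField.even_card_of_char_two h2
    omega
  refine ⟨C.K, inferInstance, inferInstance, hchar, by omega, ?_⟩
  have hsqiff : ∀ t : C.Kˣ, IsSquare t ↔ t ^ d = 1 := fun t => by
    rw [FiniteField.unit_isSquare_iff hchar, show Fintype.card C.K / 2 = d by omega]
  have hA : ∀ t : C.Kˣ, t ∈ C.A ↔ IsSquare t := by
    intro t
    have hle : ∀ t : C.Kˣ, t ∈ C.A → IsSquare t := fun t ht => by
      rw [hsqiff, hd', ← C.card_A]
      exact congrArg Subtype.val (pow_card_eq_one' (G := C.A) (x := ⟨t, ht⟩))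
    refine ⟨hle t, fun ht => ?_⟩
    classical
    obtain ⟨γ, hγ⟩ := IsCyclic.exists_generator (α := C.Kˣ)
    let S : Finset C.Kˣ := Finset.univ.filter (fun t => t ^ d = 1)
    have hS : S.card ≤ d := IsCyclic.card_pow_eq_one_le hd1
    have hT : (Finset.univ.filter (fun t => t ∈ C.A)).card = d := by
      rw [hd', ← C.card_A, Nat.card_eq_fintype_card, Fintype.card_subtype]
    have heq : Finset.univ.filter (fun t => t ∈ C.A) = S := by
      refine Finset.eq_of_subset_of_card_le (fun u hu => ?_) (by omega)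
      simp only [S, Finset.mem_filter, Finset.mem_univ, true_and] at hu ⊢
      exact (hsqiff u).mp (hle u hu)
    have : t ∈ S := by simpa [S] using (hsqiff t).mp ht
    rw [← heq] at this
    exact (Finset.mem_filter.mp this).2
  have hneg : (-1 : C.Kˣ) ∈ C.A := by rw [hA, hsqiff]; exact heven.neg_one_pow
  have hs := inversion C hab hac hbc hthree hsa hsb hsc (fun t ht => (hA t).mpr ht) hneg
    (fun h hh _ _ _ => hinv h hh)
  obtain ⟨z, hz, hzact⟩ := C.exists_pairStab (-1) hneg
  refine Moebius.nonempty_mulEquiv_psl (transport C.e) (Coordinates.transport_injective C.e) ?_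
  refine Moebius.eq_range_slHom (fun σ hσ => ?_) (transport C.e (s * z)) ⟨s * z, rfl⟩ ?_ ?_ ?_
  · rw [C.stab_iff σ hσ]
    exact ⟨fun ⟨t, ht, β, e⟩ => ⟨t, β, (hA t).mp ht, e⟩, fun ⟨t, β, ht, e⟩ => ⟨t, (hA t).mpr ht, β, e⟩⟩
  · refine transport_eq C.e (s * z) ((congrArg ((s * z) • ·) C.e_infty).trans ?_)
    rw [mul_smul, hz.1, hsa]
    exact C.e_zero.symm
  · refine transport_eq C.e (s * z) ((congrArg ((s * z) • ·) C.e_zero).trans ?_)
    rw [mul_smul, hz.2, hsb]
    exact C.e_infty.symm
  · intro k hk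
    refine transport_eq C.e (s * z) ?_
    rw [mul_smul, hzact, hs _ (mul_ne_zero (Units.ne_zero _) hk)]
    congr 2
    simp [div_eq_mul_inv]

end CfsgLib.PermSmall.Recognition
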