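import Cfsg.Agent.Lib.PermSmall.PrimeDegree

/-!
The affine case of degree `p + 1`: the field structure on a regular normal two-subgroup.
-/

set_option autoImplicit false

noncomputable section

namespace CfsgLib.PermSmall.AffineField

open MulAction
open CfsgLib.PermSmall.Zassenhaus (pairStab)
open CfsgLib.PermSmall.PrimeDegree (Setup)
open scoped Classical

/-- A commuting family of automorphisms regular on the non-zero elements makes an abelian group of
order `2 ^ q` a field. -/
theorem exists_field_equiv {V ι : Type*} [AddCommGroup V] [Finite V] (one : V) (hone : one ≠ 0)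
    (act : ι → V ≃+ V) (hcomm : ∀ i j x, act i (act j x) = act j (act i x))
    (hbij : ∀ x : V, x ≠ 0 → ∃ i, act i one = x) {q : ℕ} (hq : q ≠ 0)
    (hcard : Nat.card V = 2 ^ q) :
    ∃ e : V ≃+ GaloisField 2 q, e one = 1 ∧ ∀ i x, e (act i x) = e (act i one) * e x := by
  let L : V → V →+ V := fun x => if hx : x = 0 then 0 else (act (Classical.choose (hbij x hx))).toAddMonoidHom
  have hLne : ∀ x, x ≠ 0 → ∃ i, act i one = x ∧ ∀ y, L x y = act i y := fun x hx =>
    ⟨_, Classical.choose_spec (hbij x hx), fun y => by simp only [L, dif_neg hx]; rfl⟩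
  have hL0 : ∀ y, L 0 y = 0 := fun y => by simp [L]
  have hL : ∀ i y, L (act i one) y = act i y := by
    intro i y
    have hx : act i one ≠ 0 := fun e => hone ((act i).injective (e.trans (map_zero _).symm))
    obtain ⟨j, hj, hjy⟩ := hLne _ hx
    rw [hjy]
    by_cases hy : y = 0
    · rw [hy, map_zero, map_zero]
    · obtain ⟨k, rfl⟩ := hbij y hy
      rw [hcomm j k, hj, hcomm i k]
  have hLx : ∀ x, L x one = x := fun x => by
    by_cases hx : x = 0
    · rw [hx, hL0]
    · obtain ⟨i, hi, hiy⟩ := hLne x hx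
      rw [hiy, hi]
  have hsymm : ∀ x y, L x y = L y x := by
    intro x y
    by_cases hx : x = 0
    · rw [hx, hL0, map_zero]
    by_cases hy : y = 0
    · rw [hy, hL0, map_zero]
    obtain ⟨i, rfl⟩ := hbij x hx
    obtain ⟨j, rfl⟩ := hbij y hy
    rw [hL, hL, hcomm]
  have hassoc : ∀ x y z, L (L x y) z = L x (L y z) := by
    intro x y z
    by_cases hx : x = 0
    · rw [hx, hL0, hL0, hL0]
    by_cases hy : y = 0
    · rw [hy, map_zero, hL0, map_zero]
    by_cases hz : z = 0
    · rw [hz, map_zero, map_zero, map_zero]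
    obtain ⟨i, rfl⟩ := hbij x hx
    obtain ⟨j, rfl⟩ := hbij y hy
    obtain ⟨k, rfl⟩ := hbij z hz
    rw [hL, hsymm, hL, hL, hL, hcomm k, hcomm k]
  letI : Mul V := ⟨fun x y => L x y⟩
  letI : One V := ⟨one⟩
  letI : CommRing V :=
    { (inferInstance : AddCommGroup V) with
      mul_assoc := hassoc
      one_mul := fun x => (hsymm one x).trans (hLx x)
      mul_one := hLx
      left_distrib := fun x y z => map_add (L x) y z
      right_distrib := fun x y z => by
        show L (x + y) z = L x z + L y z
        rw [hsymm, map_add, hsymm z x, hsymm z y]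
      zero_mul := hL0
      mul_zero := fun x => map_zero (L x)
      mul_comm := hsymm }
  have hnzd : ∀ x y : V, x * y = 0 → x = 0 ∨ y = 0 := by
    intro x y h
    by_contra hne
    simp only [not_or] at hne
    obtain ⟨i, -, hiy⟩ := hLne x hne.1
    have h' : L x y = 0 := h
    rw [hiy] at h'
    exact hne.2 ((act i).injective (h'.trans (map_zero _).symm))
  haveI : NoZeroDivisors V := ⟨fun {x y} => hnzd x y⟩
  haveI : Nontrivial V := ⟨⟨one, 0, hone⟩⟩
  haveI : IsDomain V := NoZeroDivisors.to_isDomain _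
  letI : Fintype V := Fintype.ofFinite V
  letI : Field V := Fintype.fieldOfDomain V
  haveI : Fact (Nat.Prime 2) := ⟨Nat.prime_two⟩
  letI : Fintype (GaloisField 2 q) := Fintype.ofFinite _
  have hc : Fintype.card V = Fintype.card (GaloisField 2 q) := by
    rw [← Nat.card_eq_fintype_card, ← Nat.card_eq_fintype_card, hcard, GaloisField.card 2 q hq]
  let ρ := FiniteField.ringEquivOfCardEq hc
  refine ⟨ρ.toAddEquiv, map_one ρ, fun i x => ?_⟩
  show ρ (act i x) = ρ (act i one) * ρ x
  rw [← map_mul]
  exact congrArg ρ (hL i x).symm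

variable {G α : Type*} [Group G] [MulAction G α] [Fintype α] [FaithfulSMul G α]

/-- The affine case. -/
theorem affine_case [Finite G] {p d : ℕ} {a b : α} (S : Setup G p d a b) (hp : p.Prime)
    (hp2 : p ≠ 2) (hα : Fintype.card α = p + 1) (R : Subgroup G) [R.Normal] [IsPretransitive R α]
    (hreg : ∀ x : α, stabilizer R x = ⊥) :
    ∃ q : ℕ, q.Prime ∧ p + 1 = 2 ^ q ∧ (d = 1 ∨ d = q) ∧ ∃ e : α ≃ GaloisField 2 q,
      ∀ g : G, e.symm.trans ((MulAction.toPerm g).trans e) ∈ Cfsg.semiaffineGroup (GaloisField 2 q) := by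
  haveI : Nonempty α := ⟨a⟩
  have hRinj : ∀ r s : R, (r : G) • a = (s : G) • a → r = s := fun r s e => by
    have : s⁻¹ * r ∈ stabilizer R a := by
      show ((s : G)⁻¹ * r) • a = a
      rw [mul_smul, e, inv_smul_smul]
    rw [hreg, Subgroup.mem_bot, inv_mul_eq_one] at this
    exact this.symm
  let posR : R → α := fun r => (r : G) • a
  have hpos : Function.Bijective posR :=
    ⟨fun r s e => hRinj r s e, fun x => by
      obtain ⟨r, hr⟩ := exists_smul_eq R a x
      exact ⟨r, hr⟩⟩
  have hR : R ≠ ⊥ := by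
    rintro rfl
    obtain ⟨⟨r, hr⟩, hrx⟩ := hpos.2 b
    rw [Subgroup.mem_bot] at hr
    subst hr
    exact S.ne ((one_smul G a).symm.trans hrx)
  obtain ⟨hRc, r, hr, hexp⟩ := CfsgLib.PermGroup.regular_normal_elementary S.two R hR hreg
  haveI := Fact.mk hr
  have hRcard : Nat.card R = p + 1 := by
    rw [Nat.card_congr (Equiv.ofBijective posR hpos), Nat.card_eq_fintype_card, hα]
  obtain ⟨q, hq⟩ := IsPGroup.iff_card.mp
    (show IsPGroup r R from fun x => ⟨1, Subtype.ext (by simpa using hexp x x.2)⟩)
  rw [hRcard] at hq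
  have hr2 : r = 2 := by
    have h2 : 2 ∣ r ^ q := hq ▸ even_iff_two_dvd.mp (Odd.add_one (hp.odd_of_ne_two hp2))
    exact ((Nat.prime_dvd_prime_iff_eq Nat.prime_two hr).mp (Nat.prime_two.dvd_of_dvd_pow h2)).symm
  subst hr2
  have hq2 : 2 ≤ q := by
    rcases q with _ | _ | q
    · simp at hq; exact absurd hq hp.ne_zero
    · simp at hq; exact absurd hq hp.ne_one
    · omega
  have hqp : q.Prime := (Nat.prime_of_pow_sub_one_prime (by omega) (show (2 ^ q - 1).Prime by
    rw [← hq, Nat.add_sub_cancel]; exact hp)).2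
  refine ⟨q, hqp, hq, ?_⟩
  letI : CommGroup R := { (inferInstance : Group R) with mul_comm := hRc.is_comm.comm }
  let cj : G → Additive R ≃+ Additive R := fun g => MulEquiv.toAdditive (MulAut.conjNormal (H := R) g)
  have hcj : ∀ (g : G) (w : Additive R),
      ((Additive.toMul (cj g w) : R) : G) = g * ((Additive.toMul w : R) : G) * g⁻¹ :=
    fun g w => MulAut.conjNormal_apply g _
  have hext : ∀ v w : Additive R, ((Additive.toMul v : R) : G) = ((Additive.toMul w : R) : G) → v = w :=
    fun v w e => Additive.toMul.injective (Subtype.ext e)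
  have hfix : ∀ (g : G) (w : R), g • a = a → ((g : G) * w * g⁻¹) • a = g • (w : G) • a := by
    intro g w hg
    rw [mul_smul, mul_smul, inv_smul_eq_iff.mpr hg.symm]
  obtain ⟨r1, hr1⟩ := hpos.2 b
  have hone : Additive.ofMul r1 ≠ 0 := fun e => S.ne (by
    have e' : r1 = 1 := e
    rw [← hr1, e']
    exact (one_smul G a).symm)
  have hFcomm : ∀ u v : S.F, (u : G) * v = v * u := fun u v => by
    haveI : Fact p.Prime := ⟨hp⟩
    haveI : IsCyclic S.F := isCyclic_of_prime_card S.F_card
    exact congrArg Subtype.val ((IsCyclic.commutative (α := S.F)).is_comm.comm u v)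
  obtain ⟨e, he1, hmul⟩ := exists_field_equiv (V := Additive R) (Additive.ofMul r1) hone
    (fun u : S.F => cj (u : G))
    (fun u v x => hext _ _ (by
      rw [hcj, hcj, hcj, hcj]
      calc (u : G) * ((v : G) * ((Additive.toMul x : R) : G) * (v : G)⁻¹) * (u : G)⁻¹
          = ((u : G) * v) * ((Additive.toMul x : R) : G) * ((u : G) * v)⁻¹ := by group
        _ = ((v : G) * u) * ((Additive.toMul x : R) : G) * ((v : G) * u)⁻¹ := by rw [hFcomm]
        _ = _ := by group))
    (fun x hx => by
      have hne : posR (Additive.toMul x) ≠ a := fun e' => hx (by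
        have h1 : Additive.toMul x = (1 : R) := hRinj _ _ (e'.trans (one_smul G a).symm)
        exact Additive.toMul.injective h1)
      obtain ⟨u, hu, -⟩ := S.regular b _ (Ne.symm S.ne) hne
      refine ⟨u, Additive.toMul.injective (hRinj _ _ ?_)⟩
      rw [hcj, hfix _ _ (S.F_le u.2)]
      exact (congrArg ((u : G) • ·) hr1).trans hu)
    (q := q) (by omega) (by rw [show Nat.card (Additive R) = Nat.card R from rfl, hRcard, hq])
  -- the field automorphism attached to an element fixing `a`
  have hsemi : ∀ m : G, m • a = a → ∃ φ : GaloisField 2 q ≃+* GaloisField 2 q,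
      ∀ w, e (cj m w) = e (cj m (Additive.ofMul r1)) * φ (e w) := by
    intro m hm
    set a0 := e (cj m (Additive.ofMul r1)) with ha0
    have ha0' : a0 ≠ 0 := fun h => hone ((cj m).injective (e.injective
      (by rw [map_zero (cj m), map_zero e]; exact h)))
    let φf : GaloisField 2 q ≃+ GaloisField 2 q :=
      (e.symm.trans ((cj m).trans e)).trans (AddEquiv.mk' (Equiv.mulLeft₀ a0⁻¹ (inv_ne_zero ha0'))
        (fun x y => show a0⁻¹ * (x + y) = a0⁻¹ * x + a0⁻¹ * y from mul_add _ _ _))
    have hφ : ∀ w, φf (e w) = a0⁻¹ * e (cj m w) := fun w => by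
      show a0⁻¹ * e (cj m (e.symm (e w))) = _
      rw [e.symm_apply_apply]
    refine ⟨{ φf with map_mul' := fun x y => ?_ }, fun w => ?_⟩
    · show φf (x * y) = φf x * φf y
      obtain ⟨v, rfl⟩ := e.surjective x
      obtain ⟨w, rfl⟩ := e.surjective y
      by_cases hv : v = 0
      · simp [hv]
      have hne : posR (Additive.toMul v) ≠ a := fun e' => hv (by
        have h1 : Additive.toMul v = (1 : R) := hRinj _ _ (e'.trans (one_smul G a).symm)
        exact Additive.toMul.injective h1)
      obtain ⟨u, hu, -⟩ := S.regular b _ (Ne.symm S.ne) hne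
      have hv' : v = cj (u : G) (Additive.ofMul r1) := by
        refine Additive.toMul.injective (hRinj _ _ ?_)
        rw [hcj, hfix _ _ (S.F_le u.2)]
        exact hu.symm.trans (congrArg ((u : G) • ·) hr1).symm
      let u' : S.F := ⟨m * u * m⁻¹, S.F_norm m hm u u.2⟩
      have hswap : ∀ x, cj m (cj (u : G) x) = cj (u' : G) (cj m x) := fun x => hext _ _ (by
        rw [hcj, hcj, hcj, hcj]
        simp only [u']
        group)
      have e1 : e v * e w = e (cj (u : G) w) := by rw [hmul u w, hv']
      have e2 : ∀ x, e (cj m (cj (u : G) x)) = e (cj (u' : G) (Additive.ofMul r1)) * e (cj m x) :=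
        fun x => by rw [hswap, hmul]
      rw [e1, hφ, hφ, hφ, e2 w, hv', e2, ← ha0]
      field_simp
    · show _ = a0 * φf (e w)
      rw [hφ, mul_inv_cancel_left₀ ha0']
  choose φ hφ using hsemi
  refine ⟨?_, ((Equiv.ofBijective posR hpos).symm.trans Additive.ofMul).trans e.toEquiv, fun g => ?_⟩
  · -- the two-point stabiliser embeds in the automorphism group
    haveI : Fact (Nat.Prime 2) := ⟨Nat.prime_two⟩
    have hfix1 : ∀ h : pairStab G a b, cj (h : G) (Additive.ofMul r1) = Additive.ofMul r1 := fun h => by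
      refine Additive.toMul.injective (hRinj _ _ ?_)
      rw [hcj, hfix _ _ h.2.1]
      exact ((congrArg ((h : G) • ·) hr1).trans h.2.2).trans hr1.symm
    have hφ1 : ∀ (h : pairStab G a b) w, φ (h : G) h.2.1 (e w) = e (cj (h : G) w) := fun h w => by
      rw [hφ _ h.2.1 w, hfix1 h, he1, one_mul]
    let ψ : pairStab G a b →* (GaloisField 2 q ≃ₐ[ZMod 2] GaloisField 2 q) :=
      { toFun := fun h => AlgEquiv.ofRingEquiv (f := φ (h : G) h.2.1)
          (RingHom.congr_fun (Subsingleton.elim ((φ (h : G) h.2.1).toRingHom.comp (algebraMap (ZMod 2) _))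
            (algebraMap (ZMod 2) _)))
        map_one' := AlgEquiv.ext fun x => by
          obtain ⟨w, rfl⟩ := e.surjective x
          show φ _ _ (e w) = e w
          rw [hφ1]
          exact congrArg e (hext _ _ (by rw [hcj]; simp))
        map_mul' := fun h k => AlgEquiv.ext fun x => by
          obtain ⟨w, rfl⟩ := e.surjective x
          show φ _ _ (e w) = φ (h : G) h.2.1 (φ (k : G) k.2.1 (e w))
          rw [hφ1, hφ1, hφ1]
          exact congrArg e (hext _ _ (by rw [hcj, hcj, hcj, Subgroup.coe_mul]; group)) }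
    have hinj : Function.Injective ψ := by
      rw [injective_iff_map_eq_one]
      intro h hh
      refine Subtype.ext (eq_of_smul_eq_smul (α := α) fun x => ?_)
      obtain ⟨w, rfl⟩ := hpos.2 x
      rw [OneMemClass.coe_one, one_smul]
      have h1 : e (cj (h : G) (Additive.ofMul w)) = e (Additive.ofMul w) := by
        rw [← hφ1]
        exact DFunLike.congr_fun hh (e (Additive.ofMul w))
      have h2 : (h : G) * w * (h : G)⁻¹ = w := by
        rw [← MulAut.conjNormal_apply]
        exact congrArg (fun v : Additive R => ((Additive.toMul v : R) : G)) (e.injective h1)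
      show (h : G) • (w : G) • a = (w : G) • a
      rw [← hfix _ _ h.2.1, h2]
    have hcard : Nat.card (GaloisField 2 q ≃ₐ[ZMod 2] GaloisField 2 q) = q := by
      rw [IsGalois.card_aut_eq_finrank, GaloisField.finrank 2 (by omega)]
    have hdvd : d ∣ q := by
      rw [← hcard, ← S.card_pair]
      exact Subgroup.card_dvd_of_injective ψ hinj
    exact (Nat.dvd_prime hqp).mp hdvd
  · obtain ⟨ρ, hρ⟩ := hpos.2 (g • a)
    set m : G := (ρ : G)⁻¹ * g with hm
    have hma : m • a = a := by rw [hm, mul_smul, inv_smul_eq_iff]; exact hρ.symm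
    have ha0' : e (cj m (Additive.ofMul r1)) ≠ 0 := fun h => hone ((cj m).injective (e.injective
      (by rw [map_zero (cj m), map_zero e]; exact h)))
    refine ⟨Units.mk0 _ ha0', e (Additive.ofMul ρ), φ m hma, fun x => ?_⟩
    obtain ⟨w, rfl⟩ := e.surjective x
    rw [Units.val_mk0, ← hφ m hma w, ← map_add]
    simp only [Equiv.trans_apply, Equiv.symm_trans_apply, Equiv.symm_symm, AddEquiv.toEquiv_eq_coe,
      AddEquiv.coe_toEquiv_symm, AddEquiv.symm_apply_apply, AddEquiv.coe_toEquiv, MulAction.toPerm_apply]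
    show e (Additive.ofMul ((Equiv.ofBijective posR hpos).symm
      (g • posR (Additive.toMul w)))) = e (cj m w + Additive.ofMul ρ)
    refine congrArg e (Additive.toMul.injective (hRinj _ _ ?_))
    rw [toMul_add, Subgroup.coe_mul]
    refine (Equiv.ofBijective_apply_symm_apply posR hpos _).trans ?_
    have hc : ((Additive.toMul (cj m w) : R) : G) * ρ = (ρ : G) * ((Additive.toMul (cj m w) : R) : G) :=
      congrArg Subtype.val (mul_comm (Additive.toMul (cj m w) : R) ρ)
    rw [toMul_ofMul, hc, mul_smul, hcj, hfix _ _ hma, hm, mul_smul]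
    exact (smul_inv_smul (ρ : G) _).symm

end CfsgLib.PermSmall.AffineField
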