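import Cfsg.Agent.Lib.Characters.BrauerPerm
import Cfsg.Agent.Lib.Characters.Scalar
import Cfsg.Agent.Lib.Characters.Values
import Mathlib.RepresentationTheory.Invariants
import Mathlib.LinearAlgebra.Eigenspace.Minpoly

/-!
The algebra of endomorphisms commuting with a complex representation of a finite group:
it is commutative exactly for multiplicity-free characters, and then consists of the operators
of class functions; traces of its integral elements are divisible by common divisors of the
degrees of the constituents.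
-/

set_option autoImplicit false

noncomputable section

namespace CfsgLib.PermSmall.Centraliser

open Cfsg CfsgLib.Characters Representation
open scoped ComplexConjugate
open scoped Classical

universe u v

variable {G : Type u} [Group G] [Fintype G]
variable {V : Type v} [AddCommGroup V] [Module ℂ V] [FiniteDimensional ℂ V]
variable (ρ : Representation ℂ G V)

/-- Endomorphisms commuting with the representation. -/
def Comm {G : Type u} [Group G] {V : Type v} [AddCommGroup V] [Module ℂ V]
    (ρ : Representation ℂ G V) (A : Module.End ℂ V) : Prop :=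
  ∀ g, A * ρ g = ρ g * A

/-- Multiplicity-freeness. -/
def MultFree (π : G → ℂ) : Prop :=
  ∀ χ : G → ℂ, IsIrrCharacter G χ → classInner π χ = 0 ∨ classInner π χ = 1

theorem exists_mult : ∃ m : IrrCharacter G → ℕ,
    ρ.character = ∑ χ, (m χ : ℂ) • (χ : G → ℂ) ∧
    (∀ χ : IrrCharacter G, classInner ρ.character (χ : G → ℂ) = m χ) ∧
    classInner ρ.character ρ.character = ((∑ χ, m χ ^ 2 : ℕ) : ℂ) := by
  obtain ⟨m, hm⟩ := exists_irr_decomp ρ
  have h : ∀ χ : IrrCharacter G, classInner ρ.character (χ : G → ℂ) = m χ := fun χ => by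
    rw [hm, classInner_irr_sum, if_pos (Finset.mem_univ χ)]
  refine ⟨m, hm, h, ?_⟩
  nth_rewrite 2 [hm]
  rw [classInner_sum_right]
  push_cast
  refine Finset.sum_congr rfl fun χ _ => ?_
  rw [classInner_smul_right, map_natCast, h, pow_two]

/-- A constituent has an embedding. -/
theorem exists_embedding {n : ℕ} (σ : Representation ℂ G (Fin n → ℂ))
    (h : classInner ρ.character σ.character ≠ 0) : ∃ f : IntertwiningMap σ ρ, f ≠ 0 := by
  rw [classInner_char_eq_finrank, Nat.cast_ne_zero] at h
  haveI := Module.nontrivial_of_finrank_pos (R := ℂ) (Nat.pos_of_ne_zero h)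
  exact exists_ne 0

omit [FiniteDimensional ℂ V] in
theorem funEnd_intertwining {W : Type*} [AddCommGroup W] [Module ℂ W] {σ : Representation ℂ G W}
    (f : IntertwiningMap σ ρ) (φ : G → ℂ) (v : W) :
    funEnd ρ φ (f v) = f (funEnd σ φ v) := by
  simp only [funEnd, LinearMap.sum_apply, LinearMap.smul_apply, map_sum, map_smul]
  refine Finset.sum_congr rfl fun g _ => ?_
  rw [f.isIntertwining]

omit [FiniteDimensional ℂ V] in
theorem funEnd_comm {A : Module.End ℂ V} (hA : Comm ρ A) (φ : G → ℂ) :
    A * funEnd ρ φ = funEnd ρ φ * A := by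
  simp only [funEnd, Finset.mul_sum, Finset.sum_mul, mul_smul_comm, smul_mul_assoc, hA _]

omit [Fintype G] [FiniteDimensional ℂ V] in
/-- Intertwining maps as commuting endomorphisms. -/
theorem comm_toLinearMap (f : IntertwiningMap ρ ρ) : Comm ρ f.toLinearMap := f.isIntertwining'

/-- The class function with coefficients `c`. -/
def classFn (c : IrrCharacter G → ℂ) : G → ℂ := fun g => ∑ χ, c χ * conj ((χ : G → ℂ) g)

theorem isClassFunction_classFn (c : IrrCharacter G → ℂ) : IsClassFunction G (classFn c) :=
  fun a b => by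
    simp only [classFn]
    exact Finset.sum_congr rfl fun χ _ => by rw [irr_isClassFunction χ a b]

theorem sum_classFn_mul (c : IrrCharacter G → ℂ) (ψ : IrrCharacter G) :
    ∑ g : G, classFn c g * (ψ : G → ℂ) g = (Nat.card G : ℂ) * c ψ := by
  have hG : (Nat.card G : ℂ) ≠ 0 := Nat.cast_ne_zero.mpr Nat.card_pos.ne'
  have h := classInner_irr_sum Finset.univ (fun χ => conj (c χ)) ψ
  rw [if_pos (Finset.mem_univ ψ), classInner, inv_mul_eq_iff_eq_mul₀ hG] at h
  have h' := congrArg conj h
  rw [map_mul, map_natCast, Complex.conj_conj, map_sum] at h'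
  rw [← h']
  refine Finset.sum_congr rfl fun g _ => ?_
  simp [classFn, Finset.sum_apply, map_sum, Finset.sum_mul, mul_comm, mul_left_comm]

/-- With multiplicities at most one every commuting endomorphism comes from a class function. -/
theorem exists_classFn (hmf : MultFree ρ.character) {A : Module.End ℂ V} (hA : Comm ρ A) :
    ∃ c : IrrCharacter G → ℂ,
      (∀ χ : IrrCharacter G, classInner ρ.character (χ : G → ℂ) = 0 → c χ = 0) ∧
      A = funEnd ρ (classFn c) := by
  obtain ⟨m, hm, hmult, hsq⟩ := exists_mult ρ
  set S := {χ : IrrCharacter G // m χ ≠ 0}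
  let ext : (S → ℂ) → (IrrCharacter G → ℂ) := fun c χ => if h : m χ ≠ 0 then c ⟨χ, h⟩ else 0
  let Φ : (S → ℂ) →ₗ[ℂ] IntertwiningMap ρ ρ :=
    { toFun := fun c => ⟨funEnd ρ (classFn (ext c)),
        fun g => funEnd_commute ρ (isClassFunction_classFn _) g⟩
      map_add' := fun c d => IntertwiningMap.ext (LinearMap.ext fun v => by
        simp only [funEnd, LinearMap.sum_apply, LinearMap.smul_apply]
        show _ = (funEnd ρ (classFn (ext c))) v + (funEnd ρ (classFn (ext d))) v
        simp only [funEnd, LinearMap.sum_apply, LinearMap.smul_apply, ← Finset.sum_add_distrib,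
          ← add_smul]
        refine Finset.sum_congr rfl fun g _ => congrArg (fun r : ℂ => r • ρ g v) ?_
        simp only [classFn, ← Finset.sum_add_distrib, ← add_mul]
        refine Finset.sum_congr rfl fun χ _ => congrArg (fun r : ℂ => r * _) ?_
        simp only [ext]
        split_ifs <;> simp)
      map_smul' := fun r c => IntertwiningMap.ext (LinearMap.ext fun v => by
        show _ = r • (funEnd ρ (classFn (ext c))) v
        simp only [funEnd, LinearMap.sum_apply, LinearMap.smul_apply, Finset.smul_sum, smul_smul]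
        refine Finset.sum_congr rfl fun g _ => congrArg (fun r : ℂ => r • ρ g v) ?_
        simp only [classFn, Finset.mul_sum, ← mul_assoc]
        refine Finset.sum_congr rfl fun χ _ => congrArg (fun r : ℂ => r * _) ?_
        by_cases h : m χ ≠ 0 <;> simp [ext, h]) }
  have hinj : Function.Injective Φ := by
    rw [← LinearMap.ker_eq_bot, LinearMap.ker_eq_bot']
    intro c hc
    funext ψ
    obtain ⟨⟨_, n, σ, hσ, rfl⟩, hψ⟩ := ψ
    haveI := hσ
    obtain ⟨f, hf⟩ := exists_embedding ρ σ (by
      rw [hmult ⟨_, n, σ, hσ, rfl⟩]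
      exact Nat.cast_ne_zero.mpr hψ)
    obtain ⟨v, hv⟩ : ∃ v, f v ≠ 0 := by
      by_contra hall
      simp only [not_exists, not_not] at hall
      exact hf (IntertwiningMap.ext (LinearMap.ext hall))
    have h0 : funEnd ρ (classFn (ext c)) (f v) = 0 :=
      LinearMap.congr_fun (congrArg IntertwiningMap.toLinearMap hc) (f v)
    rw [funEnd_intertwining, funEnd_eq_smul σ (isClassFunction_classFn _),
      sum_classFn_mul (ext c) ⟨_, n, σ, hσ, rfl⟩, LinearMap.smul_apply, Module.End.one_apply,
      map_smul, smul_eq_zero, div_eq_zero_iff, mul_eq_zero] at h0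
    rcases h0 with ((h0 | h0) | h0) | h0
    · exact absurd h0 (Nat.cast_ne_zero.mpr Nat.card_pos.ne')
    · simpa [ext, hψ] using h0
    · exact absurd h0 (Nat.cast_ne_zero.mpr (CfsgLib.CharScalar.finrank_pos σ).ne')
    · exact absurd h0 hv
  have hdim : Module.finrank ℂ (S → ℂ) = Module.finrank ℂ (IntertwiningMap ρ ρ) := by
    have h := classInner_char_eq_finrank ρ ρ
    rw [hsq, Nat.cast_inj] at h
    rw [Module.finrank_fintype_fun_eq_card, ← h, Fintype.card_subtype, Finset.card_filter]
    refine Finset.sum_congr rfl fun χ _ => ?_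
    rcases hmf χ χ.2 with e | e <;> rw [hmult] at e <;> norm_cast at e <;> simp [e]
  obtain ⟨c, hc⟩ := (LinearMap.injective_iff_surjective_of_finrank_eq_finrank hdim).mp hinj ⟨A, hA⟩
  refine ⟨ext c, fun χ hχ => ?_, (congrArg IntertwiningMap.toLinearMap hc).symm⟩
  rw [hmult, Nat.cast_eq_zero] at hχ
  simp [ext, hχ]

theorem comm_of_multFree (hmf : MultFree ρ.character) {A B : Module.End ℂ V} (hA : Comm ρ A)
    (hB : Comm ρ B) : A * B = B * A := by
  obtain ⟨c, -, rfl⟩ := exists_classFn ρ hmf hB
  exact funEnd_comm ρ hA _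

theorem multFree_of_comm
    (h : ∀ A B : Module.End ℂ V, Comm ρ A → Comm ρ B → A * B = B * A) :
    MultFree ρ.character := by
  rintro χ ⟨n, σ, hσ, rfl⟩
  by_cases h0 : classInner ρ.character σ.character = 0
  · exact Or.inl h0
  right
  haveI := hσ
  haveI : NeZero (Nat.card G : ℂ) := ⟨Nat.cast_ne_zero.mpr Nat.card_pos.ne'⟩
  obtain ⟨f, hf⟩ := exists_embedding ρ σ h0
  let U : Subrepresentation ρ :=
    ⟨LinearMap.range f.toLinearMap, fun g v hv => by
      obtain ⟨w, rfl⟩ := hv
      exact ⟨σ g w, IntertwiningMap.isIntertwining σ ρ f g w⟩⟩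
  have hker : LinearMap.ker f.toLinearMap = ⊥ := by
    refine (CfsgLib.CharScalar.eq_bot_or_eq_top σ (LinearMap.ker f.toLinearMap) fun g v hv => ?_).resolve_right
      fun e => hf (IntertwiningMap.ext (LinearMap.ker_eq_top.mp e))
    rw [LinearMap.mem_ker] at hv ⊢
    exact (IntertwiningMap.isIntertwining σ ρ f g v).trans (by rw [show f v = 0 from hv, map_zero])
  have hchar : U.toRepresentation.character = σ.character := by
    refine (Representation.char_iso (Representation.Equiv.mk
      (LinearEquiv.ofInjective f.toLinearMap (LinearMap.ker_eq_bot.mp hker)) fun g => ?_)).symm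
    exact LinearMap.ext fun w => Subtype.ext (IntertwiningMap.isIntertwining σ ρ f g w)
  obtain ⟨U', hU'⟩ := exists_isCompl U
  have hc : IsCompl U.toSubmodule U'.toSubmodule :=
    ⟨disjoint_iff.mpr (congrArg Subrepresentation.toSubmodule hU'.inf_eq_bot),
      codisjoint_iff.mpr (congrArg Subrepresentation.toSubmodule hU'.sup_eq_top)⟩
  set P := U.toSubmodule.projectionOnto U'.toSubmodule hc with hPdef
  let p : Module.End ℂ V := U.toSubmodule.subtype ∘ₗ P
  have hp : Comm ρ p := by
    intro g
    refine LinearMap.ext fun v => ?_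
    obtain ⟨⟨x, y⟩, rfl⟩ := (Submodule.prodEquivOfIsCompl _ _ hc).surjective v
    simp only [Submodule.coe_prodEquivOfIsCompl', Module.End.mul_apply, map_add]
    show (P (ρ g x) : V) + (P (ρ g y) : V) = ρ g (P x) + ρ g (P y)
    rw [hPdef, Submodule.projectionOnto_apply_left hc ⟨_, U.apply_mem_toSubmodule g x.2⟩,
      Submodule.projectionOnto_apply_right hc ⟨_, U'.apply_mem_toSubmodule g y.2⟩,
      Submodule.projectionOnto_apply_left hc x, Submodule.projectionOnto_apply_right hc y]
    simp
  have hzero : ∀ t : IntertwiningMap U.toRepresentation U'.toRepresentation, t = 0 := by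
    intro t
    let A : Module.End ℂ V := U'.toSubmodule.subtype ∘ₗ t.toLinearMap ∘ₗ P
    have hA : Comm ρ A := by
      intro g
      refine LinearMap.ext fun v => ?_
      have hP' : P (ρ g v) = U.toRepresentation g (P v) :=
        Subtype.ext (LinearMap.congr_fun (hp g) v)
      show ((t (P (ρ g v)) : U'.toSubmodule) : V) = ρ g (t (P v))
      rw [hP', t.isIntertwining]
      rfl
    refine IntertwiningMap.ext (LinearMap.ext fun x => Subtype.ext ?_)
    have h2 := LinearMap.congr_fun (h A p hA hp) (x : V)
    have e1 : P (x : V) = x := Submodule.projectionOnto_apply_left hc x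
    have e2 : P ((t x : U'.toSubmodule) : V) = 0 := Submodule.projectionOnto_apply_right hc _
    show ((t x : U'.toSubmodule) : V) = 0
    have h3 : ((t (P (P x : V)) : U'.toSubmodule) : V) = (P ((t (P (x : V)) : U'.toSubmodule) : V) : V) := h2
    simp only [e1, e2] at h3
    simpa using h3
  rw [character_of_isCompl ρ U U' hc, classInner_add_left, ← hchar,
    classInner_char_eq_finrank U.toRepresentation U'.toRepresentation,
    hchar, classInner_irr_self ⟨n, σ, hσ, rfl⟩]
  haveI : Subsingleton (IntertwiningMap U.toRepresentation U'.toRepresentation) :=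
    ⟨fun s t => (hzero s).trans (hzero t).symm⟩
  rw [Module.finrank_zero_of_subsingleton, Nat.cast_zero, add_zero]

omit [Fintype G] [FiniteDimensional ℂ V] in
theorem mem_invariants_iff (A : Module.End ℂ V) : A ∈ (ρ.linHom ρ).invariants ↔ Comm ρ A := by
  constructor
  · intro h g
    exact ((Representation.invariantsEquivIntertwiningMap ρ ρ) ⟨A, h⟩).isIntertwining' g
  · intro h
    exact ((Representation.invariantsEquivIntertwiningMap ρ ρ).symm ⟨A, h⟩).2

/-- Divisibility of the trace of an integral commuting endomorphism. -/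
theorem exists_integral_trace (f : ℕ) {A : Module.End ℂ V} (hA : Comm ρ A) (hint : IsIntegral ℤ A)
    (hdeg : ∀ χ : IrrCharacter G, classInner ρ.character (χ : G → ℂ) ≠ 0 →
      ∃ k : ℕ, (χ : G → ℂ) 1 = (f : ℂ) * k) :
    ∃ z : ℂ, IsIntegral ℤ z ∧ LinearMap.trace ℂ V A = (f : ℂ) * z := by
  induction hn : Module.finrank ℂ V using Nat.strong_induction_on generalizing V with
  | _ n ih =>
    rcases subsingleton_or_nontrivial V with hV | hV
    · exact ⟨0, isIntegral_zero, by rw [Subsingleton.elim A 0, map_zero, mul_zero]⟩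
    haveI : NeZero (Nat.card G : ℂ) := ⟨Nat.cast_ne_zero.mpr Nat.card_pos.ne'⟩
    obtain ⟨μ, hμ⟩ := Module.End.exists_eigenvalue A
    obtain ⟨P, hPm, hP⟩ := hint
    have hμint : IsIntegral ℤ μ := by
      obtain ⟨v, hv⟩ := hμ.exists_hasEigenvector
      refine ⟨P, hPm, ?_⟩
      have e := Module.End.aeval_apply_of_hasEigenvector (p := P.map (algebraMap ℤ ℂ)) hv
      rw [Polynomial.aeval_map_algebraMap, Polynomial.aeval_def, hP, LinearMap.zero_apply,
        Polynomial.eval_map, eq_comm, smul_eq_zero] at e
      exact e.resolve_right hv.2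
    let W : Subrepresentation ρ := ⟨A.eigenspace μ, fun g v hv => by
      rw [Module.End.mem_eigenspace_iff] at hv ⊢
      have := LinearMap.congr_fun (hA g) v
      rw [Module.End.mul_apply, Module.End.mul_apply, hv, map_smul] at this
      exact this⟩
    obtain ⟨W', hW'⟩ := exists_isCompl W
    have hc : IsCompl W.toSubmodule W'.toSubmodule :=
      ⟨disjoint_iff.mpr (congrArg Subrepresentation.toSubmodule hW'.inf_eq_bot),
        codisjoint_iff.mpr (congrArg Subrepresentation.toSubmodule hW'.sup_eq_top)⟩
    set q := W.toSubmodule.projectionOnto W'.toSubmodule hc with hqdef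
    set p := W'.toSubmodule.projectionOnto W.toSubmodule hc.symm with hpdef
    have hsum : ∀ v, (q v : V) + (p v : V) = v := fun v =>
      Submodule.projection_add_projection_eq_self hc v
    have hAW : ∀ x : W.toSubmodule, A (x : V) = μ • (x : V) := fun x =>
      Module.End.mem_eigenspace_iff.mp x.2
    set A' : Module.End ℂ W'.toSubmodule := p ∘ₗ A ∘ₗ W'.toSubmodule.subtype with hA'def
    have hpA : ∀ v, p (A v) = A' (p v) := by
      intro v
      conv_lhs => rw [← hsum v, map_add, map_add, hAW, map_smul,
        hpdef, Submodule.projectionOnto_apply_right hc.symm (q v), smul_zero, zero_add]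
      rfl
    have htr : LinearMap.trace ℂ V A = μ * (Module.finrank ℂ W.toSubmodule : ℂ)
        + LinearMap.trace ℂ W'.toSubmodule A' := by
      have e : A = W.toSubmodule.subtype ∘ₗ (q ∘ₗ A) + W'.toSubmodule.subtype ∘ₗ (p ∘ₗ A) :=
        LinearMap.ext fun v => (hsum (A v)).symm
      conv_lhs => rw [e]
      rw [map_add, LinearMap.trace_comp_comm', LinearMap.trace_comp_comm' (f := p ∘ₗ A)]
      congr 1
      rw [show (q ∘ₗ A) ∘ₗ W.toSubmodule.subtype = μ • (1 : Module.End ℂ W.toSubmodule) from
        LinearMap.ext fun x => by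
          show q (A x) = μ • x
          rw [hAW, map_smul, hqdef, Submodule.projectionOnto_apply_left hc x],
        CfsgLib.CharScalar.trace_smul_one]
    have hA' : Comm W'.toRepresentation A' := by
      intro g
      refine LinearMap.ext fun x => ?_
      have hp' : ∀ v, p (ρ g v) = W'.toRepresentation g (p v) := by
        intro v
        conv_lhs => rw [← hsum v, map_add, map_add, hpdef,
          Submodule.projectionOnto_apply_right hc.symm ⟨_, W.apply_mem_toSubmodule g (q v).2⟩,
          Submodule.projectionOnto_apply_left hc.symm ⟨_, W'.apply_mem_toSubmodule g (p v).2⟩,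
          zero_add]
        rfl
      show p (A (ρ g x)) = W'.toRepresentation g (p (A x))
      rw [← hp']
      exact congrArg p (LinearMap.congr_fun (hA g) (x : V))
    have hint' : IsIntegral ℤ A' := by
      refine ⟨P, hPm, LinearMap.ext fun x => ?_⟩
      have h : ∀ Q : Polynomial ℤ, ∀ v, p (Polynomial.aeval A Q v) = Polynomial.aeval A' Q (p v) := by
        intro Q
        induction Q using Polynomial.induction_on with
        | C a => intro v; simp [Module.algebraMap_end_apply]
        | add Q R hQ hR => intro v; simp [hQ, hR]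
        | monomial k a ih' =>
          intro v
          rw [pow_succ, ← mul_assoc, map_mul, Polynomial.aeval_X, Module.End.mul_apply, ih', hpA,
            map_mul (Polynomial.aeval A') (Polynomial.C a * Polynomial.X ^ k), Polynomial.aeval_X, Module.End.mul_apply]
      have h2 := h P (x : V)
      rw [hpdef, Submodule.projectionOnto_apply_left hc.symm x] at h2
      rw [← hpdef] at h2
      show Polynomial.aeval A' P x = 0
      rw [← h2, Polynomial.aeval_def, hP, LinearMap.zero_apply, map_zero]
    have hsub : ∀ χ : IrrCharacter G,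
        classInner W.toRepresentation.character (χ : G → ℂ) ≠ 0 ∨
        classInner W'.toRepresentation.character (χ : G → ℂ) ≠ 0 →
        classInner ρ.character (χ : G → ℂ) ≠ 0 := by
      intro χ hχ
      obtain ⟨m1, -, hm1, -⟩ := exists_mult W.toRepresentation
      obtain ⟨m2, -, hm2, -⟩ := exists_mult W'.toRepresentation
      rw [character_of_isCompl ρ W W' hc, classInner_add_left, hm1, hm2, ← Nat.cast_add,
        Nat.cast_ne_zero]
      rw [hm1, hm2, Nat.cast_ne_zero, Nat.cast_ne_zero] at hχ
      omega
    have hWdim : ∃ k : ℕ, (Module.finrank ℂ W.toSubmodule : ℂ) = (f : ℂ) * k := by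
      obtain ⟨m1, hd1, hm1, -⟩ := exists_mult W.toRepresentation
      have hk : ∀ χ : IrrCharacter G, ∃ k : ℕ, (m1 χ : ℂ) * (χ : G → ℂ) 1 = (f : ℂ) * k := by
        intro χ
        by_cases h0 : m1 χ = 0
        · exact ⟨0, by simp [h0]⟩
        · obtain ⟨k, hk⟩ := hdeg χ (hsub χ (Or.inl (by rw [hm1]; exact Nat.cast_ne_zero.mpr h0)))
          exact ⟨m1 χ * k, by rw [hk]; push_cast; ring⟩
      choose k hk using hk
      refine ⟨∑ χ, k χ, ?_⟩
      rw [← Representation.char_one (ρ := W.toRepresentation), hd1, Finset.sum_apply, Nat.cast_sum,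
        Finset.mul_sum]
      exact Finset.sum_congr rfl fun χ _ => by rw [Pi.smul_apply, smul_eq_mul, hk]
    obtain ⟨k, hk⟩ := hWdim
    have hlt : Module.finrank ℂ W'.toSubmodule < n := by
      have := Submodule.finrank_add_eq_of_isCompl hc
      have hWpos : 0 < Module.finrank ℂ W.toSubmodule := Module.finrank_pos_iff.mpr
        (Submodule.nontrivial_iff_ne_bot.mpr hμ)
      omega
    obtain ⟨z, hz, hztr⟩ := ih _ hlt W'.toRepresentation hA' hint'
      (fun χ hχ => hdeg χ (hsub χ (Or.inr hχ))) rfl
    refine ⟨μ * k + z, (hμint.mul (isIntegral_natCast (R := ℤ) k)).add hz, ?_⟩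
    rw [htr, hztr, hk]
    ring

end CfsgLib.PermSmall.Centraliser
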