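import Cfsg.Agent.Lib.PermSmall.Zassenhaus
import Cfsg.Agent.Lib.PermSmall.Moebius
import Mathlib.Algebra.Field.TransferInstance
import Mathlib.Algebra.Group.Hom.End
import Mathlib.RingTheory.LittleWedderburn

/-!
Coordinates over a finite field for a group action in which a point stabiliser has an abelian
regular normal subgroup `F` and an abelian two-point stabiliser acting irreducibly on `F`.
-/

namespace CfsgLib.PermSmall.Coordinates

open MulAction OnePoint
open CfsgLib.PermSmall.Zassenhaus (pairStab)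
open CfsgLib.PermSmall.Moebius (affinePerm)

/-- The action of `G` transported along `e`. -/
def transport {G Ω : Type*} [Group G] [MulAction G Ω] {K : Type*} (e : OnePoint K ≃ Ω) :
    G →* Equiv.Perm (OnePoint K) :=
  (e.symm.permCongrHom.toMonoidHom).comp (MulAction.toPermHom G Ω)

@[simp] theorem transport_apply {G Ω : Type*} [Group G] [MulAction G Ω] {K : Type*}
    (e : OnePoint K ≃ Ω) (g : G) (x : OnePoint K) : transport e g x = e.symm (g • e x) := rfl

theorem transport_injective {G Ω : Type*} [Group G] [MulAction G Ω] [FaithfulSMul G Ω] {K : Type*}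
    (e : OnePoint K ≃ Ω) : Function.Injective (transport (G := G) e) := fun g h hgh =>
  eq_of_smul_eq_smul (α := Ω) fun y => by
    have := congrArg (fun σ : Equiv.Perm (OnePoint K) => e (σ (e.symm y))) hgh
    simpa using this

/-- Coordinates: a finite field `K`, a bijection of the projective line over `K` with `Ω`, and a
group `A` of units such that the stabiliser of `a` becomes the group of maps `x ↦ t * x + β`,
`t ∈ A`. -/
structure Coord (G : Type*) {Ω : Type*} [Group G] [MulAction G Ω] (a b c : Ω) where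
  K : Type
  [field : Field K]
  [fintype : Fintype K]
  [decEq : DecidableEq K]
  e : OnePoint K ≃ Ω
  e_infty : e ∞ = a
  e_zero : e ((0 : K) : OnePoint K) = b
  e_one : e ((1 : K) : OnePoint K) = c
  A : Subgroup Kˣ
  card_A : Nat.card A = Nat.card (pairStab G a b)
  mem_pairStab : ∀ h ∈ pairStab G a b, ∃ t ∈ A, ∀ k : K,
    h • e (k : OnePoint K) = e (((t : K) * k : K) : OnePoint K)
  exists_pairStab : ∀ t ∈ A, ∃ h ∈ pairStab G a b, ∀ k : K,
    h • e (k : OnePoint K) = e (((t : K) * k : K) : OnePoint K)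
  stab_iff : ∀ σ : Equiv.Perm (OnePoint K), σ ∞ = ∞ →
    (σ ∈ (transport (G := G) e).range ↔ ∃ t ∈ A, ∃ β, σ = affinePerm t β)

attribute [instance] Coord.field Coord.fintype Coord.decEq

theorem exists_coord {G Ω : Type*} [Group G] [Finite G] [MulAction G Ω] [Fintype Ω]
    [FaithfulSMul G Ω] {a b c : Ω} (hab : a ≠ b) (hac : a ≠ c) (hbc : b ≠ c)
    (hthree : ∀ g ∈ pairStab G a b, g • c = c → g = 1)
    (F : Subgroup G) (hFle : F ≤ stabilizer G a)
    (hFn : (F.subgroupOf (stabilizer G a)).Normal) (hFc : IsMulCommutative F)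
    (hreg : ∀ y z : Ω, y ≠ a → z ≠ a → ∃! u : F, (u : G) • y = z)
    (hHc : IsMulCommutative (pairStab G a b))
    (hirr : ∀ M : Subgroup G, M ≤ F → (∀ g ∈ pairStab G a b, ∀ u ∈ M, g * u * g⁻¹ ∈ M) →
      (∃ u ∈ M, u ≠ 1) → M = F) :
    Nonempty (Coord G a b c) := by
  classical
  set H := pairStab G a b with hH
  have hcommF : ∀ u v : F, u * v = v * u := fun u v => hFc.is_comm.comm u v
  have hnorm : ∀ g ∈ H, ∀ u ∈ F, g * u * g⁻¹ ∈ F := fun g hg u hu =>
    hFn.conj_mem ⟨u, hFle hu⟩ hu ⟨g, hg.1⟩
  letI : CommGroup F := { (inferInstance : Group F) with mul_comm := hcommF }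
  let ρ : H →* AddMonoid.End (Additive F) :=
    { toFun := fun h =>
        { toFun := fun v => Additive.ofMul
            ⟨(h : G) * ((Additive.toMul v : F) : G) * (h : G)⁻¹, hnorm h h.2 _ (Additive.toMul v).2⟩
          map_zero' := Additive.toMul.injective (Subtype.ext (by simp))
          map_add' := fun v w => Additive.toMul.injective (Subtype.ext (by
            show (h : G) * (((Additive.toMul v : F) : G) * ((Additive.toMul w : F) : G)) * (h : G)⁻¹
              = ((h : G) * ((Additive.toMul v : F) : G) * (h : G)⁻¹)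
                * ((h : G) * ((Additive.toMul w : F) : G) * (h : G)⁻¹)
            group)) }
      map_one' := by
        refine DFunLike.ext _ _ fun v => Additive.toMul.injective (Subtype.ext ?_)
        show ((1 : H) : G) * _ * ((1 : H) : G)⁻¹ = _
        simp
      map_mul' := fun h k => by
        refine DFunLike.ext _ _ fun v => Additive.toMul.injective (Subtype.ext ?_)
        show ((h * k : H) : G) * _ * ((h * k : H) : G)⁻¹ = (h : G) * ((k : G) * _ * (k : G)⁻¹) * (h : G)⁻¹
        simp [mul_assoc] }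
  have hρ : ∀ (h : H) (v : Additive F), ((Additive.toMul (ρ h v) : F) : G)
      = (h : G) * ((Additive.toMul v : F) : G) * (h : G)⁻¹ := fun h v => rfl
  let R : Subring (AddMonoid.End (Additive F)) := Subring.closure (Set.range ρ)
  letI : CommRing R := Subring.closureCommRingOfComm (by
    rintro _ ⟨h, rfl⟩ _ ⟨k, rfl⟩
    rw [← map_mul, ← map_mul, hHc.is_comm.comm h k])
  have hρR : ∀ h : H, ρ h ∈ R := fun h => Subring.subset_closure ⟨h, rfl⟩
  have hRcomm : ∀ r : R, ∀ h : H, ∀ v, (r : AddMonoid.End (Additive F)) (ρ h v) = ρ h (r.1 v) := by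
    intro r h v
    exact DFunLike.congr_fun (congrArg Subtype.val (mul_comm r ⟨ρ h, hρR h⟩)) v
  -- an element of `R` killing a non-zero vector is zero
  have hkill : ∀ r : R, ∀ v : Additive F, v ≠ 0 → (r : AddMonoid.End (Additive F)) v = 0 → r = 0 := by
    intro r v hv hrv
    let M : Subgroup G :=
      { carrier := {g | ∃ w : Additive F, r.1 w = 0 ∧ ((Additive.toMul w : F) : G) = g}
        one_mem' := ⟨0, map_zero _, rfl⟩
        mul_mem' := by
          rintro _ _ ⟨w, hw, rfl⟩ ⟨w', hw', rfl⟩
          exact ⟨w + w', by rw [map_add, hw, hw', add_zero], rfl⟩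
        inv_mem' := by
          rintro _ ⟨w, hw, rfl⟩
          exact ⟨-w, by rw [map_neg, hw, neg_zero], rfl⟩ }
    have hM := hirr M (by rintro _ ⟨w, -, rfl⟩; exact (Additive.toMul w).2) (by
        rintro g hg _ ⟨w, hw, rfl⟩
        exact ⟨ρ ⟨g, hg⟩ w, by rw [hRcomm, hw, map_zero], rfl⟩)
      ⟨_, ⟨v, hrv, rfl⟩, fun e => hv (Additive.toMul.injective (Subtype.ext e))⟩
    apply Subtype.ext
    refine DFunLike.ext _ _ fun w => ?_
    obtain ⟨w', hw', e⟩ := (hM.symm ▸ (Additive.toMul w).2 : ((Additive.toMul w : F) : G) ∈ M)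
    rw [← Additive.toMul.injective (Subtype.ext e)]
    exact hw'
  obtain ⟨uc, huc, -⟩ := hreg b c (Ne.symm hab) (Ne.symm hac)
  have huc0 : Additive.ofMul uc ≠ 0 := by
    intro e
    have e' : uc = 1 := congrArg Additive.toMul e
    apply hbc
    rw [← huc, e']
    exact (one_smul G b).symm
  haveI : Nontrivial R := by
    refine ⟨⟨1, 0, fun e => huc0 ?_⟩⟩
    have := congrArg (fun r : R => (r : AddMonoid.End (Additive F)) (Additive.ofMul uc)) e
    simpa using this
  haveI : NoZeroDivisors R := by
    refine ⟨fun {r s} hrs => ?_⟩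
    by_cases hs : s = 0
    · exact Or.inr hs
    left
    obtain ⟨v, hv⟩ : ∃ v, (s : AddMonoid.End (Additive F)) v ≠ 0 := by
      by_contra hall
      simp only [not_exists, not_not] at hall
      exact hs (Subtype.ext (DFunLike.ext _ _ hall))
    exact hkill r _ hv (DFunLike.congr_fun (congrArg Subtype.val hrs) v)
  haveI : IsDomain R := NoZeroDivisors.to_isDomain R
  have hinj : Function.Injective fun r : R => (r : AddMonoid.End (Additive F)) (Additive.ofMul uc) := by
    intro r s e
    rw [← sub_eq_zero]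
    refine hkill _ _ huc0 ?_
    show r.1 (Additive.ofMul uc) - s.1 (Additive.ofMul uc) = 0
    rw [show r.1 (Additive.ofMul uc) = s.1 (Additive.ofMul uc) from e, sub_self]
  haveI : Finite R := Finite.of_injective _ hinj
  have hsurj : Function.Surjective fun r : R => (r : AddMonoid.End (Additive F)) (Additive.ofMul uc) := by
    let M : Subgroup G :=
      { carrier := {g | ∃ r : R, ((Additive.toMul (r.1 (Additive.ofMul uc)) : F) : G) = g}
        one_mem' := ⟨0, rfl⟩
        mul_mem' := by rintro _ _ ⟨r, rfl⟩ ⟨s, rfl⟩; exact ⟨r + s, rfl⟩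
        inv_mem' := by rintro _ ⟨r, rfl⟩; exact ⟨-r, rfl⟩ }
    have hM := hirr M (by rintro _ ⟨r, rfl⟩; exact SetLike.coe_mem _) (by
        rintro g hg _ ⟨r, rfl⟩
        exact ⟨⟨ρ ⟨g, hg⟩, hρR _⟩ * r, rfl⟩)
      ⟨(uc : G), ⟨1, rfl⟩, fun e => huc0 (congrArg Additive.ofMul (Subtype.ext e : uc = 1))⟩
    intro w
    obtain ⟨r, hr⟩ := (hM.symm ▸ (Additive.toMul w).2 : ((Additive.toMul w : F) : G) ∈ M)
    exact ⟨r, Additive.toMul.injective (Subtype.ext hr)⟩
  letI : Field R := (Finite.isDomain_to_isField R).toField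
  -- the field of coordinates
  obtain ⟨K, ⟨idx⟩⟩ : ∃ K : Type, Nonempty (R ≃ K) := ⟨_, ⟨Finite.equivFin R⟩⟩
  haveI : Finite K := Finite.of_equiv R idx
  letI : Fintype K := Fintype.ofFinite K
  letI : Field K := idx.symm.field
  let ι : K ≃+* R := idx.symm.ringEquiv
  let u : K → F := fun k => Additive.toMul ((ι k : R).1 (Additive.ofMul uc))
  have hu_add : ∀ k l, u (k + l) = u k * u l := fun k l => by
    simp only [u, map_add]
    rfl
  have hu0 : u 0 = 1 := by simp [u]
  have hu1 : u 1 = uc := by simp [u]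
  have hu_bij : Function.Bijective u :=
    (Additive.toMul.bijective.comp ⟨hinj, hsurj⟩).comp ι.bijective
  let χ : H →* Kˣ := MonoidHom.toHomUnits
    { toFun := fun h => ι.symm ⟨ρ h, hρR h⟩
      map_one' := by
        rw [show (⟨ρ 1, hρR 1⟩ : R) = 1 from Subtype.ext (map_one ρ), map_one]
      map_mul' := fun h k => by
        rw [← map_mul]; exact congrArg ι.symm (Subtype.ext (map_mul ρ h k)) }
  have hu_mul : ∀ (h : H) (k : K),
      (u ((χ h : K) * k) : G) = (h : G) * (u k : G) * (h : G)⁻¹ := by
    intro h k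
    have : ι ((χ h : K) * k) = (⟨ρ h, hρR h⟩ : R) * ι k := by
      rw [map_mul]
      congr 1
      exact ι.apply_symm_apply _
    simp only [u, this]
    rfl
  let toΩ : OnePoint K → Ω := fun x => x.elim a fun k => (u k : G) • b
  have hne_a : ∀ k : K, (u k : G) • b ≠ a := fun k e => hab (by
    have := e.trans (hFle (u k).2 : (u k : G) • a = a).symm
    exact (smul_left_cancel _ this).symm)
  have hbij : Function.Bijective toΩ := by
    constructor
    · intro x y e
      cases x <;> cases y <;> simp only [toΩ, OnePoint.elim_infty, OnePoint.elim_some] at e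
      · rfl
      · exact absurd e.symm (hne_a _)
      · exact absurd e (hne_a _)
      · rename_i k l
        obtain ⟨w, -, huniq⟩ := hreg b ((u l : G) • b) (Ne.symm hab) (hne_a l)
        exact congrArg _ (hu_bij.1 ((huniq _ e).trans (huniq _ rfl).symm))
    · intro y
      by_cases hy : y = a
      · exact ⟨∞, hy.symm⟩
      · obtain ⟨w, hw, -⟩ := hreg b y (Ne.symm hab) hy
        obtain ⟨k, rfl⟩ := hu_bij.2 w
        exact ⟨(k : OnePoint K), hw⟩
  let e : OnePoint K ≃ Ω := Equiv.ofBijective toΩ hbij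
  have he : ∀ k : K, e (k : OnePoint K) = (u k : G) • b := fun k => rfl
  have he_inf : e ∞ = a := rfl
  have hact : ∀ (h : H) (k : K), (h : G) • e (k : OnePoint K) = e ((((χ h : K) * k : K)) : OnePoint K) := by
    intro h k
    rw [he, he, hu_mul, mul_smul, mul_smul, inv_smul_eq_iff.mpr (h.2.2 : (h : G) • b = b).symm]
  have hform : ∀ (β : K) (h : H) (x : OnePoint K),
      ((u β : G) * (h : G)) • e x = e (affinePerm (χ h) β x) := by
    intro β h x
    cases x with
    | infty =>
      rw [Moebius.affinePerm_infty, he_inf, mul_smul, (h.2.1 : (h : G) • a = a),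
        (hFle (u β).2 : (u β : G) • a = a)]
    | coe k =>
      rw [Moebius.affinePerm_coe, mul_smul, hact, he, he, ← mul_smul, add_comm _ β, hu_add,
        Subgroup.coe_mul]
  have hdecomp : ∀ g : G, g • a = a → ∃ (β : K) (h : H), g = (u β : G) * (h : G) := by
    intro g hg
    have hgb : g • b ≠ a := fun e' => hab (smul_left_cancel g (e'.trans hg.symm)).symm
    obtain ⟨w, hw, -⟩ := hreg b (g • b) (Ne.symm hab) hgb
    obtain ⟨β, rfl⟩ := hu_bij.2 w
    refine ⟨β, ⟨(u β : G)⁻¹ * g, ?_, ?_⟩, by simp⟩
    · show ((u β : G)⁻¹ * g) • a = a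
      rw [mul_smul, hg, inv_smul_eq_iff, (hFle (u β).2 : (u β : G) • a = a)]
    · show ((u β : G)⁻¹ * g) • b = b
      rw [mul_smul, inv_smul_eq_iff]
      exact hw.symm
  have hχinj : Function.Injective χ := by
    rw [injective_iff_map_eq_one]
    intro h hh
    refine Subtype.ext (hthree h h.2 ?_)
    have := hact h 1
    rwa [hh, Units.val_one, one_mul, he, hu1, huc] at this
  refine ⟨{ K := K, e := e, e_infty := he_inf,
            e_zero := by rw [he, hu0]; exact one_smul G b,
            e_one := by rw [he, hu1, huc],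
            A := χ.range,
            card_A := (Nat.card_congr (MonoidHom.ofInjective hχinj).toEquiv).symm,
            mem_pairStab := fun h hh => ⟨χ ⟨h, hh⟩, ⟨_, rfl⟩, fun k => hact ⟨h, hh⟩ k⟩,
            exists_pairStab := ?_,
            stab_iff := ?_ }⟩
  · rintro _ ⟨h, rfl⟩
    exact ⟨h, h.2, hact h⟩
  · intro σ hσ
    constructor
    · rintro ⟨g, rfl⟩
      have hga : g • a = a := by
        have := congrArg e hσ
        rwa [transport_apply, Equiv.apply_symm_apply, he_inf] at this
      obtain ⟨β, h, rfl⟩ := hdecomp g hga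
      refine ⟨χ h, ⟨h, rfl⟩, β, Equiv.ext fun x => ?_⟩
      rw [transport_apply, hform, Equiv.symm_apply_apply]
    · rintro ⟨_, ⟨h, rfl⟩, β, rfl⟩
      exact ⟨(u β : G) * h, Equiv.ext fun x => by
        rw [transport_apply, hform, Equiv.symm_apply_apply]⟩

end CfsgLib.PermSmall.Coordinates
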