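import Cfsg.Agent.Lib.PermSmall.FeitDual
import Cfsg.Agent.Lib.PermSmall.Kernel
import Cfsg.Agent.Lib.Characters.Induction
import Cfsg.Agent.Lib.Characters.Generalized
import Cfsg.Agent.Lib.Characters.NormalRes

/-!
The characters of a Zassenhaus group induced from linear characters of a point stabiliser.
-/

set_option autoImplicit false

noncomputable section

namespace CfsgLib.PermSmall.FeitFrame

open MulAction Cfsg CfsgLib.Characters
open CfsgLib.PermSmall.Zassenhaus (pairStab)
open CfsgLib.PermSmall.FeitDual (fn)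
open scoped ComplexConjugate
open scoped Classical

universe u

/-- A Zassenhaus group with a regular normal subgroup of the stabiliser of `a` and an abelian
two-point stabiliser of odd order inverted by the elements exchanging the two points. -/
structure Frame (G : Type u) {Ω : Type*} [Group G] [MulAction G Ω] (a b : Ω) where
  ne : a ≠ b
  three : ∀ g : G, ∀ x y z : Ω, x ≠ y → y ≠ z → x ≠ z → g • x = x → g • y = y → g • z = z → g = 1
  swap : G
  swap_a : swap • a = b
  swap_b : swap • b = a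
  F : Subgroup G
  F_le : F ≤ stabilizer G a
  F_norm : ∀ g, g • a = a → ∀ u ∈ F, g * u * g⁻¹ ∈ F
  regular : ∀ y z : Ω, y ≠ a → z ≠ a → ∃! u : F, (u : G) • y = z
  H_comm : IsMulCommutative (pairStab G a b)
  odd : Odd (Nat.card (pairStab G a b))
  inv : ∀ s : G, s • a = b → s • b = a → ∀ h ∈ pairStab G a b, s * h * s⁻¹ = h⁻¹

theorem hom_mul_inv_eq_one {A : Type*} [Group A] (l k : A →* ℂˣ) : l * k⁻¹ = 1 ↔ l = k := by
  simp [MonoidHom.ext_iff, mul_inv_eq_one]

theorem hom_mul_eq_one {A : Type*} [Group A] (l k : A →* ℂˣ) : l * k = 1 ↔ l = k⁻¹ := by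
  simp [MonoidHom.ext_iff, mul_eq_one_iff_eq_inv]

theorem hom_inv_eq_one {A : Type*} [Group A] (l : A →* ℂˣ) : l⁻¹ = 1 ↔ l = 1 := by
  simp [MonoidHom.ext_iff]

namespace Frame

variable {G : Type u} {Ω : Type*} [Group G] [MulAction G Ω] {a b : Ω} (T : Frame G a b)
include T

/-- The stabiliser of `a`. -/
abbrev M (_T : Frame G a b) : Subgroup G := stabilizer G a

/-- The two-point stabiliser. -/
abbrev H (_T : Frame G a b) : Subgroup G := pairStab G a b

theorem smul_b_ne {m : G} (hm : m • a = a) : m • b ≠ a := fun e =>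
  T.ne (smul_left_cancel m (hm.trans e.symm))

/-- The translation part. -/
def tr (m : T.M) : T.F := Classical.choose (T.regular b ((m : G) • b) (Ne.symm T.ne) (T.smul_b_ne m.2))

theorem tr_spec (m : T.M) : (T.tr m : G) • b = (m : G) • b :=
  (Classical.choose_spec (T.regular b ((m : G) • b) (Ne.symm T.ne) (T.smul_b_ne m.2))).1

theorem tr_unique (m : T.M) {u : G} (hu : u ∈ T.F) (h : u • b = (m : G) • b) : (T.tr m : G) = u :=
  Kernel.regular_inj T.ne T.F_le T.regular (T.tr m).2 hu ((T.tr_spec m).trans h.symm)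

theorem tr_inv_mul_mem (m : T.M) : (T.tr m : G)⁻¹ * m ∈ T.H :=
  Zassenhaus.mem_pairStab.mpr ⟨by
    rw [mul_smul, show (m : G) • a = a from m.2, inv_smul_eq_iff,
      show (T.tr m : G) • a = a from T.F_le (T.tr m).2], by
    rw [mul_smul, ← T.tr_spec, inv_smul_smul]⟩

/-- The projection of the stabiliser of `a` on the two-point stabiliser. -/
def proj : T.M →* T.H where
  toFun m := ⟨(T.tr m : G)⁻¹ * m, T.tr_inv_mul_mem m⟩
  map_one' := Subtype.ext (by
    show (T.tr 1 : G)⁻¹ * ((1 : T.M) : G) = 1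
    rw [T.tr_unique 1 (one_mem _) (by simp)]
    simp)
  map_mul' m k := Subtype.ext (by
    show (T.tr (m * k) : G)⁻¹ * ((m : G) * k)
      = ((T.tr m : G)⁻¹ * m) * ((T.tr k : G)⁻¹ * k)
    have hk := (Zassenhaus.mem_pairStab.mp (T.tr_inv_mul_mem m))
    rw [T.tr_unique (m * k) (u := (T.tr m : G) * (((T.tr m : G)⁻¹ * m) * (T.tr k : G) * ((T.tr m : G)⁻¹ * m)⁻¹))
      (mul_mem (T.tr m).2 (T.F_norm _ hk.1 _ (T.tr k).2)) ?_]
    · group
    · rw [mul_smul, mul_smul, mul_smul, inv_smul_eq_iff.mpr hk.2.symm, T.tr_spec k]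
      show _ = ((m : G) * k) • b
      rw [mul_smul, mul_smul, smul_inv_smul])

theorem proj_coe (m : T.M) : (T.proj m : G) = (T.tr m : G)⁻¹ * m := rfl

theorem proj_F {m : T.M} (hm : (m : G) ∈ T.F) : T.proj m = 1 :=
  Subtype.ext (by rw [proj_coe, T.tr_unique m hm rfl, inv_mul_cancel]; rfl)

theorem mem_F_of_proj {m : T.M} (hm : T.proj m = 1) : (m : G) ∈ T.F := by
  have := congrArg Subtype.val hm
  rw [proj_coe, OneMemClass.coe_one, inv_mul_eq_one] at this
  exact this ▸ (T.tr m).2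

theorem proj_H {m : T.M} (hm : (m : G) ∈ T.H) : (T.proj m : G) = m := by
  rw [proj_coe, T.tr_unique m (one_mem _) (by rw [one_smul]; exact hm.2.symm), inv_one, one_mul]

/-- The stabiliser of `a` as pairs. -/
def split : T.M ≃ T.F × T.H where
  toFun m := (T.tr m, T.proj m)
  invFun x := ⟨(x.1 : G) * (x.2 : G), mul_mem (T.F_le x.1.2) x.2.2.1⟩
  left_inv m := Subtype.ext (by show (T.tr m : G) * ((T.tr m : G)⁻¹ * m) = m; group)
  right_inv x := by
    have h : (T.tr ⟨(x.1 : G) * (x.2 : G), mul_mem (T.F_le x.1.2) x.2.2.1⟩ : G) = x.1 :=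
      T.tr_unique _ x.1.2 (by rw [mul_smul, show (x.2 : G) • b = b from x.2.2.2])
    refine Prod.ext (Subtype.ext h) (Subtype.ext ?_)
    rw [proj_coe, h, inv_mul_cancel_left]

theorem card_M [Finite G] : Nat.card T.M = Nat.card T.F * Nat.card T.H := by
  rw [Nat.card_congr T.split, Nat.card_prod]

theorem transitive (x : Ω) : ∃ g : G, g • a = x := by
  by_cases hx : x = a
  · exact ⟨1, by rw [hx, one_smul]⟩
  · obtain ⟨u, hu, -⟩ := T.regular b x (Ne.symm T.ne) hx
    exact ⟨(u : G) * T.swap, by rw [mul_smul, T.swap_a, hu]⟩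

theorem card_F [Finite G] [Fintype Ω] : Nat.card T.F = Fintype.card Ω - 1 :=
  Kernel.card_regular T.ne T.F_le T.regular

theorem index_M [Finite G] [Fintype Ω] : T.M.index = Fintype.card Ω := by
  haveI : IsPretransitive G Ω := ⟨fun x y => by
    obtain ⟨g, hg⟩ := T.transitive x
    obtain ⟨k, hk⟩ := T.transitive y
    exact ⟨k * g⁻¹, by rw [mul_smul, inv_smul_eq_iff.mpr hg.symm, hk]⟩⟩
  rw [index_stabilizer_of_transitive, Nat.card_eq_fintype_card]

theorem two_le_card [Fintype Ω] : 2 ≤ Fintype.card Ω :=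
  Fintype.one_lt_card_iff.mpr ⟨a, b, T.ne⟩

theorem card_G [Finite G] [Fintype Ω] :
    Nat.card G = Nat.card T.M + Nat.card T.F * Nat.card T.M := by
  rw [← T.M.index_mul_card, index_M, T.card_F]
  obtain ⟨k, hk⟩ : ∃ k, Fintype.card Ω = k + 1 := ⟨_, (Nat.sub_add_cancel (T.two_le_card.trans' one_le_two)).symm⟩
  rw [hk, Nat.add_sub_cancel]
  ring

/-- Conjugating elements of the point stabiliser into it by elements outside it. -/
theorem conj_proj {x : G} (hx : x • a ≠ a) (m : T.M) (hm : (m : G) • x • a = x • a) :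
    ∃ hy : x⁻¹ * (m : G) * x ∈ T.M, T.proj ⟨_, hy⟩ = (T.proj m)⁻¹ := by
  have hy : x⁻¹ * (m : G) * x ∈ T.M := by
    rw [mem_stabilizer_iff, mul_smul, mul_smul, hm, inv_smul_smul]
  refine ⟨hy, ?_⟩
  obtain ⟨u, hu, -⟩ := T.regular b (x • a) (Ne.symm T.ne) hx
  have hua : (u : G) • a = a := T.F_le u.2
  have hh : (u : G)⁻¹ * m * u ∈ T.H := Zassenhaus.mem_pairStab.mpr
    ⟨by rw [mul_smul, mul_smul, hua, show (m : G) • a = a from m.2, inv_smul_eq_iff, hua],
     by rw [mul_smul, mul_smul, hu, hm, inv_smul_eq_iff, hu]⟩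
  set s := T.swap
  have hk : s⁻¹ * (u : G)⁻¹ * x ∈ T.M := by
    rw [mem_stabilizer_iff, mul_smul, mul_smul, ← hu, inv_smul_smul, inv_smul_eq_iff, T.swap_a]
  let k : T.M := ⟨_, hk⟩
  let h' : T.M := ⟨(u : G)⁻¹ * m * u, hh.1⟩
  let u' : T.M := ⟨u, hua⟩
  have hsinv : s⁻¹ * ((u : G)⁻¹ * m * u) * s = ((u : G)⁻¹ * m * u)⁻¹ := by
    have := T.inv s⁻¹ (by rw [inv_smul_eq_iff, T.swap_b]) (by rw [inv_smul_eq_iff, T.swap_a]) _ hh
    rwa [inv_inv] at this
  have e : (⟨x⁻¹ * (m : G) * x, hy⟩ : T.M) = k⁻¹ * h'⁻¹ * k := by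
    refine Subtype.ext ?_
    show x⁻¹ * (m : G) * x = (s⁻¹ * (u : G)⁻¹ * x)⁻¹ * ((u : G)⁻¹ * m * u)⁻¹ * (s⁻¹ * (u : G)⁻¹ * x)
    rw [← hsinv]
    group
  have e2 : h' = u'⁻¹ * m * u' := Subtype.ext rfl
  haveI := T.H_comm
  have hu1 : T.proj u' = 1 := T.proj_F u.2
  rw [e, map_mul, map_mul, map_inv, map_inv, e2, map_mul, map_mul, map_inv, hu1, inv_one, one_mul,
    mul_one, T.H_comm.is_comm.comm ((T.proj k)⁻¹) ((T.proj m)⁻¹), inv_mul_cancel_right]

/-- The elements of the point stabiliser fixing another point are in bijection with `H`. -/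
theorem sum_fix_point [Fintype G] {c : Ω} (hc : c ≠ a) (f : T.H → ℂ) :
    (∑ m : T.M, if (m : G) • c = c then f (T.proj m) else 0) = ∑ h : T.H, f h := by
  rw [← Finset.sum_filter]
  refine Finset.sum_bij (fun m _ => T.proj m) (fun _ _ => Finset.mem_univ _) ?_ ?_ (fun _ _ => rfl)
  · intro m hm k hk e
    rw [Finset.mem_filter] at hm hk
    have hF := T.mem_F_of_proj (m := k⁻¹ * m) (by rw [map_mul, map_inv, e, inv_mul_cancel])
    have hfix : ((k⁻¹ * m : T.M) : G) • c = c := by
      show ((k : G)⁻¹ * m) • c = c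
      rw [mul_smul, hm.2, inv_smul_eq_iff, hk.2]
    obtain ⟨w, -, huniq⟩ := T.regular c c hc hc
    have : ((k⁻¹ * m : T.M) : G) = 1 :=
      congrArg Subtype.val ((huniq ⟨_, hF⟩ hfix).trans (huniq 1 (one_smul _ _)).symm)
    exact (inv_mul_eq_one.mp (Subtype.ext this : k⁻¹ * m = 1)).symm
  · intro h _
    obtain ⟨u, hu, -⟩ := T.regular b c (Ne.symm T.ne) hc
    have hua : (u : G) • a = a := T.F_le u.2
    let u' : T.M := ⟨u, hua⟩
    let h' : T.M := ⟨h, h.2.1⟩
    refine ⟨u' * h' * u'⁻¹, ?_, ?_⟩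
    · simp only [Finset.mem_filter, Finset.mem_univ, true_and]
      show ((u : G) * h * (u : G)⁻¹) • c = c
      rw [← hu, mul_smul, mul_smul, inv_smul_smul, show (h : G) • b = b from h.2.2]
    · rw [map_mul, map_mul, map_inv, T.proj_F (m := u') u.2, one_mul, inv_one, mul_one]
      exact Subtype.ext (T.proj_H h.2)

theorem sum_M [Fintype G] (f : T.H → ℂ) :
    ∑ m : T.M, f (T.proj m) = (Nat.card T.F : ℂ) * ∑ h : T.H, f h := by
  rw [Fintype.sum_equiv T.split (fun m => f (T.proj m)) (fun x => f x.2) fun m => rfl,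
    Fintype.sum_prod_type]
  simp [Nat.card_eq_fintype_card]

/-- The linear character of the point stabiliser. -/
def lift (l : T.H →* ℂˣ) : T.M → ℂ := fun m => (l (T.proj m) : ℂ)

theorem isCharacter_lift (l : T.H →* ℂˣ) : IsCharacter T.M (T.lift l) :=
  isCharacter_of_irr (isIrrCharacter_of_hom (l.comp T.proj))

variable [Fintype G]

/-- The induced character. -/
def θ (l : T.H →* ℂˣ) : G → ℂ := indFun T.M (T.lift l)

theorem isCharacter_θ (l : T.H →* ℂˣ) : IsCharacter G (T.θ l) :=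
  Induction.isCharacter_indFun _ (T.isCharacter_lift l)

theorem θ_one [Fintype Ω] (l : T.H →* ℂˣ) : T.θ l 1 = (Fintype.card Ω : ℂ) := by
  rw [θ, Induction.indFun_one_apply, T.index_M]
  simp [lift]

theorem card_not_M [Fintype Ω] :
    ((Finset.univ : Finset G).filter fun x => x • a ≠ a).card = Nat.card T.F * Nat.card T.M := by
  have h1 := Finset.card_filter_add_card_filter_not (s := (Finset.univ : Finset G))
    (fun x : G => x • a = a)
  have h2 : ((Finset.univ : Finset G).filter fun x => x • a = a).card = Nat.card T.M := by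
    rw [Nat.card_eq_fintype_card, Fintype.card_subtype]
    rfl
  rw [Finset.card_univ, ← Nat.card_eq_fintype_card, T.card_G, h2] at h1
  exact Nat.add_left_cancel h1

theorem inner_θ [Fintype Ω] (l k : T.H →* ℂˣ) :
    classInner (T.θ l) (T.θ k) = (if l = k then 1 else 0) + (if l = k⁻¹ then 1 else 0) := by
  rw [θ, Induction.classInner_indFun _ _ (isClassFunction_of_isCharacter (T.isCharacter_θ k))]
  set n : ℂ := (Nat.card T.F : ℂ) with hn
  set d : ℂ := (Nat.card T.H : ℂ) with hd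
  have hn0 : n ≠ 0 := Nat.cast_ne_zero.mpr Nat.card_pos.ne'
  have hd0 : d ≠ 0 := Nat.cast_ne_zero.mpr Nat.card_pos.ne'
  have hsplit : ∀ m : T.M, conj (T.θ k m) = (Nat.card T.M : ℂ)⁻¹ *
      ∑ x : G, (if x • a = a then conj (T.lift k m) else
        if (m : G) • x • a = x • a then T.lift k m else 0) := by
    intro m
    rw [θ, Induction.indFun_apply, map_mul, map_inv₀, map_natCast, map_sum]
    congr 1
    refine Finset.sum_congr rfl fun x _ => ?_
    split_ifs with hx hfix
    · congr 1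
      have hxM : x ∈ T.M := hx
      rw [Induction.extendByZero_mem _ _ (mul_mem (mul_mem (inv_mem hxM) m.2) hxM)]
      have e : T.proj (⟨x, hxM⟩⁻¹ * m * ⟨x, hxM⟩) = T.proj m := by
        rw [map_mul, map_mul, map_inv, T.H_comm.is_comm.comm (T.proj ⟨x, hxM⟩)⁻¹,
          inv_mul_cancel_right]
      exact congrArg (fun h => (k h : ℂ)) e
    · obtain ⟨hy, e⟩ := T.conj_proj hx m hfix
      rw [Induction.extendByZero_mem _ _ hy, lift, e, FeitDual.conj_apply, inv_inv]
      rfl
    · rw [Induction.extendByZero_notMem, map_zero]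
      intro hy
      apply hfix
      have : (x⁻¹ * (m : G) * x) • a = a := hy
      rwa [mul_smul, mul_smul, inv_smul_eq_iff] at this
  rw [classInner]
  simp only [hsplit, Finset.mul_sum]
  rw [Finset.sum_comm]
  have hlk : ∀ h : T.H, (l h : ℂ) * (k h : ℂ) = fn (l * k) h := fun h => by simp [fn]
  have hlk' : ∀ h : T.H, (l h : ℂ) * conj (k h : ℂ) = fn (l * k⁻¹) h := fun h => by
    simp [fn, FeitDual.conj_apply]
  have hin : ∀ x : G, x • a = a → ∑ m : T.M, (Nat.card T.M : ℂ)⁻¹ *
      (T.lift l m * ((Nat.card T.M : ℂ)⁻¹ * (if x • a = a then conj (T.lift k m) else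
        if (m : G) • x • a = x • a then T.lift k m else 0)))
      = (Nat.card T.M : ℂ)⁻¹ * (Nat.card T.M : ℂ)⁻¹ * (n * (if l = k then d else 0)) := by
    intro x hx
    simp only [if_pos hx]
    rw [show (n * (if l = k then d else 0)) = ∑ m : T.M, fn (l * k⁻¹) (T.proj m) by
      rw [T.sum_M, FeitDual.sum_apply]
      simp only [hom_mul_inv_eq_one, hn, hd], Finset.mul_sum]
    refine Finset.sum_congr rfl fun m _ => ?_
    rw [← hlk']
    simp only [lift]
    ring
  have hout : ∀ x : G, x • a ≠ a → ∑ m : T.M, (Nat.card T.M : ℂ)⁻¹ *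
      (T.lift l m * ((Nat.card T.M : ℂ)⁻¹ * (if x • a = a then conj (T.lift k m) else
        if (m : G) • x • a = x • a then T.lift k m else 0)))
      = (Nat.card T.M : ℂ)⁻¹ * (Nat.card T.M : ℂ)⁻¹ * (if l = k⁻¹ then d else 0) := by
    intro x hx
    simp only [if_neg hx]
    rw [show (if l = k⁻¹ then d else 0) = ∑ m : T.M, (if (m : G) • x • a = x • a then
        fn (l * k) (T.proj m) else 0) by
      rw [T.sum_fix_point hx, FeitDual.sum_apply]
      simp only [hom_mul_eq_one, hd], Finset.mul_sum]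
    refine Finset.sum_congr rfl fun m _ => ?_
    rw [← hlk]
    simp only [lift]
    split_ifs <;> ring
  rw [← Finset.sum_filter_add_sum_filter_not Finset.univ (fun x : G => x • a = a),
    Finset.sum_congr rfl (fun x hx => hin x (Finset.mem_filter.mp hx).2),
    Finset.sum_congr rfl (fun x hx => hout x (Finset.mem_filter.mp hx).2),
    Finset.sum_const, Finset.sum_const, nsmul_eq_mul, nsmul_eq_mul]
  have hc1 : (((Finset.univ : Finset G).filter fun x => x • a = a).card : ℂ) = (Nat.card T.M : ℂ) := by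
    rw [Nat.card_eq_fintype_card, Fintype.card_subtype]
    rfl
  have hc2 : (((Finset.univ : Finset G).filter fun x => ¬ x • a = a).card : ℂ)
      = n * (Nat.card T.M : ℂ) := by
    rw [hn, ← Nat.cast_mul, ← T.card_not_M]
  rw [hc1, hc2, show (Nat.card T.M : ℂ) = n * d by rw [hn, hd, ← Nat.cast_mul, ← T.card_M]]
  split_ifs <;> field_simp <;> ring

/-- The induced characters take the value one on the non-trivial translations. -/
theorem θ_apply_F (l : T.H →* ℂˣ) {u : G} (hu : u ∈ T.F) (hu1 : u ≠ 1) : T.θ l u = 1 := by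
  rw [θ, Induction.indFun_apply]
  have hterm : ∀ x : G, extendByZero T.M (T.lift l) (x⁻¹ * u * x) = if x ∈ T.M then 1 else 0 := by
    intro x
    split_ifs with hx
    · have hF : x⁻¹ * u * (x⁻¹)⁻¹ ∈ T.F := T.F_norm x⁻¹ (inv_mem hx) u hu
      rw [inv_inv] at hF
      rw [Induction.extendByZero_mem _ _ (T.F_le hF), lift, T.proj_F hF, map_one, Units.val_one]
    · refine Induction.extendByZero_notMem _ _ fun hy => hx ?_
      have hy' : (x⁻¹ * u * x) • a = a := hy
      rw [mul_smul, mul_smul, inv_smul_eq_iff] at hy'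
      by_contra hxa
      obtain ⟨w, -, huniq⟩ := T.regular (x • a) (x • a) hxa hxa
      exact hu1 (congrArg Subtype.val ((huniq ⟨u, hu⟩ hy').trans (huniq 1 (one_smul _ _)).symm))
  rw [Finset.sum_congr rfl fun x _ => hterm x, Finset.sum_boole,
    show ((Finset.univ : Finset G).filter fun x => x ∈ T.M).card = Nat.card T.M by
      rw [Nat.card_eq_fintype_card, Fintype.card_subtype],
    inv_mul_cancel₀ (Nat.cast_ne_zero.mpr Nat.card_pos.ne')]

/-- The sum of the induced characters detects the trivial constituents on the translations. -/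
theorem sum_inner_θ (χ : G → ℂ) (hχ : IsClassFunction G χ) :
    ∑ l : T.H →* ℂˣ, classInner (T.θ l) χ = classInner (fun _ : T.F => 1) (fun u : T.F => χ u) := by
  simp only [θ, Induction.classInner_indFun _ _ hχ]
  haveI := T.H_comm
  rw [← classInner_sum_left]
  have e : (∑ l : T.H →* ℂˣ, T.lift l) =
      fun m => if T.proj m = 1 then (Nat.card T.H : ℂ) else 0 := by
    ext m
    rw [Finset.sum_apply]
    refine (FeitDual.sum_dual (T.proj m)).trans ?_
    split_ifs <;> rfl
  rw [e, classInner, classInner]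
  simp only [ite_mul, zero_mul, one_mul]
  rw [← Finset.sum_filter, ← Finset.mul_sum, T.card_M]
  have hb : ∑ m ∈ (Finset.univ : Finset T.M).filter (fun m => T.proj m = 1), conj (χ m)
      = ∑ u : T.F, conj (χ u) := by
    refine Finset.sum_bij (fun m hm => ⟨m, T.mem_F_of_proj (Finset.mem_filter.mp hm).2⟩)
      (fun _ _ => Finset.mem_univ _) (fun m _ k _ e => Subtype.ext (congrArg (fun u : T.F => (u : G)) e)) ?_
      (fun _ _ => rfl)
    exact fun u _ => ⟨⟨u, T.F_le u.2⟩, Finset.mem_filter.mpr ⟨Finset.mem_univ _, T.proj_F u.2⟩, rfl⟩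
  rw [hb]
  have hd0 : (Nat.card T.H : ℂ) ≠ 0 := Nat.cast_ne_zero.mpr Nat.card_pos.ne'
  push_cast
  field_simp

/-- The linear characters differ from their inverses. -/
theorem eq_one_of_eq_inv {l : T.H →* ℂˣ} (h : l = l⁻¹) : l = 1 := by
  refine MonoidHom.ext fun x => ?_
  have h2 : l (x * x) = 1 := by
    rw [map_mul]
    nth_rewrite 1 [h]
    exact inv_mul_cancel _
  have hcop : Nat.Coprime 2 (orderOf x) :=
    Nat.coprime_two_left.mpr (T.odd.of_dvd_nat (orderOf_dvd_natCard x))
  obtain ⟨j, hj⟩ := exists_pow_eq_self_of_coprime hcop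
  rw [← hj, pow_two, map_pow, h2, one_pow]
  rfl

variable [Fintype Ω]

theorem inner_θ_self {l : T.H →* ℂˣ} (hl : l ≠ 1) : classInner (T.θ l) (T.θ l) = 1 := by
  rw [T.inner_θ, if_pos rfl, if_neg fun e => hl (T.eq_one_of_eq_inv e), add_zero]

theorem isIrr_θ {l : T.H →* ℂˣ} (hl : l ≠ 1) : IsIrrCharacter G (T.θ l) :=
  (isIrrCharacter_iff_classInner_self (T.isCharacter_θ l)).mpr (T.inner_θ_self hl)

theorem θ_inv {l : T.H →* ℂˣ} (hl : l ≠ 1) : T.θ l⁻¹ = T.θ l := by
  by_contra h
  have h0 := classInner_irr_ne (T.isIrr_θ (l := l⁻¹) (fun e => hl ((hom_inv_eq_one l).mp e))) (T.isIrr_θ hl) h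
  rw [T.inner_θ, if_pos rfl, if_neg fun e => hl (T.eq_one_of_eq_inv e.symm)] at h0
  norm_num at h0

theorem θ_eq {l k : T.H →* ℂˣ} (hl : l ≠ 1) (h : T.θ l = T.θ k) : k = l ∨ k = l⁻¹ := by
  have h1 := T.inner_θ_self hl
  nth_rewrite 2 [h] at h1
  rw [T.inner_θ] at h1
  split_ifs at h1 with e1 e2 e3
  · exact Or.inl e1.symm
  · exact Or.inl e1.symm
  · exact Or.inr (by rw [e3]; exact (inv_inv k).symm)
  · norm_num at h1

/-- The Steinberg character. -/
def st : G → ℂ := T.θ 1 - fun _ => 1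

theorem inner_θ_triv (l : T.H →* ℂˣ) :
    classInner (T.θ l) (fun _ => 1) = if l = 1 then 1 else 0 := by
  rw [θ, Induction.classInner_indFun T.M (T.lift l) (ψ := fun _ : G => (1 : ℂ)) (fun _ _ => rfl),
    classInner]
  simp only [map_one, mul_one, lift]
  rw [T.sum_M (fun h => (l h : ℂ)), FeitDual.sum_apply, T.card_M]
  push_cast
  have hn0 : (Nat.card T.F : ℂ) ≠ 0 := Nat.cast_ne_zero.mpr Nat.card_pos.ne'
  have hd0 : (Nat.card T.H : ℂ) ≠ 0 := Nat.cast_ne_zero.mpr Nat.card_pos.ne'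
  split_ifs <;> field_simp <;> ring

theorem st_one : T.st 1 = (Nat.card T.F : ℂ) := by
  have := T.two_le_card
  rw [st, Pi.sub_apply, T.θ_one, T.card_F, Nat.cast_sub (by omega)]
  simp

theorem isIrr_st : IsIrrCharacter G T.st := by
  refine isIrrCharacter_of_generalized_norm_one
    (isGeneralizedCharacter_sub (isGeneralizedCharacter_of_isCharacter (T.isCharacter_θ 1))
      (isGeneralizedCharacter_irr (principalIrr G))) ?_ ?_
  · show classInner (T.θ 1 - fun _ => 1) (T.θ 1 - fun _ => 1) = 1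
    have h1 : classInner (fun _ : G => (1 : ℂ)) (fun _ => 1) = 1 :=
      classInner_irr_self isIrrCharacter_one
    rw [classInner_sub_left, classInner_sub_right, classInner_sub_right, T.inner_θ,
      if_pos rfl, if_pos (inv_one (G := T.H →* ℂˣ)).symm, T.inner_θ_triv, if_pos rfl, Induction.classInner_swap (fun _ : G => (1 : ℂ)) (T.θ 1),
      T.inner_θ_triv, if_pos rfl, map_one, h1]
    norm_num
  · show 0 ≤ (T.st 1).re
    rw [st_one]
    simp

end Frame

end CfsgLib.PermSmall.FeitFrame
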