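import Cfsg.Agent.Lib.PermSmall.FeitFrame
import Cfsg.Agent.Lib.Characters.FrobKernelChar
import Cfsg.Agent.Lib.Chars17.IrrBasic

/-!
Orbits of the two-point stabiliser on the linear characters of an abelian Frobenius kernel, and the
constituents of the induced characters.
-/

set_option autoImplicit false

noncomputable section

namespace CfsgLib.PermSmall.FeitFrame.Frame

open MulAction Cfsg CfsgLib.Characters CfsgLib.Chars17
open CfsgLib.PermSmall.Zassenhaus (pairStab)
open CfsgLib.PermSmall.FeitDual (fn)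
open scoped ComplexConjugate
open scoped Classical

universe u

variable {G : Type u} {Ω : Type*} [Group G] [MulAction G Ω] {a b : Ω} (T : Frame G a b)
include T

theorem fixed_translation {h : T.H} (hh : h ≠ 1) {u : T.F}
    (hfix : (h : G) * u * (h : G)⁻¹ = u) : u = 1 := by
  by_contra hu
  have hu' : (u : G) ≠ 1 := fun e => hu (Subtype.ext e)
  obtain ⟨h1, h2⟩ := Kernel.regular_ne T.ne T.F_le T.regular u.2 hu'
  refine hh (Subtype.ext (T.three h a b ((u : G) • b) T.ne (Ne.symm h2) (Ne.symm h1) h.2.1 h.2.2 ?_))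
  conv_rhs => rw [← hfix, mul_smul, mul_smul, inv_smul_eq_iff.mpr h.2.2.symm]

theorem fix_only {u : G} (hu : u ∈ T.F) (hu1 : u ≠ 1) {x : Ω} (hx : u • x = x) : x = a := by
  by_contra hxa
  obtain ⟨w, -, huniq⟩ := T.regular x x hxa hxa
  exact hu1 (congrArg Subtype.val ((huniq ⟨u, hu⟩ hx).trans (huniq 1 (one_smul _ _)).symm))

/-- Conjugation by an element of the two-point stabiliser on the translations. -/
def conjF (h : T.H) : T.F ≃* T.F where
  toFun u := ⟨(h : G) * u * (h : G)⁻¹, T.F_norm _ h.2.1 _ u.2⟩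
  invFun u := ⟨(h : G)⁻¹ * u * (h : G), by
    simpa using T.F_norm _ (inv_mem h.2.1 : (h : G)⁻¹ ∈ T.M) _ u.2⟩
  left_inv u := Subtype.ext (by simp only; group)
  right_inv u := Subtype.ext (by simp only; group)
  map_mul' u v := Subtype.ext (by simp)

/-- The action on linear characters. -/
def act (h : T.H) (l : T.F →* ℂˣ) : T.F →* ℂˣ := l.comp (T.conjF h).toMonoidHom

theorem act_apply (h : T.H) (l : T.F →* ℂˣ) (u : T.F) : T.act h l u = l (T.conjF h u) := rfl

theorem act_act (h k : T.H) (l : T.F →* ℂˣ) : T.act h (T.act k l) = T.act (k * h) l :=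
  MonoidHom.ext fun u => congrArg l (Subtype.ext (by
    show (k : G) * ((h : G) * u * (h : G)⁻¹) * (k : G)⁻¹ = ((k * h : T.H) : G) * u * ((k * h : T.H) : G)⁻¹
    rw [Subgroup.coe_mul]
    group))

theorem act_one (l : T.F →* ℂˣ) : T.act 1 l = l :=
  MonoidHom.ext fun u => congrArg l (Subtype.ext (by
    show ((1 : T.H) : G) * u * ((1 : T.H) : G)⁻¹ = u
    simp))

theorem act_one_hom (h : T.H) : T.act h 1 = 1 := rfl

theorem act_inv_hom (h : T.H) (l : T.F →* ℂˣ) : T.act h l⁻¹ = (T.act h l)⁻¹ := rfl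

theorem eq_one_of_act_eq [Finite G] (hF : IsMulCommutative T.F) {h : T.H} {l : T.F →* ℂˣ}
    (hfix : T.act h l = l) : h = 1 ∨ l = 1 := by
  by_cases hh : h = 1
  · exact Or.inl hh
  refine Or.inr (MonoidHom.ext fun u => ?_)
  have hinj : Function.Injective fun v : T.F => T.conjF h v * v⁻¹ := by
    intro v w e
    have e' : T.conjF h (w⁻¹ * v) = w⁻¹ * v := by
      have e1 : T.conjF h v * v⁻¹ = T.conjF h w * w⁻¹ := e
      rw [map_mul, map_inv]
      calc (T.conjF h w)⁻¹ * T.conjF h v = (T.conjF h w)⁻¹ * (T.conjF h v * v⁻¹) * v := by group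
        _ = w⁻¹ * v := by rw [e1]; group
    exact (inv_mul_eq_one.mp (T.fixed_translation hh (congrArg Subtype.val e'))).symm
  obtain ⟨v, hv⟩ := Finite.surjective_of_injective hinj u
  rw [← hv, map_mul, map_inv]
  show T.act h l v * (l v)⁻¹ = 1
  rw [hfix, mul_inv_cancel]

/-- Non-trivial linear characters of the translations. -/
abbrev Nt (_T : Frame G a b) : Type u := {l : _T.F →* ℂˣ // l ≠ 1}

/-- The orbit relation. -/
def orbitSetoid : Setoid T.Nt where
  r l k := ∃ h : T.H, T.act h l.1 = k.1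
  iseqv := ⟨fun l => ⟨1, T.act_one l.1⟩,
    fun {l k} ⟨h, e⟩ => ⟨h⁻¹, by rw [← e, act_act, mul_inv_cancel, act_one]⟩,
    fun {l k m} ⟨h, e⟩ ⟨h', e'⟩ => ⟨h * h', by rw [← act_act, e, e']⟩⟩

/-- The orbits. -/
abbrev Orb (_T : Frame G a b) : Type u := Quotient (_T.orbitSetoid)

/-- A representative. -/
def rep (i : T.Orb) : T.F →* ℂˣ := (Quotient.out i).1

theorem rep_ne (i : T.Orb) : T.rep i ≠ 1 := (Quotient.out i).2

theorem act_rep_ne (h : T.H) (i : T.Orb) : T.act h (T.rep i) ≠ 1 := fun e => T.rep_ne i (by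
  rw [← T.act_one (T.rep i), ← mul_inv_cancel h, ← T.act_act, e]
  rfl)

variable [Finite G] (hF : IsMulCommutative T.F)

theorem act_rep_inj (hF : IsMulCommutative T.F) {h k : T.H} {i j : T.Orb}
    (e : T.act h (T.rep i) = T.act k (T.rep j)) : i = j ∧ h = k := by
  have hij : i = j := by
    rw [← Quotient.out_eq i, ← Quotient.out_eq j]
    refine Quotient.sound ⟨h * k⁻¹, ?_⟩
    show T.act (h * k⁻¹) (T.rep i) = T.rep j
    rw [← act_act, e, act_act, mul_inv_cancel, act_one]
  subst hij
  refine ⟨rfl, ?_⟩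
  have e2 : T.act (h * k⁻¹) (T.rep i) = T.rep i := by
    rw [← act_act, e, act_act, mul_inv_cancel, act_one]
  exact mul_inv_eq_one.mp ((T.eq_one_of_act_eq hF e2).resolve_right (T.rep_ne i))

/-- Every non-trivial linear character is a unique translate of a representative. -/
def orbitEquiv (hF : IsMulCommutative T.F) : T.Orb × T.H ≃ T.Nt :=
  Equiv.ofBijective (fun x => ⟨T.act x.2 (T.rep x.1), T.act_rep_ne x.2 x.1⟩) ⟨fun x y e => by
    obtain ⟨h1, h2⟩ := T.act_rep_inj hF (congrArg Subtype.val e)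
    exact Prod.ext h1 h2, fun l => by
    obtain ⟨h, hh⟩ : T.orbitSetoid.r (Quotient.out (Quotient.mk T.orbitSetoid l)) l :=
      Quotient.exact (Quotient.out_eq _)
    exact ⟨(Quotient.mk T.orbitSetoid l, h), Subtype.ext hh⟩⟩

theorem exists_rep (hF : IsMulCommutative T.F) {l : T.F →* ℂˣ} (hl : l ≠ 1) :
    ∃ i h, T.act h (T.rep i) = l := by
  obtain ⟨x, hx⟩ := (T.orbitEquiv hF).surjective ⟨l, hl⟩
  exact ⟨x.1, x.2, congrArg Subtype.val hx⟩

theorem card_orb (hF : IsMulCommutative T.F) :
    Nat.card T.Orb * Nat.card T.H + 1 = Nat.card T.F := by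
  haveI := hF
  rw [← FeitDual.card_dual (A := T.F), ← Nat.card_prod, Nat.card_congr (T.orbitEquiv hF),
    Nat.card_eq_fintype_card, Nat.card_eq_fintype_card, Fintype.card_subtype_compl,
    Fintype.card_subtype_eq]
  have : 0 < Fintype.card (T.F →* ℂˣ) := Fintype.card_pos_iff.mpr ⟨1⟩
  omega

/-- The multiplicity of a linear character in a restriction. -/
def mult [Fintype G] (χ : G → ℂ) (l : T.F →* ℂˣ) : ℂ := classInner (fun u : T.F => χ u) (fn l)

section
variable [Fintype G]

theorem mult_nat {χ : G → ℂ} (h : IsCharacter G χ) (l : T.F →* ℂˣ) :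
    ∃ m : ℕ, T.mult χ l = m :=
  classInner_char_nat (NormalRes.isCharacter_res T.F h) (FeitDual.isCharacter_fn l)

theorem mult_act {χ : G → ℂ} (hχ : IsClassFunction G χ) (h : T.H) (l : T.F →* ℂˣ) :
    T.mult χ (T.act h l) = T.mult χ l := by
  unfold mult classInner
  congr 1
  refine Fintype.sum_equiv (T.conjF h).toEquiv _ _ fun u => ?_
  show _ = χ ((h : G) * u * (h : G)⁻¹) * _
  rw [hχ]
  rfl

/-- The degree from the multiplicities. -/
theorem apply_one_eq (hF : IsMulCommutative T.F) {χ : G → ℂ} (hχ : IsClassFunction G χ) :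
    χ 1 = T.mult χ 1 + (Nat.card T.H : ℂ) * ∑ i : T.Orb, T.mult χ (T.rep i) := by
  haveI := hF
  have h := FeitDual.sum_inner (fun u : T.F => χ u)
  simp only [OneMemClass.coe_one] at h
  rw [← h, ← Finset.add_sum_erase _ _ (Finset.mem_univ (1 : T.F →* ℂˣ))]
  congr 1
  rw [Finset.sum_subtype (Finset.univ.erase (1 : T.F →* ℂˣ)) (p := fun l => l ≠ 1) (fun l => by simp),
    ← Fintype.sum_equiv (T.orbitEquiv hF) (fun x => T.mult χ (T.act x.2 (T.rep x.1)))
      (fun l => classInner (fun u : T.F => χ u) (fn l.1)) (fun x => rfl), Fintype.sum_prod_type,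
    Finset.mul_sum]
  refine Finset.sum_congr rfl fun i _ => ?_
  rw [Finset.sum_congr rfl fun h _ => T.mult_act hχ h (T.rep i), Finset.sum_const, Finset.card_univ,
    nsmul_eq_mul, Nat.card_eq_fintype_card]

/-- The values of a function induced from the translations. -/
theorem indFun_F (hF : IsMulCommutative T.F) (f : T.F → ℂ) {u : T.F} (hu : u ≠ 1) :
    indFun T.F f (u : G) = ∑ h : T.H, f ((T.conjF h).symm u) := by
  have hu' : (u : G) ≠ 1 := fun e => hu (Subtype.ext e)
  rw [Induction.indFun_apply]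
  have hout : ∀ x : G, x ∉ T.M → extendByZero T.F f (x⁻¹ * u * x) = 0 := by
    intro x hx
    refine Induction.extendByZero_notMem _ _ fun hy => hx ?_
    have hy' : (x⁻¹ * (u : G) * x) • a = a := T.F_le hy
    rw [mul_smul, mul_smul, inv_smul_eq_iff] at hy'
    exact T.fix_only u.2 hu' hy'
  rw [← Finset.sum_subset (s₁ := (Finset.univ : Finset T.M).map (Function.Embedding.subtype _))
    (Finset.subset_univ _) (fun x _ hx => hout x fun h => hx
      (Finset.mem_map.mpr ⟨⟨x, h⟩, Finset.mem_univ _, rfl⟩)), Finset.sum_map]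
  have hterm : ∀ m : T.M, extendByZero T.F f (((Function.Embedding.subtype _ : T.M ↪ G) m)⁻¹ * u *
      (Function.Embedding.subtype _ : T.M ↪ G) m) = f ((T.conjF (T.proj m)).symm u) := by
    intro m
    have hm : (m : G) = (T.tr m : G) * (T.proj m : G) := by rw [T.proj_coe]; group
    have hy : ((m : G)⁻¹ * u * m) = ((T.conjF (T.proj m)).symm u : G) := by
      show (m : G)⁻¹ * u * m = (T.proj m : G)⁻¹ * u * (T.proj m : G)
      have hc : (T.tr m : G)⁻¹ * u * (T.tr m : G) = u := by
        have e : (u : G) * T.tr m = T.tr m * u := congrArg Subtype.val (hF.is_comm.comm u (T.tr m))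
        rw [mul_assoc, e, inv_mul_cancel_left]
      rw [hm, show ((T.tr m : G) * (T.proj m : G))⁻¹ * u * ((T.tr m : G) * (T.proj m : G))
        = (T.proj m : G)⁻¹ * ((T.tr m : G)⁻¹ * u * (T.tr m : G)) * (T.proj m : G) by group, hc]
    rw [Function.Embedding.subtype_apply, hy, Induction.extendByZero_mem _ _ (SetLike.coe_mem _)]
  rw [Finset.sum_congr rfl fun m _ => hterm m, T.sum_M (fun h => f ((T.conjF h).symm u))]
  have : (Nat.card T.F : ℂ) ≠ 0 := Nat.cast_ne_zero.mpr Nat.card_pos.ne'
  field_simp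

/-- The difference of two linear characters induced. -/
def τ (i j : T.Orb) : G → ℂ := indFun T.F (fn (T.rep i) - fn (T.rep j))

theorem τ_one (i j : T.Orb) : T.τ i j 1 = 0 := by
  simp [τ, Induction.indFun_one_apply, fn]

theorem isGeneralizedCharacter_τ (i j : T.Orb) : IsGeneralizedCharacter G (T.τ i j) := by
  rw [τ, Induction.indFun_sub]
  exact isGeneralizedCharacter_sub
    (isGeneralizedCharacter_of_isCharacter (Induction.isCharacter_indFun _ (FeitDual.isCharacter_fn _)))
    (isGeneralizedCharacter_of_isCharacter (Induction.isCharacter_indFun _ (FeitDual.isCharacter_fn _)))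

theorem inner_τ (hF : IsMulCommutative T.F) (i j k l : T.Orb) :
    classInner (T.τ i j) (T.τ k l) = ((if i = k then 1 else 0) - (if i = l then 1 else 0))
      - ((if j = k then 1 else 0) - (if j = l then 1 else 0)) := by
  have h1 : ∀ (i k : T.Orb), ∑ h : T.H, classInner (fn (T.rep i)) (fn (T.act h (T.rep k)))
      = if i = k then 1 else 0 := by
    intro i k
    simp only [FeitDual.inner_eq]
    by_cases hik : i = k
    · subst hik
      rw [if_pos rfl, Finset.sum_eq_single (1 : T.H) (fun h _ hh => if_neg fun e => hh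
        (T.act_rep_inj hF (h := 1) (k := h) (i := i) (j := i) (by rw [T.act_one]; exact e)).2.symm)
        (by simp), if_pos (T.act_one _).symm]
    · rw [if_neg hik]
      exact Finset.sum_eq_zero fun h _ => if_neg fun e => hik
        (T.act_rep_inj hF (h := 1) (k := h) (by rw [T.act_one]; exact e)).1
  rw [τ, Induction.classInner_indFun T.F _ (isClassFunction_of_isGeneralizedCharacter
    (T.isGeneralizedCharacter_τ k l))]
  have e : classInner (fn (T.rep i) - fn (T.rep j)) (fun u : T.F => T.τ k l u)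
      = classInner (fn (T.rep i) - fn (T.rep j))
          (∑ h : T.H, (fn (T.act h⁻¹ (T.rep k)) - fn (T.act h⁻¹ (T.rep l)))) := by
    unfold classInner
    congr 1
    refine Finset.sum_congr rfl fun u _ => ?_
    by_cases hu : u = 1
    · subst hu; simp [fn]
    · dsimp only
      rw [show T.τ k l (u : G) = _ from T.indFun_F hF _ hu, Finset.sum_apply]
      congr 2
      refine Finset.sum_congr rfl fun h _ => ?_
      have : T.conjF h⁻¹ u = (T.conjF h).symm u := Subtype.ext (by
        show ((h⁻¹ : T.H) : G) * u * ((h⁻¹ : T.H) : G)⁻¹ = (h : G)⁻¹ * u * (h : G)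
        simp)
      simp [fn, act_apply, this]
  rw [e, classInner_sum_right]
  refine (Fintype.sum_equiv (Equiv.inv T.H) _
    (fun h => classInner (fn (T.rep i) - fn (T.rep j)) (fn (T.act h (T.rep k)) - fn (T.act h (T.rep l))))
    fun h => rfl).trans ?_
  simp only [classInner_sub_left, classInner_sub_right, Finset.sum_sub_distrib, h1]
  ring

end

section
variable [Fintype G] [Fintype Ω]

/-- A character constant on the non-trivial translations has equal multiplicities there. -/
theorem mult_const {χ : G → ℂ} {c : ℂ} (hc : ∀ u : T.F, u ≠ 1 → χ u = c) {l : T.F →* ℂˣ}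
    (hl : l ≠ 1) : T.mult χ l = (Nat.card T.F : ℂ)⁻¹ * (χ 1 - c) := by
  unfold mult classInner
  congr 1
  have h : ∀ u : T.F, χ u * conj (fn l u) = (if u = 1 then χ 1 - c else 0) + c * (l⁻¹ u : ℂˣ) := by
    intro u
    rw [FeitDual.conj_apply, MonoidHom.inv_apply, map_inv]
    by_cases hu : u = 1
    · subst hu; simp
    · rw [if_neg hu, hc u hu, zero_add]
  rw [Finset.sum_congr rfl fun u _ => h u, Finset.sum_add_distrib, Finset.sum_ite_eq',
    if_pos (Finset.mem_univ _), ← Finset.mul_sum, FeitDual.sum_apply,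
    if_neg fun e => hl ((hom_inv_eq_one l).mp e), mul_zero, add_zero]

/-- The induced characters as irreducible characters. -/
def θIrr (l : {l : T.H →* ℂˣ // l ≠ 1}) : IrrCharacter G := ⟨T.θ l.1, T.isIrr_θ l.2⟩

/-- The set of irreducible induced characters. -/
def thSet : Finset (IrrCharacter G) := Finset.univ.image T.θIrr

/-- The Steinberg character as an irreducible character. -/
def stIrr : IrrCharacter G := ⟨T.st, T.isIrr_st⟩

/-- The irreducible characters with trivial constituents on the translations. -/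
def cat : Finset (IrrCharacter G) := insert (principalIrr G) (insert T.stIrr T.thSet)

theorem two_mul_card_thSet : 2 * T.thSet.card + 1 = Nat.card T.H := by
  haveI := T.H_comm
  have h := Finset.card_eq_sum_card_fiberwise (s := (Finset.univ : Finset {l : T.H →* ℂˣ // l ≠ 1}))
    (t := T.thSet) (f := T.θIrr) (fun l _ => Finset.mem_image_of_mem _ (Finset.mem_univ _))
  have hfib : ∀ χ ∈ T.thSet, (Finset.univ.filter fun l => T.θIrr l = χ).card = 2 := by
    intro χ hχ
    obtain ⟨l, -, rfl⟩ := Finset.mem_image.mp hχ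
    rw [Finset.card_eq_two]
    refine ⟨l, ⟨l.1⁻¹, fun e => l.2 ((hom_inv_eq_one l.1).mp e)⟩,
      fun e => l.2 (T.eq_one_of_eq_inv (congrArg Subtype.val e)), ?_⟩
    ext k
    simp only [Finset.mem_filter, Finset.mem_univ, true_and, Finset.mem_insert, Finset.mem_singleton]
    refine ⟨fun e => ?_, ?_⟩
    · rcases T.θ_eq l.2 (congrArg Subtype.val e).symm with h | h
      · exact Or.inl (Subtype.ext h)
      · exact Or.inr (Subtype.ext h)
    · rintro (rfl | rfl)
      · rfl
      · exact Subtype.ext (T.θ_inv l.2)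
  rw [Finset.sum_congr rfl hfib, Finset.sum_const, smul_eq_mul, Finset.card_univ,
    Fintype.card_subtype_compl, Fintype.card_subtype_eq, ← Nat.card_eq_fintype_card,
    FeitDual.card_dual] at h
  have : 0 < Nat.card T.H := Nat.card_pos
  omega

theorem charDegree_thSet {χ : IrrCharacter G} (h : χ ∈ T.thSet) :
    charDegree (χ : G → ℂ) = Fintype.card Ω := by
  obtain ⟨l, -, rfl⟩ := Finset.mem_image.mp h
  have := cast_irrDegree (T.θIrr l)
  rw [show ((T.θIrr l : IrrCharacter G) : G → ℂ) 1 = _ from T.θ_one l.1] at this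
  exact_mod_cast this

theorem charDegree_st : charDegree (T.stIrr : G → ℂ) = Nat.card T.F := by
  have := cast_irrDegree T.stIrr
  rw [show ((T.stIrr : IrrCharacter G) : G → ℂ) 1 = _ from T.st_one] at this
  exact_mod_cast this

theorem sum_cat (hn : 3 ≤ Fintype.card Ω) (f : IrrCharacter G → ℤ) :
    ∑ χ ∈ T.cat, f χ = f (principalIrr G) + f T.stIrr + ∑ χ ∈ T.thSet, f χ := by
  have hn1 : charDegree (principalIrr G : G → ℂ) = 1 := by simp [charDegree, principalIrr]
  have h1 : T.stIrr ∉ T.thSet := fun h => by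
    have := T.charDegree_thSet h
    rw [T.charDegree_st, T.card_F] at this
    omega
  have h2 : principalIrr G ∉ insert T.stIrr T.thSet := fun h => by
    rcases Finset.mem_insert.mp h with h | h
    · have := congrArg (fun χ : IrrCharacter G => charDegree (χ : G → ℂ)) h
      simp only [hn1, T.charDegree_st, T.card_F] at this
      omega
    · have := T.charDegree_thSet h
      omega
  rw [cat, Finset.sum_insert h2, Finset.sum_insert h1]
  ring

theorem const_of_mem_cat {χ : IrrCharacter G} (h : χ ∈ T.cat) :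
    ∃ c : ℂ, ∀ u : T.F, u ≠ 1 → (χ : G → ℂ) u = c := by
  rcases Finset.mem_insert.mp h with rfl | h
  · exact ⟨1, fun u _ => rfl⟩
  rcases Finset.mem_insert.mp h with rfl | h
  · refine ⟨0, fun u hu => ?_⟩
    show T.θ 1 u - 1 = 0
    rw [T.θ_apply_F 1 u.2 (fun e => hu (Subtype.ext e)), sub_self]
  · obtain ⟨l, -, rfl⟩ := Finset.mem_image.mp h
    exact ⟨1, fun u hu => T.θ_apply_F l.1 u.2 (fun e => hu (Subtype.ext e))⟩

theorem mult_one_of_notMem {χ : IrrCharacter G} (h : χ ∉ T.cat) : T.mult (χ : G → ℂ) 1 = 0 := by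
  have hs := T.sum_inner_θ (χ : G → ℂ) (irr_isClassFunction χ)
  have hz : ∑ l : T.H →* ℂˣ, classInner (T.θ l) (χ : G → ℂ) = 0 := by
    refine Finset.sum_eq_zero fun l _ => ?_
    simp only [cat, Finset.mem_insert, not_or] at h
    by_cases hl : l = 1
    · subst hl
      rw [show T.θ 1 = ((principalIrr G : IrrCharacter G) : G → ℂ) + ((T.stIrr : IrrCharacter G) : G → ℂ) from
        funext fun g => (add_sub_cancel (1 : ℂ) (T.θ 1 g)).symm, classInner_add_left, classInner_irr,
        classInner_irr, if_neg fun e => h.1 e.symm, if_neg fun e => h.2.1 e.symm, add_zero]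
    · exact classInner_irr_ne (T.isIrr_θ hl) χ.2 fun e => h.2.2
        (Finset.mem_image.mpr ⟨⟨l, hl⟩, Finset.mem_univ _, Subtype.ext e⟩)
  have he : fn (1 : T.F →* ℂˣ) = fun _ : T.F => (1 : ℂ) := funext fun u => by simp [fn]
  rw [mult, he, Induction.classInner_swap, ← hs, hz, map_zero]

end

end CfsgLib.PermSmall.FeitFrame.Frame
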