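import Cfsg.Agent.Lib.PermSmall.Kernel
import Mathlib.GroupTheory.FixedPointFree

/-!
Sharply 3-transitive groups of even degree: the involution of a two-point stabiliser and the
functional relation between the translation and the involution exchanging two points.
-/

namespace CfsgLib.PermSmall.SharpThree

open MulAction
open CfsgLib.PermSmall.Zassenhaus (pairStab)
open CfsgLib.PermSmall.Kernel (regular_ne regular_inj)

variable {G Ω : Type*} [Group G] [MulAction G Ω]

/-- The data attached to two points of a sharply 3-transitive group of even degree. -/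
structure Setup (G : Type*) {Ω : Type*} [Group G] [MulAction G Ω] [Fintype Ω] (a b : Ω) where
  ne : a ≠ b
  three : ∀ g : G, ∀ x y z : Ω, x ≠ y → y ≠ z → x ≠ z → g • x = x → g • y = y → g • z = z → g = 1
  trans : ∀ x y : Ω, x ≠ a → x ≠ b → y ≠ a → y ≠ b → ∃ h ∈ pairStab G a b, h • x = y
  card : Nat.card (pairStab G a b) = Fintype.card Ω - 2
  swap : ∀ c, c ≠ a → c ≠ b → ∃ s : G, s • a = b ∧ s • b = a ∧ s • c = c
  F : Subgroup G
  F_le : F ≤ stabilizer G a
  F_normal : (F.subgroupOf (stabilizer G a)).Normal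
  F_comm : IsMulCommutative F
  regular : ∀ y z : Ω, y ≠ a → z ≠ a → ∃! u : F, (u : G) • y = z
  z : G
  z_mem : z ∈ pairStab G a b
  z_ne : z ≠ 1
  z_sq : z * z = 1
  z_inv : ∀ u ∈ F, z * u * z⁻¹ = u⁻¹
  z_unique : ∀ w ∈ pairStab G a b, w * w = 1 → w ≠ 1 → w = z
  four_le : 4 ≤ Fintype.card Ω

theorem exists_setup [Finite G] [Fintype Ω] (h3 : IsMultiplyPretransitive G Ω 3)
    (hthree : ∀ g : G, ∀ x y z : Ω, x ≠ y → y ≠ z → x ≠ z → g • x = x → g • y = y → g • z = z → g = 1)
    (heven : Even (Fintype.card Ω)) (hn : 4 ≤ Fintype.card Ω) {a b : Ω} (hab : a ≠ b) :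
    Nonempty (Setup G a b) := by
  classical
  obtain ⟨htr, hd, F, hFle, hFn, hFc, -, hreg⟩ := Kernel.sharplyThree h3 hthree (by omega) hab
  have hswap : ∀ c, c ≠ a → c ≠ b → ∃ s : G, s • a = b ∧ s • b = a ∧ s • c = c := by
    intro c hca hcb
    have hac := Ne.symm hca
    have hbc := Ne.symm hcb
    let u : Fin 3 ↪ Ω := ⟨![a, b, c], fun i j e => by
      fin_cases i <;> fin_cases j <;> simp [hab, hac, hbc, hab.symm, hac.symm, hbc.symm] at e ⊢⟩
    let v : Fin 3 ↪ Ω := ⟨![b, a, c], fun i j e => by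
      fin_cases i <;> fin_cases j <;> simp [hab, hac, hbc, hab.symm, hac.symm, hbc.symm] at e ⊢⟩
    obtain ⟨g, hg⟩ := exists_smul_eq G u v
    exact ⟨g, DFunLike.congr_fun hg 0, DFunLike.congr_fun hg 1, DFunLike.congr_fun hg 2⟩
  obtain ⟨z, hz, hz2⟩ := Zassenhaus.exists_involution_mem (G := G) (a := a) (b := b) (by
    rw [hd]
    rw [Nat.even_iff] at heven ⊢
    omega)
  have hzinv : ∀ w ∈ pairStab G a b, w * w = 1 → w ≠ 1 → ∀ u ∈ F, w * u * w⁻¹ = u⁻¹ := by
    intro w hw hww hw1 u hu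
    have hnorm : ∀ u ∈ F, w * u * w⁻¹ ∈ F := fun u hu => hFn.conj_mem ⟨u, hFle hu⟩ hu ⟨w, hw.1⟩
    let φ : F →* F :=
      { toFun := fun u => ⟨w * (u : G) * w⁻¹, hnorm u u.2⟩
        map_one' := Subtype.ext (by simp)
        map_mul' := fun u v => Subtype.ext (by simp) }
    have hfpf : MonoidHom.FixedPointFree φ := by
      intro v hv
      by_contra hv1
      have hv1' : (v : G) ≠ 1 := fun e => hv1 (Subtype.ext e)
      obtain ⟨h1, h2⟩ := regular_ne hab hFle hreg v.2 hv1'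
      refine hw1 (hthree w a b ((v : G) • b) hab (Ne.symm h2) (Ne.symm h1) hw.1 hw.2 ?_)
      have := congrArg (fun x : F => (x : G) • b) hv
      simpa [φ, mul_smul, inv_smul_eq_iff.mpr hw.2.symm] using this
    have hwi : w⁻¹ = w := inv_eq_of_mul_eq_one_left hww
    have hinvol : Function.Involutive φ := fun v => Subtype.ext (by
      show w * (w * (v : G) * w⁻¹) * w⁻¹ = v
      rw [hwi, ← mul_assoc, ← mul_assoc, hww, one_mul, mul_assoc, hww, mul_one])
    exact congrArg Subtype.val (congrFun (hfpf.coe_eq_inv_of_involutive hinvol) ⟨u, hu⟩)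
  have hz1 := Zassenhaus.ne_one_of_orderOf hz2
  have hzz := Zassenhaus.sq_eq_one_of_orderOf hz2
  refine ⟨⟨hab, hthree, htr, hd, hswap, F, hFle, hFn, hFc, hreg, z, hz, hz1, hzz,
    hzinv z hz hzz hz1, ?_, hn⟩⟩
  intro w hw hww hw1
  obtain ⟨c, hca⟩ : ∃ c, c ≠ a ∧ c ≠ b := by
    by_contra hall
    simp only [not_exists, not_and, not_not] at hall
    have : (Finset.univ : Finset Ω) ⊆ {a, b} := fun x _ => by
      by_cases hx : x = a
      · simp [hx]
      · simp [hall x hx]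
    have := Finset.card_le_card this
    rw [Finset.card_univ, Finset.card_pair hab] at this
    omega
  obtain ⟨u, hu, -⟩ := hreg b c (Ne.symm hab) hca.1
  by_contra hne
  have hwz : w⁻¹ * z ≠ 1 := fun e => hne (inv_mul_eq_one.mp e)
  refine hwz (hthree _ a b c hab (Ne.symm hca.2) (Ne.symm hca.1)
    (mul_mem (inv_mem hw) hz).1 (mul_mem (inv_mem hw) hz).2 ?_)
  have e1 : z • c = w • c := by
    rw [← hu, ← mul_smul, ← mul_smul]
    have h1 := hzinv z hz hzz hz1 u u.2
    have h2 := hzinv w hw hww hw1 u u.2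
    rw [mul_inv_eq_iff_eq_mul] at h1 h2
    rw [h1, h2, mul_smul, mul_smul, hw.2, (Zassenhaus.mem_pairStab.mp hz).2]
  rw [mul_smul, e1, inv_smul_smul]

variable [Fintype Ω] {a b : Ω}

theorem Setup.norm (S : Setup G a b) {h : G} (hh : h ∈ pairStab G a b) {u : G} (hu : u ∈ S.F) :
    h * u * h⁻¹ ∈ S.F :=
  S.F_normal.conj_mem ⟨u, S.F_le hu⟩ hu ⟨h, hh.1⟩

theorem Setup.smul_point (S : Setup G a b) {h : G} (hh : h ∈ pairStab G a b) (u : G) :
    h • u • b = (h * u * h⁻¹) • b := by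
  rw [mul_smul, mul_smul, inv_smul_eq_iff.mpr hh.2.symm]

theorem Setup.z_fix (S : Setup G a b) {x : Ω} (hx : S.z • x = x) : x = a ∨ x = b := by
  by_contra h
  simp only [not_or] at h
  exact S.z_ne (S.three S.z a b x S.ne (Ne.symm h.2) (Ne.symm h.1) S.z_mem.1 S.z_mem.2 hx)

theorem Setup.sq_eq_one (S : Setup G a b) {c : Ω} (hca : c ≠ a) (hcb : c ≠ b) {s : G}
    (hsa : s • a = b) (hsb : s • b = a) (hsc : s • c = c) : s * s = 1 :=
  S.three _ a b c S.ne (Ne.symm hcb) (Ne.symm hca) (by rw [mul_smul, hsa, hsb])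
    (by rw [mul_smul, hsb, hsa]) (by rw [mul_smul, hsc, hsc])

theorem Setup.conj_mem (S : Setup G a b) {s : G} (hsa : s • a = b) (hsb : s • b = a) {h : G}
    (hh : h ∈ pairStab G a b) : s * h * s⁻¹ ∈ pairStab G a b := by
  have := Zassenhaus.conj_mem_pairStab (g := s) hh
  rw [hsa, hsb] at this
  exact ⟨this.2, this.1⟩

theorem Setup.commute_z (S : Setup G a b) {s : G} (hsa : s • a = b) (hsb : s • b = a) :
    s * S.z = S.z * s := by
  have hz := S.z_unique _ (S.conj_mem hsa hsb S.z_mem)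
    (by rw [show s * S.z * s⁻¹ * (s * S.z * s⁻¹) = s * (S.z * S.z) * s⁻¹ by group, S.z_sq, mul_one,
      mul_inv_cancel])
    (fun e => S.z_ne (conj_eq_one_iff.mp e))
  exact mul_inv_eq_iff_eq_mul.mp hz

/-- The relation between the translation carrying `b` to `c` and the involution exchanging
`a`, `b` and fixing `c`. -/
theorem Setup.braid (S : Setup G a b) {c : Ω} (hca : c ≠ a) (hcb : c ≠ b) {s t : G}
    (hsa : s • a = b) (hsb : s • b = a) (hsc : s • c = c) (ht : t ∈ S.F) (htc : t • b = c) :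
    t⁻¹ * s * t * s * t⁻¹ = s * S.z := by
  obtain ⟨hza, hzb⟩ := Zassenhaus.mem_pairStab.mp S.z_mem
  have hta : t • a = a := S.F_le ht
  have htia : t⁻¹ • a = a := by rw [inv_smul_eq_iff, hta]
  have htic : t⁻¹ • c = b := by rw [inv_smul_eq_iff, htc]
  have htib : t⁻¹ • b = S.z • c := by
    rw [← htc, S.smul_point S.z_mem, S.z_inv t ht]
  have hsz : s • S.z • c = S.z • c := by
    rw [← mul_smul, S.commute_z hsa hsb, mul_smul, hsc]
  have htz : t • S.z • c = b := by rw [← htib, smul_inv_smul]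
  have hzc : S.z • c ≠ a ∧ S.z • c ≠ b :=
    ⟨fun e => hca (smul_left_cancel S.z (e.trans S.z_mem.1.symm)),
      fun e => hcb (smul_left_cancel S.z (e.trans hzb.symm))⟩
  refine (inv_mul_eq_one.mp (S.three ((s * S.z)⁻¹ * (t⁻¹ * s * t * s * t⁻¹)) a b c S.ne
    (Ne.symm hcb) (Ne.symm hca) ?_ ?_ ?_)).symm
  · rw [mul_smul, inv_smul_eq_iff]
    simp only [mul_smul, htia, hsa, htc, hsc, htic, hza]
  · rw [mul_smul, inv_smul_eq_iff]
    simp only [mul_smul, htib, hsz, htz, hsb, htia, hzb]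
  · rw [mul_smul, inv_smul_eq_iff]
    simp only [mul_smul, htic, hsb, hta, hsa, htib, hsz]

/-- An element of order dividing 3 in the two-point stabiliser is inverted by every involution
exchanging the two points and fixing a third one. -/
theorem Setup.inverts_of_pow_three (S : Setup G a b) {c : Ω} (hca : c ≠ a) (hcb : c ≠ b) {s : G}
    (hsa : s • a = b) (hsb : s • b = a) (hsc : s • c = c) {x : G} (hx : x ∈ pairStab G a b)
    (hx3 : x ^ 3 = 1) (hx1 : x ≠ 1) : s * x * s⁻¹ = x⁻¹ := by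
  obtain ⟨⟨t, ht⟩, htc, -⟩ := S.regular b c (Ne.symm S.ne) hca
  have htc : t • b = c := htc
  have hss := S.sq_eq_one hca hcb hsa hsb hsc
  set y := s * x * s⁻¹ with hy
  have hyH : y ∈ pairStab G a b := S.conj_mem hsa hsb hx
  have hsum : ∀ g ∈ pairStab G a b, g ^ 3 = 1 → g ≠ 1 →
      t * (g * t * g⁻¹) * (g * g * t * (g * g)⁻¹) = 1 := by
    intro g hg hg3 hg1
    set u := t * (g * t * g⁻¹) * (g * g * t * (g * g)⁻¹) with hu
    have hm1 := S.norm hg ht
    have hm2 := S.norm (mul_mem hg hg) ht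
    have huF : u ∈ S.F := mul_mem (mul_mem ht hm1) hm2
    have hgu : g * u * g⁻¹ = u := by
      have hcom : ∀ p ∈ S.F, ∀ q ∈ S.F, p * q = q * p := fun p hp q hq =>
        congrArg Subtype.val (S.F_comm.is_comm.comm ⟨p, hp⟩ ⟨q, hq⟩)
      have hg3' : g * g * g = 1 := by rw [← hg3, pow_succ, pow_two]
      calc g * u * g⁻¹ = (g * t * g⁻¹) * (g * g * t * (g * g)⁻¹)
            * ((g * g * g) * t * (g * g * g)⁻¹) := by rw [hu]; group
        _ = (g * t * g⁻¹) * (g * g * t * (g * g)⁻¹) * t := by rw [hg3']; simp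
        _ = u := by rw [hu, hcom _ (mul_mem hm1 hm2) _ ht, ← mul_assoc]
    by_contra hu1
    obtain ⟨h1, h2⟩ := regular_ne S.ne S.F_le S.regular huF hu1
    refine hg1 (S.three g a b (u • b) S.ne (Ne.symm h2) (Ne.symm h1) hg.1 hg.2 ?_)
    rw [S.smul_point hg, hgu]
  have hy3 : y ^ 3 = 1 := by rw [hy, conj_pow, hx3, mul_one, mul_inv_cancel]
  have hy1 : y ≠ 1 := fun e => hx1 (conj_eq_one_iff.mp e)
  -- images of the conjugates of `t`
  set w := x * t * x⁻¹ with hw
  set w' := x * x * t * (x * x)⁻¹ with hw'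
  set v := y * t * y⁻¹ with hv
  set v' := y * y * t * (y * y)⁻¹ with hv'
  have hwF : w ∈ S.F := S.norm hx ht
  have hwF' : w' ∈ S.F := S.norm (mul_mem hx hx) ht
  have hvF : v ∈ S.F := S.norm hyH ht
  have hvF' : v' ∈ S.F := S.norm (mul_mem hyH hyH) ht
  have htw : t * w * w' = 1 := hsum x hx hx3 hx1
  have htv : t * v * v' = 1 := hsum y hyH hy3 hy1
  have htv' : t * v' = v⁻¹ := by
    apply eq_inv_of_mul_eq_one_left
    have hc : v' * v = v * v' := congrArg Subtype.val (S.F_comm.is_comm.comm ⟨v', hvF'⟩ ⟨v, hvF⟩)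
    rw [mul_assoc, hc, ← mul_assoc]
    exact htv
  have hsw : s • w • b = v • b := by
    rw [hw, hv, ← S.smul_point hx, htc, ← S.smul_point hyH, htc, hy, mul_smul, mul_smul,
      inv_smul_eq_iff.mpr hsc.symm]
  have hsv' : s • v' • b = w' • b := by
    rw [hw', hv', ← S.smul_point (mul_mem hx hx), htc, ← S.smul_point (mul_mem hyH hyH), htc,
      show y * y = s * (x * x) * s⁻¹ by rw [hy]; group, mul_smul, mul_smul,
      inv_smul_eq_iff.mpr hsc.symm, ← mul_smul s s, hss, one_smul]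
  have hsw' : s • w' • b = v' • b := by
    rw [← hsv', ← mul_smul, hss, one_smul]
  have hzP : ∀ u ∈ S.F, S.z • u • b = u⁻¹ • b := fun u hu => by
    rw [S.smul_point S.z_mem, S.z_inv u hu]
  -- apply both sides of the relation to the image of `w`
  have hbr : (s * t * s) • w • b = (t * (s * S.z) * t) • w • b := by
    rw [← S.braid hca hcb hsa hsb hsc ht htc]
    congr 1
    group
  have hsz : ∀ p : Ω, s • S.z • p = S.z • s • p := fun p => by
    rw [← mul_smul, ← mul_smul, S.commute_z hsa hsb]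
  have hL : (s * t * s) • w • b = w'⁻¹ • b := by
    rw [mul_smul, mul_smul, hsw, ← mul_smul t v, eq_inv_of_mul_eq_one_left htv, ← hzP v' hvF', hsz,
      hsv', hzP w' hwF']
  have hR : (t * (s * S.z) * t) • w • b = v⁻¹ • b := by
    rw [mul_smul, mul_smul, mul_smul, ← mul_smul t w, eq_inv_of_mul_eq_one_left htw,
      hzP _ (inv_mem hwF'), inv_inv, hsw', ← mul_smul, htv']
  have heq : w'⁻¹ = v⁻¹ := regular_inj S.ne S.F_le S.regular (inv_mem hwF') (inv_mem hvF)
    (hL.symm.trans (hbr.trans hR))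
  rw [inv_inj] at heq
  -- so `y` and `x * x` agree at `c`
  have : y • c = (x * x) • c := by
    rw [← htc, S.smul_point hyH, S.smul_point (mul_mem hx hx)]
    exact congrArg (· • b) heq.symm
  have h1 : (x * x)⁻¹ * y = 1 := S.three _ a b c S.ne (Ne.symm hcb) (Ne.symm hca)
    (mul_mem (inv_mem (mul_mem hx hx)) hyH).1 (mul_mem (inv_mem (mul_mem hx hx)) hyH).2
    (by rw [mul_smul, this, inv_smul_smul])
  show y = x⁻¹
  rw [← (inv_mul_eq_one.mp h1)]
  apply eq_inv_of_mul_eq_one_left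
  rw [← hx3, pow_succ, pow_two]

end CfsgLib.PermSmall.SharpThree
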