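import Cfsg.Agent.Lib.InvChar.UniqueInvolution
import Cfsg.Agent.Lib.PermSmall.SharpThree
import Mathlib.GroupTheory.Transfer
import Mathlib.GroupTheory.FixedPointFree
import Mathlib.LinearAlgebra.Determinant
import Mathlib.Algebra.Module.ZMod
import Mathlib.FieldTheory.Finiteness
import Mathlib.Algebra.Field.ZMod

/-!
Two-point stabilisers of sharply 3-transitive groups of degree `p ^ f + 1` with `f` odd are abelian.
-/

namespace CfsgLib.PermSmall.NoReal

open MulAction

/-- A group with one involution `z`, an involutory automorphism fixing only `1` and `z`, and in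
which only elements squaring to one are conjugate to their inverses, is abelian. -/
theorem isMulCommutative_of_no_real {H : Type*} [Group H] [Finite H] (σ : H →* H)
    (hσ : Function.Involutive σ) (z : H) (hz1 : z ≠ 1) (hz2 : z * z = 1)
    (hfix : ∀ h, σ h = h → h = 1 ∨ h = z) (huniq : ∀ w : H, w * w = 1 → w = 1 ∨ w = z)
    (hreal : ∀ x y : H, y * x * y⁻¹ = x⁻¹ → x * x = 1) : IsMulCommutative H := by
  classical
  haveI : Fact (Nat.Prime 2) := ⟨Nat.prime_two⟩
  obtain ⟨P⟩ : Nonempty (Sylow 2 H) := inferInstance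
  have h1P : ∀ u v : (P : Subgroup H), orderOf u = 2 → orderOf v = 2 → u = v := by
    have key : ∀ u : (P : Subgroup H), orderOf u = 2 → (u : H) = z := by
      intro u hu
      have hu2 : (u : H) * u = 1 := by
        have := congrArg Subtype.val (pow_orderOf_eq_one u)
        rw [hu, Subgroup.coe_pow, pow_two] at this
        exact this
      refine (huniq _ hu2).resolve_left fun e => ?_
      rw [Subtype.ext (a1 := u) (a2 := 1) e, orderOf_one] at hu
      omega
    intro u v hu hv
    exact Subtype.ext ((key u hu).trans (key v hv).symm)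
  have hPc : IsMulCommutative (P : Subgroup H) := by
    by_contra hnc
    obtain ⟨a, m, hm, ha, hidx, hout⟩ :=
      CfsgLib.InvChar.exists_cyclic_index_two P.isPGroup' hnc h1P
    obtain ⟨y, hy⟩ : ∃ y, y ∉ Subgroup.zpowers a := by
      by_contra hall
      simp only [not_exists, not_not] at hall
      rw [(Subgroup.eq_top_iff' _).mpr hall, Subgroup.index_top] at hidx
      omega
    have h := hreal (a : H) (y : H) (congrArg Subtype.val (hout y hy).1)
    have hdvd : orderOf a ∣ 2 := orderOf_dvd_of_pow_eq_one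
      (Subtype.ext (by rw [Subgroup.coe_pow, pow_two]; exact h))
    have h4 : 4 ≤ 2 ^ m := le_trans (by norm_num) (Nat.pow_le_pow_right (by norm_num) hm)
    have := Nat.le_of_dvd (by norm_num) hdvd
    omega
  obtain ⟨g, hg⟩ := CfsgLib.InvChar.exists_zpowers_eq_of_commute P.isPGroup' h1P ⊤
    (fun u _ v _ => hPc.is_comm.comm u v)
  have hPcyc : IsCyclic (P : Subgroup H) :=
    ⟨g, fun u => by
      have : u ∈ Subgroup.zpowers g := hg ▸ Subgroup.mem_top u
      exact this⟩
  have hHeven : 2 ∣ Nat.card H := by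
    have : orderOf z = 2 := orderOf_eq_prime (by rw [pow_two, hz2]) hz1
    rw [← this]; exact orderOf_dvd_natCard z
  have hmin : (Nat.card H).minFac = 2 := (Nat.minFac_eq_two_iff _).mpr hHeven
  set O := (MonoidHom.transferSylow P (hPcyc.normalizer_le_centralizer hmin)).ker with hOdef
  have hcompl : O.IsComplement' P := hPcyc.isComplement' hmin
  have hOodd : ¬ 2 ∣ Nat.card O := by
    rw [← hcompl.index_eq_card]
    exact P.not_dvd_index
  have hOidx : O.index = Nat.card P := hcompl.symm.index_eq_card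
  -- membership in `O` is oddness of the order
  have hmemO : ∀ h : H, Odd (orderOf h) → h ∈ O := by
    intro h hodd
    have hpow : h ^ O.index ∈ O := Subgroup.pow_index_mem O h
    obtain ⟨m, hm⟩ := IsPGroup.iff_card.mp P.isPGroup'
    rw [hOidx, hm] at hpow
    have hcop : Nat.Coprime (2 ^ m) (orderOf h) :=
      Nat.Coprime.pow_left m (Nat.coprime_two_left.mpr hodd)
    obtain ⟨k, hk⟩ := exists_pow_eq_self_of_coprime hcop
    rw [← hk]
    exact pow_mem hpow k
  have hOmem : ∀ h ∈ O, Odd (orderOf h) := by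
    intro h hh
    rw [← Nat.not_even_iff_odd, even_iff_two_dvd]
    intro h2
    exact hOodd (h2.trans (Subgroup.orderOf_mk h hh ▸ orderOf_dvd_natCard _))
  have hσO : ∀ h ∈ O, σ h ∈ O := by
    intro h hh
    refine hmemO _ ?_
    exact (hOmem h hh).of_dvd_nat (orderOf_map_dvd σ h)
  let φ : O →* O :=
    { toFun := fun h => ⟨σ h, hσO h h.2⟩
      map_one' := Subtype.ext (map_one σ)
      map_mul' := fun h k => Subtype.ext (map_mul σ _ _) }
  have hfpf : MonoidHom.FixedPointFree φ := by
    intro h hh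
    rcases hfix h (congrArg Subtype.val hh) with e | e
    · exact Subtype.ext e
    · exfalso
      have := hOmem _ h.2
      rw [e, orderOf_eq_prime (p := 2) (by rw [pow_two, hz2]) hz1] at this
      exact (Nat.not_odd_iff_even.mpr even_two) this
  have hφinv : Function.Involutive φ := fun h => Subtype.ext (hσ h)
  have hσinv : ∀ o ∈ O, σ o = o⁻¹ := fun o ho =>
    congrArg Subtype.val (congrFun (hfpf.coe_eq_inv_of_involutive hφinv) ⟨o, ho⟩)
  have hOcomm : ∀ o ∈ O, ∀ p ∈ O, o * p = p * o := fun o ho p hp =>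
    congrArg Subtype.val (hfpf.commute_all_of_involutive hφinv ⟨o, ho⟩ ⟨p, hp⟩)
  have hOn : O.Normal := MonoidHom.normal_ker _
  -- the centraliser of `O` has index at most two
  set C := Subgroup.centralizer (O : Set H) with hC
  have hinC : ∀ h : H, h⁻¹ * σ h ∈ C := by
    intro h
    rw [hC, Subgroup.mem_centralizer_iff]
    intro o ho
    have ho' : h * o * h⁻¹ ∈ O := hOn.conj_mem o ho h
    have e1 : σ h * o⁻¹ * (σ h)⁻¹ = h * o⁻¹ * h⁻¹ := by
      calc σ h * o⁻¹ * (σ h)⁻¹ = σ h * σ o * (σ h)⁻¹ := by rw [hσinv o ho]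
        _ = σ (h * o * h⁻¹) := by rw [map_mul, map_mul, map_inv]
        _ = h * o⁻¹ * h⁻¹ := by rw [hσinv _ ho']; group
    have e2 := congrArg (·⁻¹) e1
    simp only [mul_inv_rev, inv_inv, ← mul_assoc] at e2
    calc o * (h⁻¹ * σ h) = h⁻¹ * (h * o * h⁻¹) * σ h := by group
      _ = h⁻¹ * (σ h * o * (σ h)⁻¹) * σ h := by rw [e2]
      _ = h⁻¹ * σ h * o := by group
  have hCcard : Nat.card H ≤ 2 * Nat.card C := by
    haveI := Fintype.ofFinite H
    let f : H → C := fun h => ⟨h⁻¹ * σ h, hinC h⟩
    have hfib : ∀ y ∈ (Finset.univ : Finset H).image f,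
        ((Finset.univ : Finset H).filter (fun h => f h = y)).card ≤ 2 := by
      intro y hy
      obtain ⟨h0, -, rfl⟩ := Finset.mem_image.mp hy
      refine le_trans (Finset.card_le_card (t := {h0, z * h0}) fun h hh => ?_) Finset.card_le_two
      have e : h⁻¹ * σ h = h0⁻¹ * σ h0 := congrArg Subtype.val (Finset.mem_filter.mp hh).2
      have e2 : σ (h * h0⁻¹) = h * h0⁻¹ := by
        rw [map_mul, map_inv]
        calc σ h * (σ h0)⁻¹ = h * (h⁻¹ * σ h) * (σ h0)⁻¹ := by group
          _ = h * (h0⁻¹ * σ h0) * (σ h0)⁻¹ := by rw [e]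
          _ = h * h0⁻¹ := by group
      rcases hfix _ e2 with e3 | e3
      · simp [mul_inv_eq_one.mp e3]
      · simp [mul_inv_eq_iff_eq_mul.mp e3]
    have := Finset.card_le_mul_card_image (Finset.univ : Finset H) 2 hfib
    rw [Finset.card_univ, ← Nat.card_eq_fintype_card] at this
    refine this.trans (Nat.mul_le_mul_left 2 ?_)
    rw [Nat.card_eq_fintype_card]
    exact Finset.card_le_univ _
  have hsqC : ∀ h : H, h * h ∈ C := by
    intro h
    have hidx : C.index ≤ 2 := by
      have := C.index_mul_card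
      have hpos : 0 < Nat.card C := Nat.card_pos
      by_contra hcon
      have h3 : 3 * Nat.card C ≤ C.index * Nat.card C := Nat.mul_le_mul_right _ (by omega)
      omega
    have hpos : C.index ≠ 0 := Subgroup.index_ne_zero_of_finite
    interval_cases hi : C.index
    · exact absurd rfl hpos
    · rw [Subgroup.index_eq_one] at hi; rw [hi]; trivial
    · exact Subgroup.mul_self_mem_of_index_two hi h
  -- the generator of the Sylow subgroup centralises `O`
  have hgO : ∀ o ∈ O, (g : H) * o = o * g := by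
    intro o ho
    have hg2 : o * ((g : H) * g) = ((g : H) * g) * o :=
      Subgroup.mem_centralizer_iff.mp (hsqC (g : H)) o ho
    set x := (g : H) * o * (g : H)⁻¹ * o⁻¹ with hx
    have hgo : (g : H) * o * (g : H)⁻¹ ∈ O := hOn.conj_mem o ho _
    have hxx : x * x = 1 := by
      refine hreal x (g : H) ?_
      calc (g : H) * x * (g : H)⁻¹
          = ((g : H) * g) * o * ((g : H) * g)⁻¹ * ((g : H) * o * (g : H)⁻¹)⁻¹ := by rw [hx]; group
        _ = o * ((g : H) * o * (g : H)⁻¹)⁻¹ := by rw [← hg2]; group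
        _ = x⁻¹ := by rw [hx]; group
    have hxO : x ∈ O := mul_mem hgo (inv_mem ho)
    have hx1 : x = 1 := by
      have hdvd : orderOf x ∣ 2 := orderOf_dvd_of_pow_eq_one (by rw [pow_two, hxx])
      rcases (Nat.dvd_prime Nat.prime_two).mp hdvd with e | e
      · exact orderOf_eq_one_iff.mp e
      · exact absurd (e ▸ hOmem x hxO) (Nat.not_odd_iff_even.mpr even_two)
    calc (g : H) * o = x * o * g := by rw [hx]; group
      _ = o * g := by rw [hx1, one_mul]
  have hdec : ∀ h : H, ∃ o ∈ O, ∃ i : ℤ, h = o * (g : H) ^ i := by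
    intro h
    obtain ⟨⟨⟨o, ho⟩, ⟨p, hp⟩⟩, he⟩ := hcompl.2 h
    obtain ⟨i, hi⟩ := Subgroup.mem_zpowers_iff.mp (hg ▸ Subgroup.mem_top (⟨p, hp⟩ : (P : Subgroup H)))
    refine ⟨o, ho, i, ?_⟩
    rw [← he]
    have := congrArg Subtype.val hi
    rw [Subgroup.coe_zpow] at this
    rw [this]
  refine ⟨⟨fun h k => ?_⟩⟩
  obtain ⟨o, ho, i, rfl⟩ := hdec h
  obtain ⟨p, hp, j, rfl⟩ := hdec k
  have c0 : Commute o p := hOcomm o ho p hp
  have c1 : Commute o ((g : H) ^ j) := ((show Commute (g : H) o from hgO o ho).symm.zpow_right j)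
  have c2 : Commute ((g : H) ^ i) p := ((show Commute (g : H) p from hgO p hp).zpow_left i)
  exact ((c0.mul_right c1).mul_left (c2.mul_right (Commute.zpow_zpow (Commute.refl (g : H)) i j))).eq

/-- In odd dimension and characteristic not two, a linear automorphism with neither `1` nor `-1` as
an eigenvalue is not conjugate to its inverse. -/
theorem false_of_linear_conj_inv {K V : Type*} [Field K] [AddCommGroup V] [Module K V]
    (hK : (-1 : K) ≠ 1) (hodd : Odd (Module.finrank K V)) (a b : V ≃ₗ[K] V)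
    (hconj : ∀ u, b (a (b.symm u)) = a.symm u) (h1 : ∀ u, a u = u → u = 0)
    (h2 : ∀ u, a (a u) = u → u = 0) : False := by
  set A : Module.End K V := a.toLinearMap with hA
  set A' : Module.End K V := a.symm.toLinearMap with hA'
  set B : Module.End K V := b.toLinearMap with hB
  set B' : Module.End K V := b.symm.toLinearMap with hB'
  have hA'A : A' * A = 1 := LinearMap.ext fun u => a.symm_apply_apply u
  have hBB' : B * B' = 1 := LinearMap.ext fun u => b.apply_symm_apply u
  have hconj' : B * A * B' = A' := LinearMap.ext hconj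
  have hdet : ∀ T : Module.End K V, LinearMap.det (B * T * B') = LinearMap.det T := by
    intro T
    rw [map_mul, map_mul, mul_comm (LinearMap.det B), mul_assoc, ← map_mul, hBB', map_one, mul_one]
  have hne1 : LinearMap.det (A - 1) ≠ 0 := fun h0 => by
    obtain ⟨u, hu, hu0⟩ := (Submodule.ne_bot_iff _).mp (LinearMap.bot_lt_ker_of_det_eq_zero h0).ne'
    exact hu0 (h1 u (sub_eq_zero.mp hu))
  have hne2 : LinearMap.det (A + 1) ≠ 0 := fun h0 => by
    obtain ⟨u, hu, hu0⟩ := (Submodule.ne_bot_iff _).mp (LinearMap.bot_lt_ker_of_det_eq_zero h0).ne'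
    have e : a u = -u := eq_neg_of_add_eq_zero_left hu
    exact hu0 (h2 u (by rw [e, map_neg, e, neg_neg]))
  have hminus : LinearMap.det A' * (-1) ^ Module.finrank K V = 1 := by
    have e1 : A' - 1 = B * (A - 1) * B' := by
      rw [mul_sub, sub_mul, mul_one, hconj', hBB']
    have e2 : A' - 1 = A' * ((-1 : K) • (A - 1)) := by
      rw [neg_one_smul, neg_sub, mul_sub, mul_one, hA'A]
    have h3 := congrArg LinearMap.det (e1.symm.trans e2)
    rw [hdet, map_mul, LinearMap.det_smul, ← mul_assoc] at h3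
    exact mul_right_cancel₀ hne1 (h3.symm.trans (one_mul _).symm)
  have hplus : LinearMap.det A' = 1 := by
    have e1 : A' + 1 = B * (A + 1) * B' := by
      rw [mul_add, add_mul, mul_one, hconj', hBB']
    have e2 : A' + 1 = A' * (A + 1) := by
      rw [mul_add, mul_one, hA'A, add_comm]
    have h3 := congrArg LinearMap.det (e1.symm.trans e2)
    rw [hdet, map_mul] at h3
    exact mul_right_cancel₀ hne2 (h3.symm.trans (one_mul _).symm)
  rw [hplus, hodd.neg_one_pow, one_mul] at hminus
  exact hK hminus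

/-- The previous lemma for an elementary abelian group of odd rank. -/
theorem false_of_conj_inv {W : Type*} [AddCommGroup W] [Finite W] {p f : ℕ} [hp : Fact p.Prime]
    (hp2 : p ≠ 2) (hf : Odd f) (hcard : Nat.card W = p ^ f) (hexp : ∀ u : W, p • u = 0)
    (a b : W ≃+ W) (hconj : ∀ u, b (a (b.symm u)) = a.symm u)
    (h1 : ∀ u, a u = u → u = 0) (h2 : ∀ u, a (a u) = u → u = 0) : False := by
  letI : Module (ZMod p) W := AddCommGroup.zmodModule hexp
  have hfin : Module.Finite (ZMod p) W := Module.Finite.of_finite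
  have hrank : Module.finrank (ZMod p) W = f := by
    have h : Nat.card W = Nat.card (ZMod p) ^ Module.finrank (ZMod p) W :=
      @Module.natCard_eq_pow_finrank (ZMod p) W _ _ _ hfin
    rw [Nat.card_zmod, hcard] at h
    exact (Nat.pow_right_injective hp.out.two_le h).symm
  haveI : Fact (2 < p) := ⟨lt_of_le_of_ne hp.out.two_le (Ne.symm hp2)⟩
  exact false_of_linear_conj_inv (K := ZMod p) (ZMod.neg_one_ne_one (n := p))
    (hrank.symm ▸ hf)
    { a with map_smul' := fun c u => ZMod.map_smul a c u }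
    { b with map_smul' := fun c u => ZMod.map_smul b c u } hconj h1 h2

open CfsgLib.PermSmall.Zassenhaus (pairStab)
open CfsgLib.PermSmall.SharpThree (Setup)

/-- In degree `p ^ f + 1`, `f` odd, only involutions of a two-point stabiliser are conjugate to
their inverses there. -/
theorem no_real {G Ω : Type*} [Group G] [Finite G] [MulAction G Ω] [Fintype Ω] {a b : Ω}
    (S : Setup G a b) {p f : ℕ} (hp : p.Prime) (hp2 : p ≠ 2) (hf : Odd f)
    (hcard : Fintype.card Ω = p ^ f + 1) {x y : G} (hx : x ∈ pairStab G a b)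
    (hy : y ∈ pairStab G a b) (hxy : y * x * y⁻¹ = x⁻¹) : x * x = 1 := by
  classical
  by_contra hxx
  haveI := Fact.mk hp
  letI : CommGroup S.F := { (inferInstance : Group S.F) with mul_comm := S.F_comm.is_comm.comm }
  have hcF : Nat.card S.F = p ^ f := by
    rw [Kernel.card_regular S.ne S.F_le S.regular, hcard, Nat.add_sub_cancel]
  -- no non-trivial element is fixed by a non-trivial element of the stabiliser
  have hfree : ∀ h ∈ pairStab G a b, h ≠ 1 → ∀ u ∈ S.F, h * u * h⁻¹ = u → u = 1 := by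
    intro h hh h1 u hu hfix
    by_contra hu1
    obtain ⟨e1, e2⟩ := Kernel.regular_ne S.ne S.F_le S.regular hu hu1
    refine h1 (S.three h a b (u • b) S.ne (Ne.symm e2) (Ne.symm e1) hh.1 hh.2 ?_)
    rw [S.smul_point hh, hfix]
  -- the prime is the exponent
  have hexp : ∀ u : S.F, u ^ p = 1 := by
    obtain ⟨v, hv⟩ := exists_prime_orderOf_dvd_card' (G := S.F) p
      (hcF ▸ dvd_pow_self p (by rintro rfl; exact (Nat.not_odd_iff_even.mpr ⟨0, rfl⟩) hf))
    have hv1 : (v : G) ≠ 1 := fun e => by
      rw [Subtype.ext (a1 := v) (a2 := 1) e, orderOf_one] at hv; exact hp.one_lt.ne hv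
    let M : Subgroup G :=
      { carrier := {u | u ∈ S.F ∧ u ^ p = 1}
        one_mem' := ⟨one_mem _, one_pow _⟩
        mul_mem' := fun {u w} hu hw => ⟨mul_mem hu.1 hw.1, by
          rw [(show Commute u w from congrArg Subtype.val (mul_comm (⟨u, hu.1⟩ : S.F) ⟨w, hw.1⟩)).mul_pow,
            hu.2, hw.2, one_mul]⟩
        inv_mem' := fun {u} hu => ⟨inv_mem hu.1, by rw [inv_pow, hu.2, inv_one]⟩ }
    have hM := Kernel.irreducible_of_transitive S.ne S.F_le (fun g hg u hu => S.norm hg hu)
      S.regular S.trans M (fun u hu => hu.1)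
      (fun g hg u hu => ⟨S.norm hg hu.1, by rw [conj_pow, hu.2, mul_one, mul_inv_cancel]⟩)
      ⟨v, ⟨v.2, by rw [← hv, ← Subgroup.orderOf_coe, pow_orderOf_eq_one]⟩, hv1⟩
    intro u
    exact Subtype.ext (by
      rw [Subgroup.coe_pow]
      exact ((hM.symm ▸ u.2 : (u : G) ∈ M)).2)
  let conjF : ∀ h ∈ pairStab G a b, (S.F ≃* S.F) := fun h hh =>
    { toFun := fun u => ⟨h * (u : G) * h⁻¹, S.norm hh u.2⟩
      invFun := fun u => ⟨h⁻¹ * (u : G) * h, by simpa using S.norm (inv_mem hh) u.2⟩
      left_inv := fun u => Subtype.ext (by simp only; group)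
      right_inv := fun u => Subtype.ext (by simp only; group)
      map_mul' := fun u w => Subtype.ext (by simp) }
  have hx1 : x ≠ 1 := fun e => hxx (by rw [e, one_mul])
  refine false_of_conj_inv (p := p) (W := Additive S.F) hp2 hf hcF
    (fun u => Additive.toMul.injective (hexp (Additive.toMul u)))
    (MulEquiv.toAdditive (conjF x hx)) (MulEquiv.toAdditive (conjF y hy)) ?_ ?_ ?_
  · intro u
    obtain ⟨u, rfl⟩ := Additive.ofMul.surjective u
    refine Additive.toMul.injective (Subtype.ext ?_)
    show y * (x * (y⁻¹ * (u : G) * y) * x⁻¹) * y⁻¹ = x⁻¹ * (u : G) * x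
    calc y * (x * (y⁻¹ * (u : G) * y) * x⁻¹) * y⁻¹
        = (y * x * y⁻¹) * (u : G) * (y * x * y⁻¹)⁻¹ := by group
      _ = x⁻¹ * (u : G) * x := by rw [hxy, inv_inv]
  · intro u hu
    obtain ⟨u, rfl⟩ := Additive.ofMul.surjective u
    exact Additive.toMul.injective (Subtype.ext
      (hfree x hx hx1 _ u.2 (congrArg (fun w => ((Additive.toMul w : S.F) : G)) hu)))
  · intro u hu
    obtain ⟨u, rfl⟩ := Additive.ofMul.surjective u
    refine Additive.toMul.injective (Subtype.ext (hfree (x * x) (mul_mem hx hx) hxx _ u.2 ?_))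
    have hu' : x * (x * (u : G) * x⁻¹) * x⁻¹ = (u : G) :=
      congrArg (fun w => ((Additive.toMul w : S.F) : G)) hu
    exact (show x * x * (u : G) * (x * x)⁻¹ = x * (x * (u : G) * x⁻¹) * x⁻¹ by group).trans hu'

end CfsgLib.PermSmall.NoReal
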