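import Cfsg.Agent.Lib.Maximal.CharSimple
import Mathlib.GroupTheory.GroupAction.Primitive

/-!
The intersection of a point stabiliser with a non-abelian minimal normal subgroup of a primitive
group.
-/

set_option autoImplicit false

namespace CfsgLib.PermSmall.OnanScottCore

open MulAction

section Power

variable {ι T : Type*} [Group T] [DecidableEq ι] [Finite ι]

/-- Two homomorphisms on a finite power agreeing on all factors are equal. -/
theorem hom_ext {A : Type*} [Group A] {f f' : (ι → T) →* A}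
    (h : ∀ i t, f (Pi.mulSingle i t) = f' (Pi.mulSingle i t)) (x : ι → T) : f x = f' x :=
  Subgroup.pi_mem_of_mulSingle_mem (H := MonoidHom.eqLocus f f') x fun i => h i (x i)

/-- Automorphisms of a power of a non-abelian simple group permute the factors. -/
theorem aut_perm [Finite T] [IsSimpleGroup T] (hT : ¬ IsMulCommutative T)
    (α : (ι → T) ≃* (ι → T)) :
    ∃ (σ : Equiv.Perm ι) (β : ι → T ≃* T), ∀ x i, α x (σ i) = β i (x i) := by
  classical
  have hfac : ∀ i, ∃ j, ∀ t, α (Pi.mulSingle i t) = Pi.mulSingle j (α (Pi.mulSingle i t) j) := by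
    intro i
    let M : Subgroup (ι → T) :=
      ((MonoidHom.mulSingle (fun _ => T) i).range).map α.toMonoidHom
    have hrn : ((MonoidHom.mulSingle (fun _ : ι => T) i).range).Normal := by
      refine ⟨?_⟩
      rintro _ ⟨t, rfl⟩ g
      refine ⟨g i * t * (g i)⁻¹, funext fun l => ?_⟩
      rcases eq_or_ne l i with rfl | hl
      · simp
      · simp [Pi.mulSingle_eq_of_ne hl]
    haveI : M.Normal := hrn.map _ α.surjective
    obtain ⟨t₀, ht₀⟩ := exists_ne (1 : T)
    obtain ⟨j, hj⟩ : ∃ j, α (Pi.mulSingle i t₀) j ≠ 1 := by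
      by_contra hall
      push Not at hall
      have : α (Pi.mulSingle i t₀) = 1 := funext hall
      rw [map_eq_one_iff α α.injective, Pi.mulSingle_eq_one_iff] at this
      exact ht₀ this
    let g : T →* (ι → T) := α.toMonoidHom.comp (MonoidHom.mulSingle (fun _ => T) i)
    let B : Subgroup T := ((MonoidHom.mulSingle (fun _ : ι => T) j).range).comap g
    have hjn : ((MonoidHom.mulSingle (fun _ : ι => T) j).range).Normal := by
      refine ⟨?_⟩
      rintro _ ⟨t, rfl⟩ h
      refine ⟨h j * t * (h j)⁻¹, funext fun l => ?_⟩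
      rcases eq_or_ne l j with rfl | hl
      · simp
      · simp [Pi.mulSingle_eq_of_ne hl]
    haveI : B.Normal := hjn.comap g
    obtain ⟨t₁, ht₁⟩ := exists_ne (1 : T)
    have hmem : Pi.mulSingle j t₁ ∈ M := by
      refine ((CfsgLib.Maximal.normal_pi_simple hT M) _).2 fun l hl => ?_
      rw [Pi.mulSingle_eq_of_ne]
      rintro rfl
      exact hj (hl _ ⟨_, ⟨t₀, rfl⟩, rfl⟩)
    obtain ⟨_, ⟨u, rfl⟩, hu⟩ := hmem
    have hB : B = ⊤ := by
      refine (Subgroup.Normal.eq_bot_or_eq_top ‹B.Normal›).resolve_left fun e => ?_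
      have : u ∈ B := ⟨t₁, hu.symm⟩
      rw [e, Subgroup.mem_bot] at this
      subst this
      have h2 : (1 : ι → T) = Pi.mulSingle j t₁ := by simpa using hu
      exact ht₁ (Pi.mulSingle_eq_one_iff.1 h2.symm)
    refine ⟨j, fun t => ?_⟩
    obtain ⟨v, hv⟩ : t ∈ B := hB ▸ Subgroup.mem_top t
    have hv' : Pi.mulSingle j v = α (Pi.mulSingle i t) := hv
    rw [← hv', Pi.mulSingle_eq_same]
  choose σ₀ hσ₀ using hfac
  let β₀ : ι → T →* T := fun i => ((Pi.evalMonoidHom (fun _ => T) (σ₀ i)).comp α.toMonoidHom).comp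
    (MonoidHom.mulSingle (fun _ => T) i)
  have hβ₀ : ∀ i t, α (Pi.mulSingle i t) = Pi.mulSingle (σ₀ i) (β₀ i t) := hσ₀
  have hinj : ∀ i, Function.Injective (β₀ i) := fun i t u e => by
    have := congrArg (fun w => Pi.mulSingle (M := fun _ : ι => T) (σ₀ i) w) e
    simp only [← hβ₀] at this
    exact Pi.mulSingle_injective i (α.injective this)
  have hbij : ∀ i, Function.Bijective (β₀ i) := fun i => Finite.injective_iff_bijective.1 (hinj i)
  have hσ : Function.Injective σ₀ := by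
    intro i i' e
    by_contra hne
    obtain ⟨t, ht⟩ := exists_ne (1 : T)
    obtain ⟨u, hu⟩ := (hbij i').2 (β₀ i t)
    have h1 : α (Pi.mulSingle i t) = α (Pi.mulSingle i' u) := by rw [hβ₀, hβ₀, hu, e]
    have h2 := congrFun (α.injective h1) i
    rw [Pi.mulSingle_eq_same, Pi.mulSingle_eq_of_ne hne] at h2
    exact ht h2
  refine ⟨Equiv.ofBijective σ₀ (Finite.injective_iff_bijective.1 hσ),
    fun i => MulEquiv.ofBijective (β₀ i) (hbij i), fun x i => ?_⟩
  refine hom_ext (f := (Pi.evalMonoidHom (fun _ => T) (σ₀ i)).comp α.toMonoidHom)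
    (f' := (β₀ i).comp (Pi.evalMonoidHom (fun _ => T) i)) (fun l t => ?_) x
  show α (Pi.mulSingle l t) (σ₀ i) = β₀ i (Pi.mulSingle (M := fun _ : ι => T) l t i)
  rcases eq_or_ne i l with rfl | hl
  · rw [hβ₀, Pi.mulSingle_eq_same, Pi.mulSingle_eq_same]
  · rw [hβ₀, Pi.mulSingle_eq_of_ne (fun e => hl (hσ e)), Pi.mulSingle_eq_of_ne hl, map_one]

/-- Scott's lemma: a subdirect subgroup of a power of a non-abelian simple group with pairwise
distinct projection kernels at a set `R` of indices projects onto the product over `R`. -/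
theorem exists_mem_of_distinct [IsSimpleGroup T] (hT : ¬ IsMulCommutative T)
    (L : Subgroup (ι → T)) (hsurj : ∀ i t, ∃ x ∈ L, x i = t) (R : Set ι)
    (hR : ∀ r ∈ R, ∀ s ∈ R, (∀ x ∈ L, x r = 1 ↔ x s = 1) → r = s) (v : ι → T) :
    ∃ x ∈ L, ∀ r ∈ R, x r = v r := by
  classical
  haveI := Fintype.ofFinite ι
  have hnorm : ∀ (S : Finset ι) (s : ι), (Subgroup.pi (S : Set ι) (fun _ => (⊥ : Subgroup T)) ⊓
      L).map (Pi.evalMonoidHom (fun _ => T) s) = ⊥ ∨
      (Subgroup.pi (S : Set ι) (fun _ => (⊥ : Subgroup T)) ⊓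
      L).map (Pi.evalMonoidHom (fun _ => T) s) = ⊤ := by
    intro S s
    refine Subgroup.Normal.eq_bot_or_eq_top ⟨?_⟩
    rintro _ ⟨y, ⟨hy, hyL⟩, rfl⟩ t
    obtain ⟨z, hz, rfl⟩ := hsurj s t
    refine ⟨z * y * z⁻¹, Subgroup.mem_inf.2 ⟨?_, mul_mem (mul_mem hz hyL) (inv_mem hz)⟩, rfl⟩
    rw [Subgroup.mem_pi]
    intro r hr
    have := Subgroup.mem_bot.1 (hy r hr)
    rw [Subgroup.mem_bot, Pi.mul_apply, Pi.mul_apply, Pi.inv_apply]
    rw [this, mul_one, mul_inv_cancel]
  have hfull : ∀ (S : Finset ι) (s : ι), s ∈ R → (∀ r ∈ S, r ∈ R ∧ r ≠ s) →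
      ∀ t, ∃ x ∈ L, (∀ r ∈ S, x r = 1) ∧ x s = t := by
    intro S
    induction S using Finset.induction with
    | empty => intro s _ _ t; obtain ⟨x, hx, hxs⟩ := hsurj s t; exact ⟨x, hx, by simp, hxs⟩
    | @insert r S hrS ih =>
      intro s hs hS
      have hrR := hS r (Finset.mem_insert_self _ _)
      have ihs := ih s hs fun q hq => hS q (Finset.mem_insert_of_mem hq)
      -- an element trivial at `r` but not at `s`
      obtain ⟨y, hy, hyr, hys⟩ : ∃ y ∈ L, y r = 1 ∧ y s ≠ 1 := by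
        by_contra hall
        simp only [not_exists, not_and, not_not] at hall
        refine hrR.2 (hR r hrR.1 s hs fun x hx => ⟨fun h => hall x hx h, fun h => ?_⟩)
        by_contra hne
        have hcl : ∀ t, ∃ z ∈ L, z s = 1 ∧ z r = t := by
          intro t
          let D : Subgroup T :=
            ((Pi.evalMonoidHom (fun _ : ι => T) s).ker ⊓ L).map (Pi.evalMonoidHom (fun _ => T) r)
          have hD : D.Normal := by
            refine ⟨?_⟩
            rintro _ ⟨z, ⟨hz, hzL⟩, rfl⟩ u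
            obtain ⟨w, hw, rfl⟩ := hsurj r u
            refine ⟨w * z * w⁻¹, Subgroup.mem_inf.2 ⟨?_, mul_mem (mul_mem hw hzL) (inv_mem hw)⟩, rfl⟩
            have hz' : z s = 1 := hz
            show w s * z s * (w s)⁻¹ = 1
            rw [hz', mul_one, mul_inv_cancel]
          rcases hD.eq_bot_or_eq_top with e | e
          · have : x r ∈ D := ⟨x, ⟨h, hx⟩, rfl⟩
            rw [e, Subgroup.mem_bot] at this
            exact absurd this hne
          · obtain ⟨z, ⟨hz, hzL⟩, hzt⟩ : t ∈ D := e ▸ Subgroup.mem_top t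
            exact ⟨z, hzL, hz, hzt⟩
        -- then every element is trivial at `s`
        obtain ⟨t, ht⟩ := exists_ne (1 : T)
        obtain ⟨z, hz, hzs⟩ := hsurj s t
        obtain ⟨w, hw, hws, hwr⟩ := hcl (z r)
        have := hall (z * w⁻¹) (mul_mem hz (inv_mem hw)) (by
          rw [Pi.mul_apply, Pi.inv_apply, hwr, mul_inv_cancel])
        rw [Pi.mul_apply, Pi.inv_apply, hws, inv_one, mul_one, hzs] at this
        exact ht this
      obtain ⟨u, hu⟩ : ∃ u, u * y s ≠ y s * u := by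
        by_contra hall
        simp only [not_exists, not_not] at hall
        have hc : y s ∈ Subgroup.center T := Subgroup.mem_center_iff.2 hall
        rcases (inferInstance : (Subgroup.center T).Normal).eq_bot_or_eq_top with e | e
        · rw [e, Subgroup.mem_bot] at hc; exact hys hc
        · exact hT ⟨⟨fun a b => (Subgroup.mem_center_iff.1 (e ▸ Subgroup.mem_top b : b ∈ _) a)⟩⟩
      obtain ⟨x, hx, hxS, hxs⟩ := ihs u
      intro t
      have hne : (Subgroup.pi (↑(insert r S) : Set ι) (fun _ => (⊥ : Subgroup T)) ⊓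
          L).map (Pi.evalMonoidHom (fun _ => T) s) ≠ ⊥ := by
        intro e
        have hmem : (x * y * x⁻¹ * y⁻¹) s ∈ (Subgroup.pi (↑(insert r S) : Set ι)
            (fun _ => (⊥ : Subgroup T)) ⊓ L).map
              (Pi.evalMonoidHom (fun _ => T) s) := by
          refine ⟨x * y * x⁻¹ * y⁻¹, Subgroup.mem_inf.2 ⟨?_, mul_mem (mul_mem (mul_mem hx hy) (inv_mem hx))
            (inv_mem hy)⟩, rfl⟩
          rw [Subgroup.mem_pi]
          intro q hq
          rw [Subgroup.mem_bot]
          rcases Finset.mem_insert.1 (Finset.mem_coe.1 hq) with rfl | hq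
          · simp [hyr]
          · simp [hxS q hq]
        rw [e, Subgroup.mem_bot] at hmem
        simp only [Pi.mul_apply, Pi.inv_apply, hxs] at hmem
        rw [mul_inv_eq_one, mul_inv_eq_iff_eq_mul] at hmem
        exact hu hmem
      obtain ⟨z, ⟨hz, hzL⟩, hzt⟩ : t ∈ _ := ((hnorm _ s).resolve_left hne) ▸ Subgroup.mem_top t
      refine ⟨z, hzL, fun q hq => ?_, hzt⟩
      exact Subgroup.mem_bot.1 (hz q (Finset.mem_coe.2 hq))
  let f : (ι → T) →* ({i // i ∈ R} → T) := MonoidHom.pi fun r => Pi.evalMonoidHom _ r.1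
  obtain ⟨x, hx, hxv⟩ : (fun r : {i // i ∈ R} => v r.1) ∈ L.map f := by
    refine Subgroup.pi_mem_of_mulSingle_mem _ fun s => ?_
    obtain ⟨x, hx, hxo, hxs⟩ := hfull (Finset.univ.filter fun r => r ∈ R ∧ r ≠ s.1) s.1 s.2
      (fun r hr => (Finset.mem_filter.1 hr).2) (v s.1)
    refine ⟨x, hx, funext fun r => ?_⟩
    show x r.1 = _
    rcases eq_or_ne r s with rfl | hne
    · rw [Pi.mulSingle_eq_same, hxs]
    · rw [Pi.mulSingle_eq_of_ne hne, hxo r.1]
      exact Finset.mem_filter.2 ⟨Finset.mem_univ _, r.2, fun e => hne (Subtype.ext e)⟩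
  exact ⟨x, hx, fun r hr => congrFun hxv ⟨r, hr⟩⟩

end Power

/-- The two shapes of an invariant subgroup maximal among the invariant subgroups. -/
theorem shape {T : Type*} [Group T] [Finite T] [IsSimpleGroup T] (hT : ¬ IsMulCommutative T)
    {m : ℕ} (L : Subgroup (Fin m → T)) (hLtop : L ≠ ⊤) (A : Set ((Fin m → T) ≃* (Fin m → T)))
    (hA : ∀ α ∈ A, ∀ x, α x ∈ L ↔ x ∈ L)
    (hmax : ∀ M : Subgroup (Fin m → T), L ≤ M → (∀ α ∈ A, ∀ x ∈ M, α x ∈ M) → M = L ∨ M = ⊤)
    (htrans : ∀ S : Set (Fin m), S.Nonempty → (∀ α ∈ A, ∀ (σ : Equiv.Perm (Fin m))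
      (β : Fin m → T ≃* T), (∀ x i, α x (σ i) = β i (x i)) → ∀ i ∈ S, σ i ∈ S) →
      S = Set.univ) :
    (∃ K : Fin m → Subgroup T, (∀ i, K i ≠ ⊤) ∧ ∀ x, x ∈ L ↔ ∀ i, x i ∈ K i) ∨
      ∃ (k : ℕ) (c : Fin m → Fin m) (ψ : Fin m → T ≃* T), 2 ≤ k ∧
        (∀ j, Nat.card {i // c i = j} = k ∨ Nat.card {i // c i = j} = 0) ∧
        ∀ x, x ∈ L ↔ ∀ i j, c i = c j → ψ i (x i) = ψ j (x j) := by
  classical
  let p : Fin m → Subgroup T := fun i => L.map (Pi.evalMonoidHom (fun _ => T) i)
  by_cases hsurj : ∀ i, p i = ⊤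
  · right
    have hs : ∀ i t, ∃ x ∈ L, x i = t := fun i t => by
      obtain ⟨x, hx, hxt⟩ : t ∈ p i := (hsurj i) ▸ Subgroup.mem_top t
      exact ⟨x, hx, hxt⟩
    let st : Setoid (Fin m) := ⟨fun i j => ∀ x ∈ L, x i = 1 ↔ x j = 1,
      ⟨fun _ _ _ => Iff.rfl, fun h x hx => (h x hx).symm,
        fun h h' x hx => (h x hx).trans (h' x hx)⟩⟩
    let c : Fin m → Fin m := fun i => (Quotient.mk st i).out
    have hc : ∀ i, st.r (c i) i := fun i => Quotient.exact (Quotient.out_eq _)
    have hcc : ∀ i j, st.r i j → c i = c j := fun i j h =>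
      congrArg Quotient.out (Quotient.sound h)
    have hcidem : ∀ i, c (c i) = c i := fun i => hcc _ _ (hc i)
    choose pre hpre hpre' using hs
    have hwd : ∀ i, ∀ x ∈ L, ∀ y ∈ L, x i = y i → x (c i) = y (c i) := by
      intro i x hx y hy e
      have := (hc i (x * y⁻¹) (mul_mem hx (inv_mem hy))).2 (by
        rw [Pi.mul_apply, Pi.inv_apply, e, mul_inv_cancel])
      rwa [Pi.mul_apply, Pi.inv_apply, mul_inv_eq_one] at this
    let ψ₀ : Fin m → T →* T := fun i =>
      MonoidHom.mk' (fun t => pre i t (c i)) fun t u => by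
        rw [← Pi.mul_apply]
        exact hwd i _ (hpre i _) _ (mul_mem (hpre i t) (hpre i u))
          (by rw [Pi.mul_apply, hpre', hpre', hpre'])
    have hψ₀ : ∀ i, ∀ x ∈ L, ψ₀ i (x i) = x (c i) := fun i x hx =>
      hwd i _ (hpre i _) x hx (hpre' i _)
    have hψinj : ∀ i, Function.Injective (ψ₀ i) := fun i => by
      rw [injective_iff_map_eq_one]
      intro t ht
      rw [← hpre' i t]
      exact (hc i _ (hpre i t)).1 ht
    let ψ : Fin m → T ≃* T := fun i =>
      MulEquiv.ofBijective (ψ₀ i) (Finite.injective_iff_bijective.1 (hψinj i))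
    have hmem : ∀ x, x ∈ L ↔ ∀ i j, c i = c j → ψ i (x i) = ψ j (x j) := by
      intro x
      constructor
      · intro hx i j e
        show ψ₀ i (x i) = ψ₀ j (x j)
        rw [hψ₀ i x hx, hψ₀ j x hx, e]
      · intro h
        obtain ⟨y, hy, hyv⟩ := exists_mem_of_distinct hT L
          (fun i t => ⟨pre i t, hpre i t, hpre' i t⟩) {i | c i = i}
          (fun r hr s hs h' => hr.symm.trans ((hcc r s h').trans hs))
          (fun r => ψ r (x r))
        suffices y = x by rwa [← this]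
        funext i
        apply (ψ i).injective
        show ψ₀ i (y i) = ψ i (x i)
        rw [hψ₀ i y hy, hyv (c i) (hcidem i)]
        exact h _ _ (hcidem i)
    have hcard : ∀ r s, c r = r → c s = s →
        Nat.card {i // c i = r} = Nat.card {i // c i = s} := by
      intro r s hr hs
      let S : Set (Fin m) :=
        {u | Nat.card {i // c i = r} = Nat.card {i // c i = c u}}
      have hS : S = Set.univ := by
        refine htrans S ⟨r, by show _ = _; rw [hr]⟩ fun α hα σ β hσβ u hu => ?_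
        show _ = _
        refine hu.trans (Nat.card_congr (σ.subtypeEquiv fun i => ?_))
        have hrel : ∀ i j, st.r i j ↔ st.r (σ i) (σ j) := by
          intro i j
          constructor
          · intro h x hx
            obtain ⟨y, rfl⟩ := α.surjective x
            rw [hσβ, hσβ, MulEquiv.map_eq_one_iff, MulEquiv.map_eq_one_iff]
            exact h y ((hA α hα y).1 hx)
          · intro h y hy
            have := h (α y) ((hA α hα y).2 hy)
            rwa [hσβ, hσβ, MulEquiv.map_eq_one_iff, MulEquiv.map_eq_one_iff] at this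
        constructor
        · intro e
          refine hcc _ _ ((hrel i u).1 ?_)
          exact st.trans (st.symm (hc i)) (e ▸ hc u)
        · intro e
          refine hcc _ _ ((hrel i u).2 ?_)
          exact st.trans (st.symm (hc (σ i))) (e ▸ hc (σ u))
      have := hS ▸ Set.mem_univ s
      exact this.trans (by rw [hs])
    obtain ⟨i₀, hi₀⟩ : ∃ i, c i ≠ i := by
      by_contra hall
      simp only [not_exists, not_not] at hall
      refine hLtop ((Subgroup.eq_top_iff' L).2 fun x => (hmem x).2 fun i j e => ?_)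
      rw [hall, hall] at e
      rw [e]
    refine ⟨Nat.card {i // c i = c i₀}, c, ψ, ?_, fun j => ?_, hmem⟩
    · refine Finite.one_lt_card_iff_nontrivial.2
        ⟨⟨c i₀, hcidem i₀⟩, ⟨i₀, rfl⟩, fun e => hi₀ (congrArg Subtype.val e)⟩
    · by_cases hj : c j = j
      · exact Or.inl (hcard j (c i₀) hj (hcidem i₀))
      · right
        rw [Nat.card_eq_zero]
        exact Or.inl ⟨fun ⟨i, hi⟩ => hj (by rw [← hi, hcidem])⟩
  · left
    have hpA : ∀ α ∈ A, ∀ (σ : Equiv.Perm (Fin m)) (β : Fin m → T ≃* T),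
        (∀ x i, α x (σ i) = β i (x i)) → ∀ i t, β i t ∈ p (σ i) ↔ t ∈ p i := by
      intro α hα σ β hσβ i t
      constructor
      · rintro ⟨x, hx, hxt⟩
        obtain ⟨y, rfl⟩ := α.surjective x
        refine ⟨y, (hA α hα y).1 hx, (β i).injective ?_⟩
        show β i (y i) = β i t
        rw [← hσβ]; exact hxt
      · rintro ⟨y, hy, rfl⟩
        exact ⟨α y, (hA α hα y).2 hy, hσβ y i⟩
    have hall : ∀ i, p i ≠ ⊤ := by
      have hS : {i | p i ≠ ⊤} = Set.univ := by
        refine htrans _ ?_ fun α hα σ β hσβ i hi e => hi ?_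
        · push Not at hsurj
          exact hsurj
        · rw [Subgroup.eq_top_iff']
          intro t
          rw [← hpA α hα σ β hσβ, e]
          exact Subgroup.mem_top _
      intro i
      exact (hS ▸ Set.mem_univ i : i ∈ {i | p i ≠ ⊤})
    refine ⟨p, hall, fun x => ?_⟩
    have hle : L ≤ Subgroup.pi Set.univ p := fun y hy i _ => ⟨y, hy, rfl⟩
    have hinv : ∀ α ∈ A, ∀ y ∈ Subgroup.pi Set.univ p, α y ∈ Subgroup.pi Set.univ p := by
      intro α hα y hy
      obtain ⟨σ, β, hσβ⟩ := aut_perm hT α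
      intro i _
      obtain ⟨j, rfl⟩ := σ.surjective i
      show α y (σ j) ∈ p (σ j)
      rw [hσβ]
      exact (hpA α hα σ β hσβ j _).2 (hy j (Set.mem_univ j))
    rcases hmax (Subgroup.pi Set.univ p) hle hinv with e | e
    · exact ⟨fun hx i => hle hx i (Set.mem_univ i),
        fun h => e.le fun i _ => h i⟩
    · exfalso
      push Not at hsurj
      obtain ⟨i, hi⟩ := hsurj
      refine hi ((Subgroup.eq_top_iff' _).2 fun t => ?_)
      have : Pi.mulSingle i t ∈ Subgroup.pi Set.univ p := e ▸ Subgroup.mem_top _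
      simpa using this i (Set.mem_univ i)

universe u

/-- A non-abelian minimal normal subgroup of a primitive group meets a point stabiliser in a
product or in a product of diagonals. -/
theorem main {α : Type u} [Finite α] (H : Subgroup (Equiv.Perm α)) [IsPreprimitive H α]
    (N : Subgroup H) [N.Normal] (hN : N ≠ ⊥)
    (hmin : ∀ M : Subgroup H, M.Normal → M ≤ N → M = ⊥ ∨ M = N) (hnab : ¬ IsMulCommutative N)
    (a : α) :
    ∃ (T : Type) (_ : Group T) (m : ℕ) (e : N ≃* (Fin m → T)), IsSimpleGroup T ∧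
      ¬ IsMulCommutative T ∧ 0 < m ∧
      ((∃ K : Fin m → Subgroup T, (∀ i, K i ≠ ⊤) ∧
          ∀ n : N, (n : H) ∈ stabilizer H a ↔ ∀ i, e n i ∈ K i) ∨
        (∃ (k : ℕ) (c : Fin m → Fin m), 2 ≤ k ∧
          (∀ j : Fin m, Nat.card {i : Fin m // c i = j} = k ∨ Nat.card {i : Fin m // c i = j} = 0) ∧
          ∀ n : N, (n : H) ∈ stabilizer H a ↔ ∀ i j : Fin m, c i = c j → e n i = e n j)) := by
  classical
  haveI : Nontrivial N := N.nontrivial_iff_ne_bot.2 hN
  haveI : Nontrivial α := by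
    by_contra hns
    rw [not_nontrivial_iff_subsingleton] at hns
    obtain ⟨n, hn⟩ := exists_ne (1 : N)
    exact hn (Subtype.ext (Subtype.ext (Equiv.ext fun _ => Subsingleton.elim _ _)))
  haveI hnt : IsPretransitive N α := by
    refine IsQuasiPreprimitive.isPretransitive_of_normal (G := H) fun h => hN ?_
    rw [eq_bot_iff]
    intro n hn
    rw [Subgroup.mem_bot]
    refine eq_of_smul_eq_smul (α := α) fun x => ?_
    have hx : x ∈ fixedPoints N α := by rw [h]; exact Set.mem_univ x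
    rw [one_smul]
    exact hx ⟨n, hn⟩
  set K := stabilizer H a with hK
  have hcoat : IsCoatom K := IsPreprimitive.isCoatom_stabilizer_of_isPreprimitive H a
  have hNK : ¬ N ≤ K := by
    intro h
    obtain ⟨b, hb⟩ := exists_ne a
    obtain ⟨n, hn⟩ := exists_smul_eq N a b
    exact hb (hn.symm.trans (mem_stabilizer_iff.1 (h n.2)))
  have hchar : ∀ C : Subgroup N, C.Characteristic → C = ⊥ ∨ C = ⊤ := by
    intro C hC
    have hn : (C.map N.subtype).Normal := by
      refine ⟨?_⟩
      rintro _ ⟨c, hc, rfl⟩ g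
      refine ⟨MulAut.conjNormal g c, ?_, MulAut.conjNormal_apply g c⟩
      have h1 : MulAut.conjNormal g c ∈ C.map (MulAut.conjNormal g : N ≃* N).toMonoidHom :=
        ⟨c, hc, rfl⟩
      rwa [Subgroup.characteristic_iff_map_eq.1 hC (MulAut.conjNormal g)] at h1
    rcases hmin _ hn (Subgroup.map_subtype_le C) with e | e
    · exact Or.inl ((Subgroup.map_eq_bot_iff_of_injective _ N.subtype_injective).1 e)
    · refine Or.inr ((Subgroup.eq_top_iff' C).2 fun x => ?_)
      obtain ⟨y, hy, hyx⟩ : (x : H) ∈ C.map N.subtype := e.symm ▸ x.2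
      rwa [← Subtype.ext hyx]
  obtain ⟨T₀, m, hT₀, hm, ⟨e₀⟩⟩ := CfsgLib.Maximal.exists_pi_equiv_of_charSimple hchar
  let f₀ : T₀ ≃* Shrink.{0} T₀ := Shrink.mulEquiv.symm
  haveI : Finite (Shrink.{0} T₀) := Finite.of_equiv T₀ f₀.toEquiv
  haveI : IsSimpleGroup (Shrink.{0} T₀) := by
    haveI := hT₀
    haveI : Nontrivial (Shrink.{0} T₀) := f₀.symm.toEquiv.nontrivial
    exact IsSimpleGroup.isSimpleGroup_of_surjective f₀.toMonoidHom f₀.surjective
  let e : N ≃* (Fin m → Shrink.{0} T₀) := e₀.trans (MulEquiv.piCongrRight fun _ => f₀)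
  have hT : ¬ IsMulCommutative (Shrink.{0} T₀) := fun h => hnab ⟨⟨fun x y =>
    e.injective (by rw [map_mul, map_mul]; funext i; exact h.is_comm.comm _ _)⟩⟩
  set L : Subgroup (Fin m → Shrink.{0} T₀) := (K.subgroupOf N).comap e.symm.toMonoidHom with hL
  have hmemL : ∀ n : N, e n ∈ L ↔ (n : H) ∈ K := fun n => by
    rw [hL, Subgroup.mem_comap, MulEquiv.coe_toMonoidHom, MulEquiv.symm_apply_apply]; rfl
  let A : Set ((Fin m → Shrink.{0} T₀) ≃* (Fin m → Shrink.{0} T₀)) :=
    (fun k : H => e.symm.trans ((MulAut.conjNormal k : N ≃* N).trans e)) '' K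
  have hAe : ∀ (k : H) (n : N),
      (e.symm.trans ((MulAut.conjNormal k : N ≃* N).trans e)) (e n) = e (MulAut.conjNormal k n) :=
    fun k n => by simp
  have hA : ∀ φ ∈ A, ∀ x, φ x ∈ L ↔ x ∈ L := by
    rintro _ ⟨k, hk, rfl⟩ x
    obtain ⟨n, rfl⟩ := e.surjective x
    rw [hAe, hmemL, hmemL, MulAut.conjNormal_apply]
    exact ⟨fun h => by simpa [mul_assoc] using mul_mem (mul_mem (inv_mem hk) h) hk,
      fun h => mul_mem (mul_mem hk h) (inv_mem hk)⟩
  have hnormal : ∀ M : Subgroup (Fin m → Shrink.{0} T₀), (∀ φ ∈ A, ∀ x ∈ M, φ x ∈ M) →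
      K ≤ Subgroup.normalizer (((M.comap e.toMonoidHom).map N.subtype : Subgroup H) : Set H) := by
    intro M hM k hk
    have hstep : ∀ k ∈ K, ∀ y ∈ (M.comap e.toMonoidHom).map N.subtype,
        k * y * k⁻¹ ∈ (M.comap e.toMonoidHom).map N.subtype := by
      rintro k hk _ ⟨n, hn, rfl⟩
      refine ⟨MulAut.conjNormal k n, ?_, MulAut.conjNormal_apply k n⟩
      have := hM _ ⟨k, hk, rfl⟩ _ (Subgroup.mem_comap.1 hn)
      show e (MulAut.conjNormal k n) ∈ M
      simpa using this
    rw [Subgroup.mem_normalizer_iff]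
    refine fun y => ⟨fun h => hstep k hk y h, fun h => ?_⟩
    simpa [mul_assoc] using hstep k⁻¹ (inv_mem hk) _ h
  have hLtop : L ≠ ⊤ := fun h => hNK fun n hn =>
    (hmemL ⟨n, hn⟩).1 (h ▸ Subgroup.mem_top _)
  have hmax : ∀ M : Subgroup (Fin m → Shrink.{0} T₀), L ≤ M →
      (∀ φ ∈ A, ∀ x ∈ M, φ x ∈ M) → M = L ∨ M = ⊤ := by
    intro M hLM hM
    set M' := (M.comap e.toMonoidHom).map N.subtype with hM'
    rcases hcoat.le_iff.1 (le_sup_right : K ≤ M' ⊔ K) with h | h
    · right
      rw [Subgroup.eq_top_iff']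
      intro x
      obtain ⟨n, rfl⟩ := e.surjective x
      have hn : (n : H) ∈ ((M' ⊔ K : Subgroup H) : Set H) := h ▸ Subgroup.mem_top _
      rw [Subgroup.coe_mul_of_right_le_normalizer_left M' K (hnormal M hM)] at hn
      obtain ⟨_, ⟨n₁, hn₁, rfl⟩, k, hk, hnk⟩ := hn
      have hk' : ((n₁⁻¹ * n : N) : H) = k := by
        rw [Subgroup.coe_mul, Subgroup.coe_inv, inv_mul_eq_iff_eq_mul]
        exact hnk.symm
      have h2 : e (n₁⁻¹ * n) ∈ L := (hmemL _).2 (hk' ▸ hk)
      have h3 := mul_mem (Subgroup.mem_comap.1 hn₁) (hLM h2)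
      rwa [MulEquiv.coe_toMonoidHom, ← map_mul, mul_inv_cancel_left] at h3
    · left
      refine le_antisymm (fun x hx => ?_) hLM
      obtain ⟨n, rfl⟩ := e.surjective x
      exact (hmemL n).2 (h ▸ Subgroup.mem_sup_left ⟨n, Subgroup.mem_comap.2 hx, rfl⟩)
  have htrans : ∀ S : Set (Fin m), S.Nonempty → (∀ φ ∈ A, ∀ (σ : Equiv.Perm (Fin m))
      (β : Fin m → Shrink.{0} T₀ ≃* Shrink.{0} T₀), (∀ x i, φ x (σ i) = β i (x i)) →
      ∀ i ∈ S, σ i ∈ S) → S = Set.univ := by
    intro S hS hSA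
    let W : Subgroup (Fin m → Shrink.{0} T₀) :=
    { carrier := {x | ∀ i ∉ S, x i = 1}
      one_mem' := fun _ _ => rfl
      mul_mem' := fun hx hy i hi => by rw [Pi.mul_apply, hx i hi, hy i hi, one_mul]
      inv_mem' := fun hx i hi => by rw [Pi.inv_apply, hx i hi, inv_one] }
    have hW : ∀ φ ∈ A, ∀ x ∈ W, φ x ∈ W := by
      intro φ hφ x hx
      obtain ⟨σ, β, hσβ⟩ := aut_perm hT φ
      intro i hi
      obtain ⟨j, rfl⟩ := σ.surjective i
      rw [hσβ, hx j fun hj => hi (hSA φ hφ σ β hσβ j hj), map_one]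
    set W' := (W.comap e.toMonoidHom).map N.subtype with hW'
    have hWn : W.Normal := by
      refine ⟨fun x hx g => ?_⟩
      intro i hi
      rw [Pi.mul_apply, Pi.mul_apply, hx i hi, mul_one, Pi.inv_apply, mul_inv_cancel]
    have hN' : N ≤ Subgroup.normalizer (W' : Set H) := by
      intro n hn
      have hstep : ∀ n : N, ∀ y ∈ W', (n : H) * y * (n : H)⁻¹ ∈ W' := by
        rintro n _ ⟨w, hw, rfl⟩
        exact ⟨n * w * n⁻¹, (hWn.comap e.toMonoidHom).conj_mem w hw n, by simp⟩
      rw [Subgroup.mem_normalizer_iff]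
      refine fun y => ⟨fun h => hstep ⟨n, hn⟩ y h, fun h => ?_⟩
      simpa [mul_assoc] using hstep ⟨n, hn⟩⁻¹ _ h
    have htop : Subgroup.normalizer (W' : Set H) = ⊤ := by
      rw [eq_top_iff]
      refine le_trans ?_ (sup_le hN' (hnormal W hW))
      rcases hcoat.le_iff.1 (le_sup_right : K ≤ N ⊔ K) with h | h
      · rw [h]
      · exact absurd (h ▸ le_sup_left) hNK
    obtain ⟨i, hi⟩ := hS
    obtain ⟨t, ht⟩ := exists_ne (1 : Shrink.{0} T₀)
    rcases hmin W' (Subgroup.normalizer_eq_top_iff.1 htop) (Subgroup.map_subtype_le _) with h | h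
    · exfalso
      have hmem : (e.symm (Pi.mulSingle i t) : H) ∈ W' := by
        refine ⟨e.symm (Pi.mulSingle i t), ?_, rfl⟩
        show e (e.symm (Pi.mulSingle i t)) ∈ W
        rw [MulEquiv.apply_symm_apply]
        intro j hj
        rw [Pi.mulSingle_eq_of_ne]
        rintro rfl
        exact hj hi
      rw [h, Subgroup.mem_bot] at hmem
      have h2 : e.symm (Pi.mulSingle i t) = 1 := Subtype.ext hmem
      rw [map_eq_one_iff e.symm e.symm.injective, Pi.mulSingle_eq_one_iff] at h2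
      exact ht h2
    · refine Set.eq_univ_of_forall fun j => ?_
      by_contra hj
      obtain ⟨w, hw, hwe⟩ : ((e.symm (Pi.mulSingle j t) : N) : H) ∈ W' :=
        h.symm ▸ (e.symm (Pi.mulSingle j t)).2
      have : e.toMonoidHom w j = 1 := Subgroup.mem_comap.1 hw j hj
      rw [Subtype.ext hwe, MulEquiv.coe_toMonoidHom, MulEquiv.apply_symm_apply,
        Pi.mulSingle_eq_same] at this
      exact ht this
  rcases shape hT L hLtop A hA hmax htrans with ⟨Kf, hKf, hmem⟩ | ⟨k, c, ψ, hk, hck, hmem⟩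
  · exact ⟨Shrink.{0} T₀, inferInstance, m, e, ‹_›, hT, hm, Or.inl ⟨Kf, hKf, fun n =>
      (hmemL n).symm.trans (hmem _)⟩⟩
  · exact ⟨Shrink.{0} T₀, inferInstance, m, e.trans (MulEquiv.piCongrRight ψ), ‹_›, hT, hm,
      Or.inr ⟨k, c, hk, hck, fun n => (hmemL n).symm.trans (hmem _)⟩⟩

end CfsgLib.PermSmall.OnanScottCore
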