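import Mathlib
import Cfsg.Prelude.Def_Perm
import Cfsg.Agent.Lib.PermSmall.OddRecognition
import Cfsg.Agent.Lib.ClassicalGroups.PermModel

/-!
Transitive groups of degree `p + 1` and order `(p + 1) p d`, `d < p`.
-/

set_option autoImplicit false

noncomputable section

namespace CfsgLib.PermSmall.PrimeDegree

open MulAction OnePoint
open CfsgLib.PermSmall.Zassenhaus (pairStab)
open scoped Classical

variable {G α : Type*} [Group G] [MulAction G α] [Fintype α] [FaithfulSMul G α]

/-- The data of such a group. -/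
structure Setup (G : Type*) {α : Type*} [Group G] [MulAction G α] [Fintype α] (p d : ℕ) (a b : α) where
  ne : a ≠ b
  F : Subgroup G
  F_le : F ≤ stabilizer G a
  F_card : Nat.card F = p
  F_norm : ∀ g, g • a = a → ∀ u ∈ F, g * u * g⁻¹ ∈ F
  regular : ∀ y z : α, y ≠ a → z ≠ a → ∃! u : F, (u : G) • y = z
  two : IsMultiplyPretransitive G α 2
  card_pair : Nat.card (pairStab G a b) = d
  three : ∀ g : G, ∀ x y z : α, x ≠ y → y ≠ z → x ≠ z → g • x = x → g • y = y → g • z = z → g = 1

theorem exists_setup [Finite G] [IsPretransitive G α] {p d : ℕ} (hp : p.Prime)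
    (hα : Fintype.card α = p + 1) (hG : Nat.card G = (p + 1) * p * d) (hd : d < p) :
    ∃ a b : α, Nonempty (Setup G p d a b) := by
  haveI := Fact.mk hp
  obtain ⟨a, b₀, hab₀⟩ := Fintype.exists_pair_of_one_lt_card (α := α) (by have := hp.two_le; omega)
  have hd0 : 0 < d := by
    rcases Nat.eq_zero_or_pos d with rfl | h
    · rw [mul_zero] at hG; exact absurd hG Nat.card_pos.ne'
    · exact h
  have hM : Nat.card (stabilizer G a) = p * d := by
    have h := (stabilizer G a).index_mul_card
    rw [index_stabilizer_of_transitive, Nat.card_eq_fintype_card (α := α), hα, hG, mul_assoc] at h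
    exact Nat.eq_of_mul_eq_mul_left (by omega) h
  have hpd : ¬ p ∣ d := fun h => Nat.not_lt.mpr (Nat.le_of_dvd hd0 h) hd
  obtain ⟨P⟩ : Nonempty (Sylow p (stabilizer G a)) := inferInstance
  have hPc : Nat.card P = p := by
    rw [P.card_eq_multiplicity, hM, Nat.factorization_mul hp.ne_zero hd0.ne', Finsupp.add_apply,
      hp.factorization_self, Nat.factorization_eq_zero_of_not_dvd hpd, add_zero, pow_one]
  have hn1 : Nat.card (Sylow p (stabilizer G a)) = 1 := by
    have hdv := P.card_dvd_index
    have hidx : (P : Subgroup (stabilizer G a)).index = d := by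
      have h := (P : Subgroup (stabilizer G a)).index_mul_card
      rw [hM, show Nat.card (P : Subgroup (stabilizer G a)) = p from hPc, mul_comm p] at h
      exact Nat.eq_of_mul_eq_mul_right hp.pos h
    rw [hidx] at hdv
    have hmod : Nat.card (Sylow p (stabilizer G a)) ≡ 1 [MOD p] := card_sylow_modEq_one p _
    have hle := Nat.le_of_dvd hd0 hdv
    exact Nat.ModEq.eq_of_lt_of_lt hmod (by omega) hp.one_lt
  haveI : Subsingleton (Sylow p (stabilizer G a)) := (Nat.card_eq_one_iff_unique.mp hn1).1
  have hPn : (P : Subgroup (stabilizer G a)).Normal := P.normal_of_subsingleton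
  set F : Subgroup G := (P : Subgroup (stabilizer G a)).map (stabilizer G a).subtype with hF
  have hFle : F ≤ stabilizer G a := Subgroup.map_subtype_le _
  have hFc : Nat.card F = p := by
    rw [hF, Subgroup.card_map_of_injective (stabilizer G a).subtype_injective]
    exact hPc
  have hFn : ∀ g, g • a = a → ∀ u ∈ F, g * u * g⁻¹ ∈ F := by
    rintro g hg _ ⟨u, hu, rfl⟩
    exact ⟨⟨g, hg⟩ * u * (⟨g, hg⟩ : stabilizer G a)⁻¹, hPn.conj_mem u hu _, rfl⟩
  -- some point has an orbit of length `p`
  obtain ⟨y₀, hy₀⟩ : ∃ y₀ : α, stabilizer F y₀ = ⊥ := by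
    by_contra hall
    simp only [not_exists] at hall
    have htriv : ∀ u : F, u = 1 := by
      intro u
      refine Subtype.ext (eq_of_smul_eq_smul (α := α) fun y => ?_)
      haveI : Fact (Nat.card F).Prime := ⟨hFc.symm ▸ hp⟩
      have h := (stabilizer F y).eq_bot_or_eq_top_of_prime_card.resolve_left (hall y)
      have hu : u ∈ stabilizer F y := h ▸ Subgroup.mem_top u
      rw [OneMemClass.coe_one, one_smul]
      exact hu
    haveI : Subsingleton F := ⟨fun u v => (htriv u).trans (htriv v).symm⟩
    have := Nat.card_of_subsingleton (1 : F)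
    omega
  have hy₀a : y₀ ≠ a := fun e => by
    have htop : stabilizer F y₀ = ⊤ := by
      rw [Subgroup.eq_top_iff']
      intro u
      subst e
      exact hFle u.2
    rw [hy₀] at htop
    have := Subgroup.card_bot (G := F)
    rw [htop, Subgroup.card_top, hFc] at this
    exact hp.one_lt.ne' this
  let f : F → {y : α // ¬ y = a} := fun u => ⟨(u : G) • y₀, fun e =>
    hy₀a (smul_left_cancel (u : G) (e.trans (hFle u.2).symm))⟩
  have hf : Function.Bijective f := by
    refine (Nat.bijective_iff_injective_and_card _).mpr ⟨?_, ?_⟩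
    · intro u v e
      have e' : (u : G) • y₀ = (v : G) • y₀ := congrArg Subtype.val e
      have : v⁻¹ * u ∈ stabilizer F y₀ := by
        show ((v : G)⁻¹ * (u : G)) • y₀ = y₀
        rw [mul_smul, e', inv_smul_smul]
      rw [hy₀, Subgroup.mem_bot, inv_mul_eq_one] at this
      exact this.symm
    · rw [hFc, Nat.card_eq_fintype_card, Fintype.card_subtype_compl, Fintype.card_subtype_eq, hα]
      omega
  have hreg : ∀ y z : α, y ≠ a → z ≠ a → ∃! u : F, (u : G) • y = z := by
    intro y z hy hz
    obtain ⟨u, hu⟩ := hf.2 ⟨y, hy⟩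
    obtain ⟨v, hv⟩ := hf.2 ⟨z, hz⟩
    have hu' : (u : G) • y₀ = y := congrArg Subtype.val hu
    have hv' : (v : G) • y₀ = z := congrArg Subtype.val hv
    refine ⟨v * u⁻¹, ?_, fun w hw => ?_⟩
    · show ((v : G) * (u : G)⁻¹) • y = z
      rw [← hu', mul_smul, inv_smul_smul, hv']
    · have e : f (w * u) = f v := Subtype.ext (by
        show ((w : G) * (u : G)) • y₀ = (v : G) • y₀
        rw [mul_smul, hu', hv']; exact hw)
      rw [← hf.1 e, mul_inv_cancel_right]
  have h2 : IsMultiplyPretransitive G α 2 := by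
    rw [is_two_pretransitive_iff]
    intro w x y z hwx hyz
    obtain ⟨g, hg⟩ := exists_smul_eq G w a
    obtain ⟨k, hk⟩ := exists_smul_eq G y a
    have h1 : g • x ≠ a := fun e => hwx (smul_left_cancel g (hg.trans e.symm))
    have h2 : k • z ≠ a := fun e => hyz (smul_left_cancel k (hk.trans e.symm))
    obtain ⟨u, hu, -⟩ := hreg _ _ h1 h2
    refine ⟨k⁻¹ * (u : G) * g, ?_, ?_⟩
    · rw [mul_smul, mul_smul, hg, show (u : G) • a = a from hFle u.2, inv_smul_eq_iff, hk]
    · rw [mul_smul, mul_smul, hu, inv_smul_smul]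
  have hHc : Nat.card (pairStab G a y₀) = d := by
    obtain ⟨tr, htr⟩ : ∃ tr : stabilizer G a → F, ∀ m, (tr m : G) • y₀ = (m : G) • y₀ :=
      ⟨fun m => Classical.choose (hreg y₀ _ hy₀a
          (fun e => hy₀a (smul_left_cancel (m : G) (e.trans m.2.symm)))),
        fun m => (Classical.choose_spec (hreg y₀ _ hy₀a
          (fun e => hy₀a (smul_left_cancel (m : G) (e.trans m.2.symm))))).1⟩
    let sp : stabilizer G a ≃ F × pairStab G a y₀ :=
      { toFun := fun m => (tr m, ⟨(tr m : G)⁻¹ * m, Zassenhaus.mem_pairStab.mpr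
          ⟨by rw [mul_smul, show (m : G) • a = a from m.2, inv_smul_eq_iff,
              show (tr m : G) • a = a from hFle (tr m).2],
           by rw [mul_smul, ← htr, inv_smul_smul]⟩⟩)
        invFun := fun x => ⟨(x.1 : G) * x.2, mul_mem (hFle x.1.2) x.2.2.1⟩
        left_inv := fun m => Subtype.ext (by simp only; group)
        right_inv := fun x => by
          have h : tr ⟨(x.1 : G) * x.2, mul_mem (hFle x.1.2) x.2.2.1⟩ = x.1 := by
            refine hf.1 (Subtype.ext ((htr _).trans ?_))
            show ((x.1 : G) * x.2) • y₀ = (x.1 : G) • y₀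
            rw [mul_smul, show (x.2 : G) • y₀ = y₀ from x.2.2.2]
          refine Prod.ext h (Subtype.ext ?_)
          simp only [h, inv_mul_cancel_left] }
    have h := Nat.card_congr sp
    rw [Nat.card_prod, hFc, hM] at h
    exact (Nat.eq_of_mul_eq_mul_left hp.pos h).symm
  haveI hFcyc : IsCyclic F := isCyclic_of_prime_card hFc
  refine ⟨a, y₀, ⟨⟨hy₀a.symm, F, hFle, hFc, hFn, hreg, h2, hHc, ?_⟩⟩⟩
  intro g x y z hxy hyz hxz hx hy hz
  obtain ⟨m, hma, hmb⟩ := is_two_pretransitive_iff.mp h2 hxy hy₀a.symm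
  set h := m * g * m⁻¹ with hh
  have h1 : h • a = a := by rw [hh, mul_smul, mul_smul, inv_smul_eq_iff.mpr hma.symm, hx, hma]
  have h2' : h • y₀ = y₀ := by rw [hh, mul_smul, mul_smul, inv_smul_eq_iff.mpr hmb.symm, hy, hmb]
  have h3 : h • m • z = m • z := by rw [hh, mul_smul, mul_smul, inv_smul_smul, hz]
  have hza : m • z ≠ a := fun e => hxz (smul_left_cancel m (hma.trans e.symm))
  obtain ⟨u, hu, -⟩ := hreg y₀ (m • z) hy₀a hza
  have hu1 : u ≠ 1 := by
    rintro rfl
    rw [OneMemClass.coe_one, one_smul] at hu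
    exact hyz (smul_left_cancel m (hmb.trans hu))
  have hconj : (⟨h * u * h⁻¹, hFn h h1 u u.2⟩ : F) = u := hf.1 (Subtype.ext (by
    show (h * (u : G) * h⁻¹) • y₀ = (u : G) • y₀
    rw [mul_smul, mul_smul, inv_smul_eq_iff.mpr h2'.symm, hu, h3]))
  have hall : h = 1 := by
    refine eq_of_smul_eq_smul (α := α) fun w => ?_
    rw [one_smul]
    by_cases hw : w = a
    · rw [hw, h1]
    obtain ⟨v, hv⟩ := hf.2 ⟨w, hw⟩
    have hv' : (v : G) • y₀ = w := congrArg Subtype.val hv
    have hz' : v ∈ Subgroup.zpowers u := by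
      haveI : Fact (Nat.card F).Prime := ⟨hFc.symm ▸ hp⟩
      rw [((Subgroup.zpowers u).eq_bot_or_eq_top_of_prime_card).resolve_left
        (fun e => hu1 (Subgroup.zpowers_eq_bot.mp e))]
      trivial
    obtain ⟨i, rfl⟩ := Subgroup.mem_zpowers_iff.mp hz'
    have hc : Commute h (u : G) := mul_inv_eq_iff_eq_mul.mp (congrArg Subtype.val hconj)
    rw [← hv', ← mul_smul, Subgroup.coe_zpow, (hc.zpow_right i).eq, mul_smul, h2']
  exact conj_eq_one_iff.mp hall

/-- A sharply three-transitive criterion. -/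
theorem sharply_of_card [Finite G] {p d : ℕ} {a b : α} (S : Setup G p d a b)
    (hα : Fintype.card α = p + 1) (hp : p.Prime) (hp2 : p ≠ 2) (hd : d = p - 1) :
    IsMultiplyPretransitive G α 3 ∧ ∀ t : Fin 3 ↪ α, stabilizer G t = ⊥ := by
  have h3p : 3 ≤ p := lt_of_le_of_ne hp.two_le (Ne.symm hp2)
  refine ⟨CfsgLib.PermSmall.isMultiplyPretransitive_of_fixing_transitive (by omega) ?_, ?_⟩
  · intro s hs y z hy hz
    obtain ⟨c, e, hce, rfl⟩ := Finset.card_eq_two.mp (show s.card = 2 by omega)
    simp only [Finset.mem_insert, Finset.mem_singleton, not_or] at hy hz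
    let f : pairStab G c e → {w : α // w ≠ c ∧ w ≠ e} := fun h =>
      ⟨(h : G) • y, fun e' => hy.1 (smul_left_cancel (h : G) (e'.trans h.2.1.symm)),
        fun e' => hy.2 (smul_left_cancel (h : G) (e'.trans h.2.2.symm))⟩
    have hinj : Function.Injective f := by
      intro h k e'
      have e'' : (h : G) • y = (k : G) • y := congrArg Subtype.val e'
      have h1 := S.three _ c e y hce (Ne.symm hy.2) (Ne.symm hy.1)
        (mul_mem (inv_mem k.2) h.2).1 (mul_mem (inv_mem k.2) h.2).2
        (by rw [mul_smul, e'', inv_smul_smul])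
      exact Subtype.ext (inv_mul_eq_one.mp h1).symm
    have hcard : Nat.card {w : α // w ≠ c ∧ w ≠ e} = p - 1 := by
      rw [Nat.card_eq_fintype_card, Fintype.card_subtype]
      have : (Finset.univ.filter fun w : α => w ≠ c ∧ w ≠ e) = Finset.univ \ {c, e} := by
        ext w; simp
      rw [this, Finset.card_sdiff_of_subset (Finset.subset_univ _), Finset.card_univ,
        Finset.card_pair hce, hα]
      omega
    have hpc : Nat.card (pairStab G c e) = Nat.card (pairStab G a b) := by
      obtain ⟨g, rfl, rfl⟩ := is_two_pretransitive_iff.mp S.two S.ne hce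
      refine Nat.card_congr
        { toFun := fun x => ⟨g⁻¹ * (x : G) * g, ?_⟩
          invFun := fun x => ⟨g * (x : G) * g⁻¹, Zassenhaus.conj_mem_pairStab x.2⟩
          left_inv := fun x => Subtype.ext (by simp only; group)
          right_inv := fun x => Subtype.ext (by simp only; group) }
      have h := Zassenhaus.conj_mem_pairStab (g := g⁻¹) x.2
      simpa using h
    have hbij : Function.Bijective f := (Nat.bijective_iff_injective_and_card f).mpr ⟨hinj, by
      rw [hcard, hpc, S.card_pair, hd]⟩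
    obtain ⟨h, hh⟩ := hbij.2 ⟨z, hz⟩
    refine ⟨h, fun w hw => ?_, congrArg Subtype.val hh⟩
    simp only [Finset.mem_insert, Finset.mem_singleton] at hw
    rcases hw with rfl | rfl
    · exact h.2.1
    · exact h.2.2
  · intro t
    rw [Subgroup.eq_bot_iff_forall]
    intro g hg
    have hfix : ∀ i, g • t i = t i := fun i => DFunLike.congr_fun hg i
    exact S.three g (t 0) (t 1) (t 2) (fun e => by simpa using t.injective e)
      (fun e => by simpa using t.injective e) (fun e => by simpa using t.injective e)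
      (hfix 0) (hfix 1) (hfix 2)

omit [FaithfulSMul G α] in
/-- A transitive group of order six on three points is `PGL(2,2)`. -/
theorem pgl_two [Finite G] [FaithfulSMul G α] (hα : Fintype.card α = 3) (hG : Nat.card G = 6) :
    Nonempty (G ≃* Matrix.ProjGenLinGroup (Fin 2) (ZMod 2)) := by
  have hK : Fintype.card (OnePoint (ZMod 2)) = 3 := by
    rw [show Fintype.card (OnePoint (ZMod 2)) = Fintype.card (Option (ZMod 2)) from rfl,
      Fintype.card_option, ZMod.card]
  obtain ⟨e⟩ := Fintype.card_eq.mp (hα.trans hK.symm)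
  let f : G →* Equiv.Perm (OnePoint (ZMod 2)) :=
    e.permCongrHom.toMonoidHom.comp (MulAction.toPermHom G α)
  have hf : Function.Injective f := e.permCongrHom.injective.comp MulAction.toPerm_injective
  have htop : f.range = ⊤ := by
    refine Subgroup.eq_top_of_card_eq _ ?_
    rw [← Nat.card_congr (MonoidHom.ofInjective hf).toEquiv, hG, Nat.card_eq_fintype_card,
      Fintype.card_perm, hK]
    rfl
  refine Moebius.nonempty_mulEquiv_pgl f hf ?_
  refine Moebius.eq_range_glHom (fun σ hσ => ?_) (Equiv.swap ∞ ((0 : ZMod 2) : OnePoint (ZMod 2)))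
    (htop ▸ Subgroup.mem_top _) ?_ ?_ ?_
  · refine ⟨fun _ => ?_, fun _ => htop ▸ Subgroup.mem_top _⟩
    obtain ⟨β, hβ⟩ : ∃ β : ZMod 2, σ ((0 : ZMod 2) : OnePoint (ZMod 2)) = (β : OnePoint (ZMod 2)) := by
      rcases h : σ ((0 : ZMod 2) : OnePoint (ZMod 2)) with _ | β
      · exact absurd (σ.injective (h.trans hσ.symm)) (OnePoint.coe_ne_infty _)
      · exact ⟨β, rfl⟩
    refine ⟨1, β, Equiv.ext fun x => ?_⟩
    rcases x with _ | k
    · exact hσ
    show σ (k : OnePoint (ZMod 2)) = Moebius.affinePerm 1 β (k : OnePoint (ZMod 2))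
    rw [Moebius.affinePerm_coe, Units.val_one, one_mul]
    rcases h : σ (k : OnePoint (ZMod 2)) with _ | l
    · exact absurd (σ.injective (h.trans hσ.symm)) (OnePoint.coe_ne_infty _)
    have key : ∀ k l β : ZMod 2, (k = 0 ↔ l = β) → l = k + β := by decide
    refine congrArg _ (key k l β ⟨fun hk => ?_, fun hl => ?_⟩)
    · subst hk
      exact OnePoint.coe_eq_coe.mp (h.symm.trans hβ)
    · subst hl
      exact OnePoint.coe_eq_coe.mp (σ.injective (h.trans hβ.symm))
  · simp
  · simp
  · intro k hk
    have hk1 : ∀ k : ZMod 2, k ≠ 0 → k = 1 := by decide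
    rw [hk1 k hk]
    simp [Equiv.swap_apply_def]

end CfsgLib.PermSmall.PrimeDegree
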