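import Cfsg.Agent.Lib.Zass29.Normal
import Cfsg.Agent.Lib.Zass29.RegularNormal
import Cfsg.Agent.Lib.Zass29.SimpleZassenhaus

/-!
In a sharply triply transitive group of even degree a two-point stabiliser has a subgroup of
index two invariant under the exchange of the two points.
-/

set_option autoImplicit false

namespace CfsgLib.PermSmall.SharpIndexTwo

open MulAction
open CfsgLib.PermSmall.Zassenhaus (pairStab mem_pairStab)

/-- An involution moving twice an odd number of points is an odd permutation. -/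
theorem sign_eq_neg_one {X : Type*} [Fintype X] [DecidableEq X] (π : Equiv.Perm X)
    (h2 : π * π = 1) {k : ℕ} (hk : Odd k) (hcard : π.support.card = 2 * k) :
    Equiv.Perm.sign π = -1 := by
  have hmem : ∀ n ∈ π.cycleType, n = 2 := by
    intro n hn
    have h1 := Equiv.Perm.two_le_of_mem_cycleType hn
    have h2' : n ∣ 2 := (Equiv.Perm.dvd_of_mem_cycleType hn).trans
      (orderOf_dvd_of_pow_eq_one (by rw [pow_two]; exact h2))
    exact le_antisymm (Nat.le_of_dvd two_pos h2') h1
  have hsum := Equiv.Perm.sum_cycleType π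
  rw [hcard, Multiset.eq_replicate_card.mpr hmem, Multiset.sum_replicate, smul_eq_mul] at hsum
  rw [Equiv.Perm.sign_of_cycleType, Multiset.eq_replicate_card.mpr hmem, Multiset.sum_replicate,
    Multiset.card_replicate, smul_eq_mul, pow_add, pow_mul', neg_one_sq, one_pow, one_mul]
  exact Odd.neg_one_pow (by rwa [show Multiset.card π.cycleType = k by omega])

variable {G Ω : Type*} [Group G] [MulAction G Ω]

/-- Zassenhaus groups transfer along isomorphisms commuting with the action. -/
theorem zassenhaus_of_equiv {G' : Type*} [Group G'] [MulAction G' Ω] (e : G' ≃* G)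
    (he : ∀ (g : G') (x : Ω), e g • x = g • x) (hZ : Cfsg.IsZassenhausGroup G' Ω) :
    Cfsg.IsZassenhausGroup G Ω := by
  have he' : ∀ (g : G) (x : Ω), e.symm g • x = g • x := fun g x => by
    rw [← he, MulEquiv.apply_symm_apply]
  obtain ⟨hf, h2, h3, ⟨g, hg, x, y, hxy, hx, hy⟩, hR⟩ := hZ
  refine ⟨⟨fun {g₁ g₂} h => ?_⟩, ?_, fun g a b c hab hbc hac ha hb hc => ?_,
    ⟨e g, by simpa using hg, x, y, hxy, by rw [he, hx], by rw [he, hy]⟩, fun N hN hNt => ?_⟩
  · exact e.symm.injective (hf.eq_of_smul_eq_smul fun z => by rw [he', he', h z])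
  · rw [is_two_pretransitive_iff] at h2 ⊢
    intro a b c d hab hcd
    obtain ⟨k, hk1, hk2⟩ := h2 hab hcd
    exact ⟨e k, by rw [he, hk1], by rw [he, hk2]⟩
  · refine e.symm.injective ?_
    rw [map_one]
    exact h3 _ a b c hab hbc hac (by rw [he', ha]) (by rw [he', hb]) (by rw [he', hc])
  · have ht : IsPretransitive (N.comap e.toMonoidHom) Ω := ⟨fun u v => by
      obtain ⟨⟨n, hn⟩, hnu⟩ := exists_smul_eq N u v
      refine ⟨⟨e.symm n, by simpa using hn⟩, ?_⟩
      exact (he' n u).trans hnu⟩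
    obtain ⟨a, ha⟩ := hR _ (hN.comap _) ht
    refine ⟨a, fun hbot => ha ((Subgroup.eq_bot_iff_forall _).2 ?_)⟩
    rintro ⟨k, hk⟩ hka
    have hmem : (⟨e k, hk⟩ : N) ∈ stabilizer N a := (he k a).trans hka
    rw [hbot, Subgroup.mem_bot] at hmem
    have := congrArg Subtype.val hmem
    exact Subtype.ext (e.injective (this.trans (map_one e).symm))

/-- A Zassenhaus group has a simple subgroup which is a Zassenhaus group. -/
theorem exists_simple [Finite G] [Fintype Ω] (hZ : Cfsg.IsZassenhausGroup G Ω) :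
    ∃ M : Subgroup G, IsSimpleGroup M ∧ Cfsg.IsZassenhausGroup M Ω := by
  classical
  have htop : Cfsg.IsZassenhausGroup (⊤ : Subgroup G) Ω :=
    zassenhaus_of_equiv Subgroup.topEquiv.symm (fun _ _ => rfl) hZ
  obtain ⟨M, hM, hmin⟩ := Set.exists_min_image
    {M : Subgroup G | Cfsg.IsZassenhausGroup M Ω} (fun M => Nat.card M) (Set.toFinite _)
    ⟨⊤, htop⟩
  refine ⟨M, ?_, hM⟩
  obtain ⟨g₀, hg₀, -⟩ := hM.2.2.2.1
  haveI : Nontrivial M := ⟨g₀, 1, hg₀⟩
  refine ⟨fun R hR => ?_⟩
  by_cases hRbot : R = ⊥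
  · exact Or.inl hRbot
  refine Or.inr (Subgroup.eq_top_of_card_eq _ (le_antisymm (Subgroup.card_le_card_group R) ?_))
  have hR' := Zass29.normal_isZassenhaus hM R hRbot
  set e := Subgroup.equivMapOfInjective R M.subtype M.subtype_injective
  exact (hmin (R.map M.subtype) (zassenhaus_of_equiv e (fun _ _ => rfl) hR')).trans
    (Nat.card_congr e.toEquiv).symm.le

variable [Fintype Ω] [DecidableEq Ω]

theorem support_card_eq (g : G) :
    (toPermHom G Ω g).support.card + Nat.card (fixedBy Ω g) = Fintype.card Ω := by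
  rw [Nat.card_coe_set_eq, ← Set.ncard_coe_finset,
    show (((toPermHom G Ω g).support : Finset Ω) : Set Ω) = (fixedBy Ω g)ᶜ by
      ext x; simp [fixedBy],
    Set.ncard_compl, Nat.card_eq_fintype_card]
  have : (fixedBy Ω g).ncard ≤ Fintype.card Ω := by
    rw [← Nat.card_eq_fintype_card, ← Set.ncard_univ]
    exact Set.ncard_le_ncard (Set.subset_univ _)
  omega

/-- A simple Zassenhaus group of degree twice an odd number has two-point stabilisers of even
order. -/
theorem even_of_simple [Finite G] [IsSimpleGroup G] (hZ : Cfsg.IsZassenhausGroup G Ω) {a b : Ω}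
    (hab : a ≠ b) {k : ℕ} (hk : Odd k) (hn : Fintype.card Ω = 2 * k) :
    Even (Nat.card (pairStab G a b)) := by
  by_contra hodd
  obtain ⟨v, hv2, hva, -⟩ := Zassenhaus.exists_swapping hZ hab
  have hvv := Zassenhaus.sq_eq_one_of_orderOf hv2
  have hfree : fixedBy Ω v = ∅ := by
    by_contra hne
    obtain ⟨x, hx⟩ := Set.nonempty_iff_ne_empty.2 hne
    obtain ⟨y, hy, hyx⟩ : ∃ y ∈ fixedBy Ω v, y ≠ x := by
      by_contra hall
      simp only [not_exists, not_and, not_not] at hall
      have h1 : fixedBy Ω v = {x} := Set.eq_singleton_iff_unique_mem.2 ⟨hx, hall⟩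
      have := Zassenhaus.fixedBy_modEq (Ω := Ω) hvv
      rw [h1] at this
      simp [Nat.ModEq, hn] at this
    apply hodd
    rw [← Zassenhaus.card_pairStab_eq hZ hab (Ne.symm hyx), even_iff_two_dvd, ← hv2,
      ← Subgroup.orderOf_mk v (show v ∈ pairStab G x y from ⟨hx, hy⟩)]
    exact orderOf_dvd_natCard _
  set f : G →* ℤˣ := Equiv.Perm.sign.comp (toPermHom G Ω) with hf
  have hfv : f v = -1 := by
    refine sign_eq_neg_one _ (by rw [← map_mul, hvv, map_one]) hk ?_
    have := support_card_eq (Ω := Ω) v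
    rw [hfree] at this
    simpa [hn] using this
  have hker : f.ker = ⊥ := (MonoidHom.normal_ker f).eq_bot_or_eq_top.resolve_right fun e => by
    have : v ∈ f.ker := e ▸ Subgroup.mem_top v
    rw [MonoidHom.mem_ker, hfv] at this
    exact absurd this (by decide)
  have hinj := (MonoidHom.ker_eq_bot_iff f).1 hker
  obtain ⟨g, hg, x, y, hxy, hgx, hgy⟩ := hZ.2.2.2.1
  obtain ⟨g', hg', hg'1⟩ : ∃ g' ∈ pairStab G a b, g' ≠ 1 := by
    obtain ⟨c, rfl, rfl⟩ := Zassenhaus.exists_smul_pair hZ hxy hab
    exact ⟨c * g * c⁻¹, Zassenhaus.conj_mem_pairStab ⟨hgx, hgy⟩,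
      fun e => hg (conj_eq_one_iff.1 e)⟩
  rcases Int.units_eq_one_or (f g') with h | h
  · exact hg'1 (hinj (h.trans (map_one f).symm))
  · have := hinj (h.trans hfv.symm)
    rw [← this, hg'.1] at hva
    exact hab hva

/-- The main statement. -/
theorem main [Finite G] [FaithfulSMul G Ω] (heven : Even (Fintype.card Ω))
    (h6 : 6 ≤ Fintype.card Ω) (h3 : IsMultiplyPretransitive G Ω 3)
    (hfix : ∀ g : G, ∀ a b c : Ω, a ≠ b → b ≠ c → a ≠ c → g • a = a → g • b = b → g • c = c → g = 1)
    {a b c : Ω} (hab : a ≠ b) (hac : a ≠ c) (hbc : b ≠ c) (s : G) (hsa : s • a = b)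
    (hsb : s • b = a) :
    ∃ N : Subgroup G, N ≤ pairStab G a b ∧ (N.subgroupOf (pairStab G a b)).Normal ∧
      N.relIndex (pairStab G a b) = 2 ∧ ∀ n ∈ N, s * n * s⁻¹ ∈ N := by
  haveI := h3
  have hsinv : ∀ h ∈ pairStab G a b, s * h * s⁻¹ ∈ pairStab G a b := by
    intro h hh
    have := Zassenhaus.conj_mem_pairStab (g := s) hh
    rw [hsa, hsb] at this
    exact ⟨this.2, this.1⟩
  have htrans : ∀ x, x ≠ a → x ≠ b → ∃ h ∈ pairStab G a b, h • c = x := by
    intro x hxa hxb
    let e₁ : Fin 3 ↪ Ω := ⟨![a, b, c], by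
      intro i j h
      fin_cases i <;> fin_cases j <;>
        simp [hab, hac, hbc, hab.symm, hac.symm, hbc.symm] at h ⊢⟩
    let e₂ : Fin 3 ↪ Ω := ⟨![a, b, x], by
      intro i j h
      fin_cases i <;> fin_cases j <;>
        simp [hab, hxa, hxb, hab.symm, Ne.symm hxa, Ne.symm hxb] at h ⊢⟩
    obtain ⟨g, hg⟩ := exists_smul_eq G e₁ e₂
    have h0 : g • a = a := DFunLike.congr_fun hg 0
    have h1 : g • b = b := DFunLike.congr_fun hg 1
    have h2 : g • c = x := DFunLike.congr_fun hg 2
    exact ⟨g, ⟨h0, h1⟩, h2⟩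
  have hcard : Nat.card (pairStab G a b) = Fintype.card Ω - 2 := by
    have hS : ({a, b}ᶜ : Set Ω).ncard = Fintype.card Ω - 2 := by
      rw [Set.ncard_compl, Set.ncard_pair hab, Nat.card_eq_fintype_card]
    rw [← hS, ← show (fun h : G => h • c) '' (pairStab G a b : Set G) = ({a, b} : Set Ω)ᶜ from ?_,
      Set.ncard_image_of_injOn, ← Nat.card_coe_set_eq]
    · rfl
    · intro g hg h hh e
      have e' : g • c = h • c := e
      refine (inv_mul_eq_one.1 (hfix (h⁻¹ * g) a b c hab hbc hac ?_ ?_ ?_)).symm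
      · rw [mul_smul, hg.1, inv_smul_eq_iff, hh.1]
      · rw [mul_smul, hg.2, inv_smul_eq_iff, hh.2]
      · rw [mul_smul, e', inv_smul_smul]
    · ext x
      simp only [Set.mem_compl_iff, Set.mem_insert_iff, Set.mem_singleton_iff, not_or,
        Set.mem_image, SetLike.mem_coe]
      constructor
      · rintro ⟨h, hh, rfl⟩
        exact ⟨fun e => hac (smul_left_cancel h (hh.1.trans e.symm)),
          fun e => hbc (smul_left_cancel h (hh.2.trans e.symm))⟩
      · rintro ⟨h1, h2⟩
        exact htrans x h1 h2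
  obtain ⟨m, hm⟩ := heven
  rcases Nat.even_or_odd m with ⟨j, hj⟩ | hmodd
  · -- the sign character
    set f : G →* ℤˣ := Equiv.Perm.sign.comp (toPermHom G Ω) with hf
    obtain ⟨z, hz, hz2⟩ := Zassenhaus.exists_involution_mem (a := a) (b := b)
      (G := G) (by rw [hcard, Nat.even_iff]; omega)
    have hz1 := Zassenhaus.ne_one_of_orderOf hz2
    have hzfix : fixedBy Ω z = {a, b} := by
      ext x
      refine ⟨fun hx => ?_, ?_⟩
      · by_contra hne
        simp only [Set.mem_insert_iff, Set.mem_singleton_iff, not_or] at hne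
        exact hz1 (hfix z a b x hab (Ne.symm hne.2) (Ne.symm hne.1) hz.1 hz.2 hx)
      · rintro (rfl | rfl)
        · exact hz.1
        · exact hz.2
    have hfz : f z = -1 := by
      refine sign_eq_neg_one _ (by rw [← map_mul, Zassenhaus.sq_eq_one_of_orderOf hz2, map_one])
        (k := m - 1) (by rw [Nat.odd_iff]; omega) ?_
      have := support_card_eq (Ω := Ω) z
      rw [hzfix, Nat.card_coe_set_eq, Set.ncard_pair hab] at this
      omega
    refine ⟨f.ker ⊓ pairStab G a b, inf_le_right, ?_, ?_, ?_⟩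
    · rw [Subgroup.inf_subgroupOf_right]; infer_instance
    · rw [Subgroup.inf_relIndex_right, Subgroup.relIndex,
        show f.ker.subgroupOf (pairStab G a b) = (f.comp (pairStab G a b).subtype).ker from rfl,
        Subgroup.index_ker, MonoidHom.range_eq_top.2, Subgroup.card_top, Nat.card_eq_fintype_card]
      · rfl
      · intro u
        rcases Int.units_eq_one_or u with rfl | rfl
        · exact ⟨1, map_one _⟩
        · exact ⟨⟨z, hz⟩, hfz⟩
    · rintro n ⟨hn1, hn2⟩
      exact ⟨(MonoidHom.normal_ker f).conj_mem n hn1 s, hsinv n hn2⟩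
  · -- a simple subgroup of index two
    have h2 : IsMultiplyPretransitive G Ω 2 :=
      isMultiplyPretransitive_of_le (show 2 ≤ 3 by norm_num)
        (by rw [Nat.card_eq_fintype_card]; omega)
    have hnt : ∃ g : G, g ≠ 1 ∧ ∃ x y : Ω, x ≠ y ∧ g • x = x ∧ g • y = y := by
      haveI : Nontrivial (pairStab G a b) := Finite.one_lt_card_iff_nontrivial.1 (by omega)
      obtain ⟨⟨g, hg⟩, hg1⟩ := exists_ne (1 : pairStab G a b)
      exact ⟨g, fun e => hg1 (Subtype.ext e), a, b, hab, hg.1, hg.2⟩
    have hZ : Cfsg.IsZassenhausGroup G Ω := by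
      refine ⟨inferInstance, h2, hfix, hnt, fun N hN hNt => ?_⟩
      by_contra hall
      simp only [not_exists, ne_eq, not_not] at hall
      haveI := hN
      obtain ⟨p, hp, hpn⟩ := Zass29.regular_normal_degree h2 hfix hnt N hNt hall
      obtain ⟨j, hj⟩ := hmodd
      have : 4 ∣ Fintype.card Ω := by
        rw [hpn, show (4 : ℕ) = 2 ^ 2 by norm_num]
        exact pow_dvd_pow 2 hp.two_le
      omega
    obtain ⟨M, hMs, hMZ⟩ := exists_simple hZ
    have hMeven := even_of_simple hMZ hab hmodd (by omega)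
    have hd := Zass29.Simple.two_mul_card_of_even hMZ hab hMeven
    haveI : Fintype G := Fintype.ofFinite G
    haveI : Fintype M := Fintype.ofFinite M
    have hG := Zass29.Sharp.card_group hZ hab
    have hM := Zass29.Sharp.card_group hMZ hab
    have hidx : M.index = 2 := by
      have h := M.index_mul_card
      rw [hM, hG, hcard, ← hd] at h
      have hpos : 0 < Fintype.card Ω * ((Fintype.card Ω - 1) * Nat.card (pairStab M a b)) := by
        rw [← hM]; exact Nat.card_pos
      refine Nat.eq_of_mul_eq_mul_right hpos (h.trans ?_)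
      ring
    haveI := Subgroup.normal_of_index_eq_two hidx
    refine ⟨M ⊓ pairStab G a b, inf_le_right, ?_, ?_, ?_⟩
    · rw [Subgroup.inf_subgroupOf_right]; infer_instance
    · rw [Subgroup.inf_relIndex_right, Subgroup.relIndex]
      have h := (M.subgroupOf (pairStab G a b)).index_mul_card
      have hc : Nat.card (M.subgroupOf (pairStab G a b)) = Nat.card (pairStab M a b) :=
        Nat.card_congr ⟨fun x => ⟨⟨(x : pairStab G a b), x.2⟩, (x : pairStab G a b).2⟩,
          fun y => ⟨⟨(y : M), y.2⟩, (y : M).2⟩, fun _ => rfl, fun _ => rfl⟩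
      rw [hc, hcard, ← hd] at h
      exact Nat.eq_of_mul_eq_mul_right Nat.card_pos h
    · rintro n ⟨hn1, hn2⟩
      exact ⟨Subgroup.Normal.conj_mem ‹_› n hn1 s, hsinv n hn2⟩

end CfsgLib.PermSmall.SharpIndexTwo
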