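import Cfsg.Agent.Lib.PermSmall.PermCentraliser
import Mathlib.GroupTheory.GroupAction.Primitive
import Mathlib.GroupTheory.Perm.Cycle.Type

/-!
Rank three groups of degree `2m` with constituents of degrees `m - 1` and `m`.
-/

set_option autoImplicit false

noncomputable section

namespace CfsgLib.PermSmall.Wielandt

open Cfsg CfsgLib.Characters CfsgLib.PermSmall.Centraliser CfsgLib.PermSmall.PermCentraliser
open MulAction
open scoped ComplexConjugate
open scoped Classical

universe u v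

/-- The Diophantine step. -/
theorem arith {m k k' : ℕ} {t : ℤ} (hm : 2 ≤ m) (hk : 2 ≤ k) (hk' : 2 ≤ k')
    (hsum : k + k' + 1 = 2 * m)
    (heq : (k : ℤ) ^ 2 + ((m : ℤ) - 1) * ((k : ℤ) + m * t) ^ 2 + m * (t - ((k : ℤ) + m * t)) ^ 2
      = 2 * m * k) :
    ∃ a : ℕ, 0 < a ∧ m = 2 * a ^ 2 + 2 * a + 1 ∧ (k = a * (2 * a + 1) ∨ k = (a + 1) * (2 * a + 1)) := by
  set r : ℤ := (k : ℤ) + m * t with hr
  have hk_eq : (k : ℤ) = r - m * t := by rw [hr]; ring
  rw [hk_eq] at heq
  have hm0 : (m : ℤ) ≠ 0 := by omega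
  have h1 : (2 * r - 2 * t - 1) ^ 2 = 2 * (1 - (m : ℤ)) * (t ^ 2 + 2 * t) + 1 := by
    refine mul_left_cancel₀ hm0 ?_
    linear_combination 2 * heq
  have hm' : (2 : ℤ) ≤ m := by exact_mod_cast hm
  have ht : -2 ≤ t ∧ t ≤ 0 := by
    have hsq : 0 ≤ (2 * r - 2 * t - 1) ^ 2 := sq_nonneg _
    constructor <;> by_contra hc <;> nlinarith
  obtain ⟨ht1, ht2⟩ := ht
  interval_cases t
  · exfalso
    have h2 : (2 * r + 3 - 1) * (2 * r + 3 + 1) = 0 := by linear_combination h1
    rcases mul_eq_zero.mp h2 with h3 | h3 <;> omega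
  · have hr2 : (m : ℤ) = 2 * r ^ 2 + 2 * r + 1 := by linarith [h1, sq (2 * r + 1)]
    rcases le_or_gt 0 r with hr0 | hr0
    · obtain ⟨a, ha⟩ := Int.eq_ofNat_of_zero_le hr0
      rw [ha] at hr2 hk_eq
      have hm2 : m = 2 * a ^ 2 + 2 * a + 1 := by exact_mod_cast hr2
      refine ⟨a, ?_, hm2, Or.inr ?_⟩
      · rcases Nat.eq_zero_or_pos a with rfl | h
        · simp at hm2; omega
        · exact h
      · have : (k : ℤ) = (a + 1) * (2 * a + 1) := by rw [hk_eq, hr2]; ring
        exact_mod_cast this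
    · obtain ⟨a, ha⟩ := Int.eq_ofNat_of_zero_le (show 0 ≤ -r - 1 by omega)
      have hr' : r = -(a : ℤ) - 1 := by omega
      rw [hr'] at hr2 hk_eq
      ring_nf at hr2
      have hm2 : m = 2 * a ^ 2 + 2 * a + 1 := by
        have : (m : ℤ) = 2 * (a : ℤ) ^ 2 + 2 * a + 1 := by rw [hr2]; ring
        exact_mod_cast this
      refine ⟨a, ?_, hm2, Or.inl ?_⟩
      · rcases Nat.eq_zero_or_pos a with rfl | h
        · simp at hm2; omega
        · exact h
      · have : (k : ℤ) = a * (2 * a + 1) := by rw [hk_eq, hr2]; ring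
        exact_mod_cast this
  · exfalso
    have h2 : (2 * r - 1 - 1) * (2 * r - 1 + 1) = 0 := by linear_combination h1
    rcases mul_eq_zero.mp h2 with h3 | h3 <;> omega

variable {G : Type u} [Group G] {Ω : Type v} [MulAction G Ω] [Fintype Ω]

theorem exists_other (a₀ : Ω) (hrank : Nat.card (orbitRel.Quotient (stabilizer G a₀) Ω) = 3)
    {b : Ω} (hb : b ≠ a₀) :
    ∃ c, c ≠ a₀ ∧ c ∉ orbit (stabilizer G a₀) b ∧
      ∀ z, z ≠ a₀ → z ∈ orbit (stabilizer G a₀) b ∨ z ∈ orbit (stabilizer G a₀) c := by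
  set Q := orbitRel.Quotient (stabilizer G a₀) Ω
  haveI : Fintype Q := Fintype.ofFinite _
  set mk : Ω → Q := Quotient.mk''
  have hmk : ∀ y z : Ω, mk y = mk z ↔ y ∈ orbit (stabilizer G a₀) z := fun y z => Quotient.eq''
  have hfix : ∀ z, mk z = mk a₀ → z = a₀ := by
    intro z hz
    obtain ⟨⟨g, hg⟩, hgz⟩ := (hmk _ _).mp hz
    exact hgz.symm.trans hg
  have hab : mk b ≠ mk a₀ := fun e => hb (hfix b e)
  have hcard : ({mk a₀, mk b} : Finset Q).card = 2 := Finset.card_pair (Ne.symm hab)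
  obtain ⟨q, hq⟩ : ∃ q, q ∉ ({mk a₀, mk b} : Finset Q) := by
    by_contra hall
    simp only [not_exists, not_not] at hall
    rw [Nat.card_eq_fintype_card] at hrank
    have := Finset.card_le_card (show (Finset.univ : Finset Q) ⊆ {mk a₀, mk b} from fun q _ => hall q)
    rw [Finset.card_univ] at this
    omega
  obtain ⟨c, rfl⟩ := Quotient.exists_rep q
  simp only [Finset.mem_insert, Finset.mem_singleton, not_or] at hq
  refine ⟨c, fun e => hq.1 (by subst e; rfl), fun h => hq.2 ((hmk _ _).mpr h), fun z hz => ?_⟩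
  have huniv : ({mk a₀, mk b, mk c} : Finset Q) = Finset.univ := by
    refine Finset.eq_univ_of_card _ ?_
    rw [← Nat.card_eq_fintype_card, hrank, Finset.card_eq_three]
    exact ⟨_, _, _, Ne.symm hab, Ne.symm hq.1, Ne.symm hq.2, rfl⟩
  have hz' : mk z ∈ ({mk a₀, mk b, mk c} : Finset Q) := by rw [huniv]; exact Finset.mem_univ _
  simp only [Finset.mem_insert, Finset.mem_singleton] at hz'
  rcases hz' with h | h | h
  · exact absurd (hfix z h) hz
  · exact Or.inl ((hmk _ _).mp h)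
  · exact Or.inr ((hmk _ _).mp h)

theorem card_split {a₀ b c : Ω} (hb : b ≠ a₀) (hc : c ≠ a₀) (hcb : c ∉ orbit (stabilizer G a₀) b)
    (hall : ∀ z, z ≠ a₀ → z ∈ orbit (stabilizer G a₀) b ∨ z ∈ orbit (stabilizer G a₀) c) :
    Nat.card (orbit (stabilizer G a₀) b) + Nat.card (orbit (stabilizer G a₀) c) + 1 = Fintype.card Ω := by
  have hnot : ∀ y, y ≠ a₀ → a₀ ∉ orbit (stabilizer G a₀) y := by
    rintro y hy ⟨⟨g, hg⟩, hgy⟩
    exact hy (smul_left_cancel g (hgy.trans hg.symm))
  set B := Finset.univ.filter fun z => z ∈ orbit (stabilizer G a₀) b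
  set C := Finset.univ.filter fun z => z ∈ orbit (stabilizer G a₀) c
  have hdisj : Disjoint B C := by
    rw [Finset.disjoint_left]
    intro z hzB hzC
    have h1 := orbit_eq_iff.mpr (Finset.mem_filter.mp hzB).2
    have h2 := orbit_eq_iff.mpr (Finset.mem_filter.mp hzC).2
    exact hcb ((h1.symm.trans h2) ▸ mem_orbit_self c)
  have hu : B ∪ C = Finset.univ.erase a₀ := by
    ext z
    simp only [Finset.mem_union, Finset.mem_filter, Finset.mem_univ, true_and, Finset.mem_erase,
      and_true, B, C]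
    refine ⟨?_, hall z⟩
    rintro (h | h) rfl
    · exact hnot b hb h
    · exact hnot c hc h
  have h := Finset.card_union_of_disjoint hdisj
  rw [hu, Finset.card_erase_of_mem (Finset.mem_univ _), Finset.card_univ] at h
  simp only [Nat.card_eq_fintype_card, Fintype.card_subtype]
  have hpos : 0 < Fintype.card Ω := Fintype.card_pos_iff.mpr ⟨a₀⟩
  change B.card + C.card + 1 = Fintype.card Ω
  omega

/-- In a rank three group of even degree both suborbits are self-paired. -/
theorem selfPaired [Finite G] [IsPretransitive G Ω] (a₀ : Ω)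
    (hrank : Nat.card (orbitRel.Quotient (stabilizer G a₀) Ω) = 3)
    (heven : Even (Fintype.card Ω)) (x y : Ω) : ∃ g : G, g • x = y ∧ g • y = x := by
  set H := (MulAction.toPermHom G Ω).range
  haveI : IsPretransitive H Ω := ⟨fun p q => by
    obtain ⟨g, hg⟩ := exists_smul_eq G p q
    exact ⟨⟨toPermHom G Ω g, g, rfl⟩, hg⟩⟩
  haveI : Fact (Nat.Prime 2) := ⟨Nat.prime_two⟩
  obtain ⟨⟨_, g, rfl⟩, hg⟩ : ∃ h : H, orderOf h = 2 := by
    refine exists_prime_orderOf_dvd_card' 2 ((even_iff_two_dvd.mp heven).trans ?_)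
    rw [← Nat.card_eq_fintype_card, ← MulAction.index_stabilizer_of_transitive H a₀]
    exact Subgroup.index_dvd_card _
  replace hg : orderOf (toPermHom G Ω g) = 2 :=
    (orderOf_injective H.subtype H.subtype_injective _).trans hg
  obtain ⟨p, hp⟩ : ∃ p, g • p ≠ p := by
    by_contra hall
    simp only [not_exists, not_not] at hall
    rw [show toPermHom G Ω g = 1 from Equiv.ext hall, orderOf_one] at hg
    omega
  have hgg : g • g • p = p := by
    have h := pow_orderOf_eq_one (toPermHom G Ω g)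
    rw [hg, pow_two] at h
    exact Equiv.congr_fun h p
  let S : Ω → Prop := fun z => ∃ g : G, g • a₀ = z ∧ g • z = a₀
  have hS : ∀ u z, z ∈ orbit (stabilizer G a₀) u → S u → S z := by
    rintro u z ⟨⟨q, hq⟩, rfl⟩ ⟨h, h1, h2⟩
    have hq' : q • a₀ = a₀ := hq
    refine ⟨q * h * q⁻¹, ?_, ?_⟩
    · show _ = q • u
      rw [mul_smul, mul_smul, inv_smul_eq_iff.mpr hq'.symm, h1]
    · show (q * h * q⁻¹) • q • u = a₀
      rw [mul_smul, mul_smul, inv_smul_smul, h2, hq']
  obtain ⟨k, hk⟩ := exists_smul_eq G p a₀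
  have hS1 : S (k • g • p) := ⟨k * g * k⁻¹, by rw [mul_smul, mul_smul, inv_smul_eq_iff.mpr hk.symm],
    by rw [mul_smul, mul_smul, inv_smul_smul, hgg, hk]⟩
  have hw : k • g • p ≠ a₀ := fun e => hp (smul_left_cancel k (e.trans hk.symm))
  set w := k • g • p
  have hSall : ∀ z, S z := by
    intro z
    by_cases hz : z = a₀
    · exact ⟨1, by rw [one_smul, hz], by rw [one_smul, hz]⟩
    obtain ⟨u, hu, huw, hall⟩ := exists_other a₀ hrank hw
    rcases hall z hz with h | h
    · exact hS w z h hS1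
    refine hS u z h ?_
    obtain ⟨q, hq⟩ := exists_smul_eq G u a₀
    have hne : q • a₀ ≠ a₀ := fun e => hu (smul_left_cancel q (hq.trans e.symm))
    rcases hall _ hne with h' | h'
    · obtain ⟨r, hr1, hr2⟩ := hS w _ h' hS1
      refine ⟨q⁻¹ * r * q, ?_, ?_⟩
      · rw [mul_smul, mul_smul, hr2, inv_smul_eq_iff, hq]
      · rw [mul_smul, mul_smul, hq, hr1, inv_smul_smul]
    · obtain ⟨⟨r, hr⟩, hru⟩ := h'
      have hr' : r • a₀ = a₀ := hr
      have hru' : r • u = q • a₀ := hru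
      refine ⟨r⁻¹ * q, ?_, ?_⟩
      · rw [mul_smul, inv_smul_eq_iff, hru']
      · rw [mul_smul, hq, inv_smul_eq_iff, hr']
  obtain ⟨k, hk⟩ := exists_smul_eq G x a₀
  obtain ⟨h, h1, h2⟩ := hSall (k • y)
  exact ⟨k⁻¹ * h * k, by rw [mul_smul, mul_smul, hk, h1, inv_smul_smul],
    by rw [mul_smul, mul_smul, h2, inv_smul_eq_iff, hk]⟩

/-- A suborbit of length one. -/
theorem two_le_subdegree [IsPreprimitive G Ω] (a₀ : Ω)
    (hrank : Nat.card (orbitRel.Quotient (stabilizer G a₀) Ω) = 3) (h4 : 4 ≤ Fintype.card Ω)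
    {b : Ω} (hb : b ≠ a₀) : 2 ≤ Nat.card (orbit (stabilizer G a₀) b) := by
  haveI : Nonempty (orbit (stabilizer G a₀) b) := ⟨⟨b, mem_orbit_self b⟩⟩
  have hpos : 0 < Nat.card (orbit (stabilizer G a₀) b) := Nat.card_pos
  by_contra hlt
  have hfix : stabilizer G a₀ ≤ stabilizer G b := by
    intro g hg
    have h1 : Nat.card (orbit (stabilizer G a₀) b) = 1 := by omega
    obtain ⟨hsub, -⟩ := Nat.card_eq_one_iff_unique.mp h1
    exact congrArg Subtype.val (hsub.elim ⟨(⟨g, hg⟩ : stabilizer G a₀) • b, mem_orbit b _⟩ ⟨b, mem_orbit_self b⟩)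
  haveI : Nontrivial Ω := ⟨⟨b, a₀, hb⟩⟩
  have hmax : IsCoatom (stabilizer G a₀) := (isCoatom_stabilizer_iff_preprimitive G a₀).mpr inferInstance
  have hbne : stabilizer G b ≠ ⊤ := fun e => by
    obtain ⟨g, hg⟩ := exists_smul_eq G b a₀
    exact hb ((show g • b = b from (e ▸ Subgroup.mem_top g : g ∈ stabilizer G b)).symm.trans hg)
  have heq : stabilizer G b = stabilizer G a₀ := (hmax.le_iff.mp hfix).resolve_left hbne
  obtain ⟨g, hg⟩ := exists_smul_eq G a₀ b
  have hnot : g ∉ stabilizer G a₀ := fun e => hb (hg.symm.trans e)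
  have hN : g ∈ Subgroup.normalizer (stabilizer G a₀ : Set G) := by
    rw [Subgroup.mem_normalizer_iff]
    intro x
    conv_rhs => rw [← heq]
    simp only [mem_stabilizer_iff, mul_smul, ← hg, inv_smul_smul, smul_left_cancel_iff]
  have htop : Subgroup.normalizer (stabilizer G a₀ : Set G) = ⊤ :=
    (hmax.le_iff.mp Subgroup.le_normalizer).resolve_right fun e => hnot (e ▸ hN)
  have hall : ∀ z : Ω, stabilizer G a₀ ≤ stabilizer G z := by
    intro z x hx
    obtain ⟨k, rfl⟩ := exists_smul_eq G a₀ z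
    have hk : k⁻¹ ∈ Subgroup.normalizer (stabilizer G a₀ : Set G) := htop ▸ Subgroup.mem_top _
    have := (Subgroup.mem_normalizer_iff.mp hk x).mp hx
    rw [inv_inv, mem_stabilizer_iff, mul_smul, mul_smul, inv_smul_eq_iff] at this
    exact this
  have hbij : Function.Bijective (Quotient.mk'' : Ω → orbitRel.Quotient (stabilizer G a₀) Ω) := by
    refine ⟨fun p q e => ?_, fun q => Quotient.inductionOn' q fun z => ⟨z, rfl⟩⟩
    obtain ⟨⟨x, hx⟩, hxq⟩ := Quotient.exact' e
    exact hxq.symm.trans (hall q hx)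
  rw [← Nat.card_congr (Equiv.ofBijective _ hbij), Nat.card_eq_fintype_card] at hrank
  omega

variable [Fintype G]

theorem trace_funEnd_sq {V : Type*} [AddCommGroup V] [Module ℂ V]
    (ρ : Representation ℂ G V) (φ : G → ℂ) :
    LinearMap.trace ℂ V (funEnd ρ φ * funEnd ρ φ) =
      ∑ g : G, ∑ h : G, φ g * φ h * ρ.character (g * h) := by
  simp only [funEnd, Finset.sum_mul, Finset.mul_sum, smul_mul_assoc, mul_smul_comm, ← map_mul,
    map_sum, map_smul, Representation.character, smul_eq_mul]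
  rw [Finset.sum_comm]
  exact Finset.sum_congr rfl fun g _ => Finset.sum_congr rfl fun h _ => by ring

theorem sum_funEnd_sq {n : ℕ} (σ : Representation ℂ G (Fin n → ℂ)) [σ.IsIrreducible]
    {φ : G → ℂ} (hφ : IsClassFunction G φ) :
    ∑ g : G, ∑ h : G, φ g * φ h * σ.character (g * h)
      = ((∑ g : G, φ g * σ.character g) / n) ^ 2 * n := by
  rw [← trace_funEnd_sq, funEnd_eq_smul σ hφ, Module.finrank_fin_fun, smul_mul_smul_comm, one_mul,
    CfsgLib.CharScalar.trace_smul_one, Module.finrank_fin_fun, pow_two]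

variable [IsPretransitive G Ω]

theorem main (a₀ b c : Ω) (m : ℕ) (hn : Fintype.card Ω = 2 * m) (hm2 : 2 ≤ m)
    (hc : c ≠ a₀) (hcb : c ∉ orbit (stabilizer G a₀) b) (hb : b ≠ a₀)
    (hall : ∀ z, z ≠ a₀ → z ∈ orbit (stabilizer G a₀) b ∨ z ∈ orbit (stabilizer G a₀) c)
    (hsp : ∀ x y : Ω, ∃ g : G, g • x = y ∧ g • y = x)
    (hmf : MultFree (permRep ℂ G Ω).character)
    (χ₁ χ₂ : G → ℂ) (h₁ : IsIrrCharacter G χ₁) (h₂ : IsIrrCharacter G χ₂)
    (hπ : ∀ g, permChar G Ω g = 1 + χ₁ g + χ₂ g) (hd₁ : χ₁ 1 = (m : ℂ) - 1) (hd₂ : χ₂ 1 = m) :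
    ∃ t : ℤ, (Nat.card (orbit (stabilizer G a₀) b) : ℤ) ^ 2 +
      ((m : ℤ) - 1) * ((Nat.card (orbit (stabilizer G a₀) b) : ℤ) + m * t) ^ 2 +
      m * (t - ((Nat.card (orbit (stabilizer G a₀) b) : ℤ) + m * t)) ^ 2
      = 2 * m * Nat.card (orbit (stabilizer G a₀) b) := by
  haveI : Nonempty Ω := ⟨a₀⟩
  set k := Nat.card (orbit (stabilizer G a₀) b) with hkdef
  have hk_lt : k + 2 ≤ 2 * m := by
    have := card_split hb hc hcb hall
    haveI : Nonempty (orbit (stabilizer G a₀) c) := ⟨⟨c, mem_orbit_self c⟩⟩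
    have : 0 < Nat.card (orbit (stabilizer G a₀) c) := Nat.card_pos
    omega
  set ρ := permRep ℂ G Ω with hρ
  set A := orbital G a₀ b with hA
  have hAsym : ∀ x y, ent A x y = ent A y x := by
    intro x y
    obtain ⟨g, hgx, hgy⟩ := hsp x y
    rw [← (comm_iff A).mp (comm_orbital a₀ b) g x y, hgx, hgy]
  have hrow : ∀ x, ∑ y, ent A x y = (k : ℂ) := by
    intro x
    have h := orbital_one (G := G) a₀ b x
    rw [apply_eq_sum] at h
    simp only [mul_one] at h
    exact h
  have h01 : ∀ x y, ent A x y = 0 ∨ ent A x y = 1 := fun x y => by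
    rw [hA, ent_orbital]; split_ifs <;> simp
  have hsq1 : ∀ x y, ent A x y * ent A x y = ent A x y := fun x y => by
    rcases h01 x y with e | e <;> simp [e]
  have hdiag : ∀ x, ent (A * A) x x = (k : ℂ) := by
    intro x
    rw [ent_mul, ← hrow x]
    exact Finset.sum_congr rfl fun y _ => by rw [hAsym y x, hsq1]
  obtain ⟨lam, hlam⟩ : ∃ l : ℕ, ent (A * A) a₀ b = l := by
    refine ⟨(Finset.univ.filter fun y => ent A a₀ y = 1 ∧ ent A y b = 1).card, ?_⟩
    rw [ent_mul, ← Finset.sum_boole]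
    refine Finset.sum_congr rfl fun y _ => ?_
    rcases h01 a₀ y with e | e <;> rcases h01 y b with e' | e' <;> simp [e, e']
  obtain ⟨mu, hmu⟩ : ∃ l : ℕ, ent (A * A) a₀ c = l := by
    refine ⟨(Finset.univ.filter fun y => ent A a₀ y = 1 ∧ ent A y c = 1).card, ?_⟩
    rw [ent_mul, ← Finset.sum_boole]
    refine Finset.sum_congr rfl fun y _ => ?_
    rcases h01 a₀ y with e | e <;> rcases h01 y c with e' | e' <;> simp [e, e']
  set K : ℂ := ((Finset.univ.filter fun g : G => g • a₀ = a₀).card : ℂ) with hK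
  have hK0 : K ≠ 0 := by
    rw [hK, Nat.cast_ne_zero]
    exact Finset.card_ne_zero.mpr ⟨1, by simp⟩
  have hJ : ∀ x y : Ω, ent (funEnd ρ fun _ => 1) x y = K := by
    intro x y
    rw [hρ, ent_funEnd, Finset.sum_boole, hK, Nat.cast_inj]
    obtain ⟨p, hp⟩ := exists_smul_eq G a₀ x
    obtain ⟨q, hq⟩ := exists_smul_eq G a₀ y
    refine Finset.card_equiv ((Equiv.mulLeft p⁻¹).trans (Equiv.mulRight q)) fun g => ?_
    simp only [Finset.mem_filter, Finset.mem_univ, true_and, Equiv.trans_apply, Equiv.coe_mulLeft,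
      Equiv.coe_mulRight, mul_smul, hq, inv_smul_eq_iff, hp]
  have hAA : Comm ρ (A * A) := fun g => by
    rw [mul_assoc, comm_orbital a₀ b g, ← mul_assoc, comm_orbital a₀ b g, mul_assoc]
  set t : ℤ := (lam : ℤ) - mu with ht
  have hrel : A * A = ((k : ℂ) - mu) • (1 : Module.End ℂ (Ω → ℂ)) + (t : ℂ) • A
      + ((mu : ℂ) / K) • funEnd ρ (fun _ => 1) := by
    refine ext_ent fun x z => ?_
    have hR : ent (((k : ℂ) - mu) • (1 : Module.End ℂ (Ω → ℂ)) + (t : ℂ) • A
        + ((mu : ℂ) / K) • funEnd ρ (fun _ => 1)) x z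
        = ((k : ℂ) - mu) * (if x = z then 1 else 0) + (t : ℂ) * ent A x z + mu := by
      simp only [ent, LinearMap.add_apply, LinearMap.smul_apply, Module.End.one_apply, Pi.add_apply,
        Pi.smul_apply, smul_eq_mul, Pi.single_apply]
      congr 1
      have := hJ x z
      simp only [ent] at this
      rw [this, div_mul_cancel₀ _ hK0]
    rw [hR]
    obtain ⟨g, hg⟩ := exists_smul_eq G x a₀
    rw [← (comm_iff _).mp hAA g x z, ← (comm_iff A).mp (comm_orbital a₀ b) g x z,
      show (if x = z then (1 : ℂ) else 0) = if a₀ = g • z then 1 else 0 by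
        refine if_congr ?_ rfl rfl
        rw [← hg, smul_left_cancel_iff], hg]
    generalize g • z = w
    by_cases hw : w = a₀
    · subst hw
      rw [hdiag, if_pos rfl, hA, ent_orbital, if_neg]
      · ring
      rintro ⟨q, hq1, hq2⟩
      exact hb (smul_left_cancel q (hq2.trans hq1.symm))
    rw [if_neg (Ne.symm hw)]
    rcases hall w hw with h | h
    · obtain ⟨⟨q, hq⟩, rfl⟩ := h
      have hq' : q • a₀ = a₀ := hq
      show ent (A * A) a₀ (q • b) = _
      have e1 : ent (A * A) a₀ (q • b) = lam := by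
        have := (comm_iff _).mp hAA q a₀ b
        rw [hq', hlam] at this
        exact this
      rw [e1, hA, ent_orbital, if_pos ⟨q, hq', rfl⟩, ht]
      push_cast
      ring
    · obtain ⟨⟨q, hq⟩, rfl⟩ := h
      have hq' : q • a₀ = a₀ := hq
      show ent (A * A) a₀ (q • c) = _
      have e1 : ent (A * A) a₀ (q • c) = mu := by
        have := (comm_iff _).mp hAA q a₀ c
        rw [hq', hmu] at this
        exact this
      rw [e1, hA, ent_orbital, if_neg]
      · ring
      rintro ⟨r, hr1, hr2⟩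
      refine hcb ⟨⟨q⁻¹ * r, ?_⟩, ?_⟩
      · rw [mem_stabilizer_iff, mul_smul, hr1, inv_smul_eq_iff, hq']
      · show (q⁻¹ * r) • b = c
        rw [mul_smul, hr2]
        exact inv_smul_smul q c
  -- class function
  obtain ⟨cf, -, hcf⟩ := exists_classFn ρ hmf (comm_orbital (G := G) a₀ b)
  rw [← hA] at hcf
  set φ := classFn cf with hφ
  have hcl : IsClassFunction G φ := isClassFunction_classFn cf
  have hφ1 : ∑ g : G, φ g = (k : ℂ) := by
    have h := orbital_one (G := G) a₀ b a₀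
    rw [← hkdef, ← hA] at h
    rw [← h, hcf]
    simp [funEnd, CfsgLib.PermGroup.permRep_apply, hρ]
  have hone : classInner (permChar G Ω) (fun _ => 1) = 1 := classInner_one
  have hfun : permChar G Ω = (fun _ => (1 : ℂ)) + χ₁ + χ₂ := funext hπ
  obtain ⟨j₁, hj₁⟩ := classInner_char_nat (isCharacter_of_irr h₁) (isCharacter_of_irr (isIrrCharacter_one (G := G)))
  obtain ⟨j₂, hj₂⟩ := classInner_char_nat (isCharacter_of_irr h₂) (isCharacter_of_irr (isIrrCharacter_one (G := G)))
  rw [hfun, classInner_add_left, classInner_add_left, classInner_irr_self isIrrCharacter_one, hj₁, hj₂] at hone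
  have hj : (j₁ + j₂ : ℕ) = 0 := by
    have : ((j₁ + j₂ : ℕ) : ℂ) = 0 := by push_cast; linear_combination hone
    exact_mod_cast this
  have hne₁ : χ₁ ≠ fun _ => 1 := fun e => by
    rw [e, classInner_irr_self isIrrCharacter_one] at hj₁
    have : j₁ = 1 := by exact_mod_cast hj₁.symm
    omega
  have hne₂ : χ₂ ≠ fun _ => 1 := fun e => by
    rw [e, classInner_irr_self isIrrCharacter_one] at hj₂
    have : j₂ = 1 := by exact_mod_cast hj₂.symm
    omega
  have hne₁₂ : χ₁ ≠ χ₂ := fun e => by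
    rw [e, hd₂] at hd₁
    exact one_ne_zero (by linear_combination hd₁ : (1 : ℂ) = 0)
  -- scalars
  have hscal : ∀ (n : ℕ) (σ : Representation ℂ G (Fin n → ℂ)), σ.IsIrreducible →
      classInner (permChar G Ω) σ.character ≠ 0 → σ.character ≠ (fun _ => 1) →
      ((∑ g : G, φ g * σ.character g) / n) ^ 2 =
        ((k : ℂ) - mu) + (t : ℂ) * ((∑ g : G, φ g * σ.character g) / n) := by
    intro n σ hσ hin hne
    haveI := hσ
    obtain ⟨f, hf⟩ := exists_embedding ρ σ (by rw [hρ, character_eq]; exact hin)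
    obtain ⟨v, hv⟩ : ∃ v, f v ≠ 0 := by
      by_contra hall'
      simp only [not_exists, not_not] at hall'
      exact hf (Representation.IntertwiningMap.ext (LinearMap.ext hall'))
    set s := (∑ g : G, φ g * σ.character g) / (n : ℂ)
    have hAf : ∀ u, A (f u) = s • f u := by
      intro u
      rw [hcf, funEnd_intertwining, funEnd_eq_smul σ hcl, LinearMap.smul_apply, Module.End.one_apply,
        map_smul, Module.finrank_fin_fun]
    have hJf : funEnd ρ (fun _ => 1) (f v) = 0 := by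
      rw [funEnd_intertwining, funEnd_eq_smul σ (fun _ _ => rfl)]
      have h0 := classInner_irr_ne (χ := σ.character) ⟨n, σ, hσ, rfl⟩ isIrrCharacter_one hne
      simp only [classInner, map_one, mul_one, mul_eq_zero, inv_eq_zero, Nat.cast_eq_zero] at h0
      simp only [one_mul, h0.resolve_left Nat.card_pos.ne', zero_div, zero_smul, LinearMap.zero_apply,
        map_zero]
    have h := LinearMap.congr_fun hrel (f v)
    rw [Module.End.mul_apply, hAf, map_smul, hAf, LinearMap.add_apply, LinearMap.add_apply,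
      LinearMap.smul_apply, LinearMap.smul_apply, LinearMap.smul_apply, Module.End.one_apply, hAf,
      hJf, smul_zero, add_zero, smul_smul, smul_smul, ← add_smul] at h
    rw [pow_two]
    exact smul_left_injective ℂ hv h
  have hin₁ : classInner (permChar G Ω) χ₁ ≠ 0 := by
    rw [hfun, classInner_add_left, classInner_add_left, classInner_irr_self h₁,
      classInner_irr_ne isIrrCharacter_one h₁ (Ne.symm hne₁), classInner_irr_ne h₂ h₁ (Ne.symm hne₁₂)]
    norm_num
  have hin₂ : classInner (permChar G Ω) χ₂ ≠ 0 := by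
    rw [hfun, classInner_add_left, classInner_add_left, classInner_irr_self h₂,
      classInner_irr_ne isIrrCharacter_one h₂ (Ne.symm hne₂), classInner_irr_ne h₁ h₂ hne₁₂]
    norm_num
  obtain ⟨n₁, σ₁, hσ₁, rfl⟩ := h₁
  obtain ⟨n₂, σ₂, hσ₂, rfl⟩ := h₂
  haveI := hσ₁
  haveI := hσ₂
  have hn₁ : (n₁ : ℂ) = (m : ℂ) - 1 := by rw [← hd₁, Representation.char_one, Module.finrank_fin_fun]
  have hn₂ : (n₂ : ℂ) = m := by rw [← hd₂, Representation.char_one, Module.finrank_fin_fun]
  have hm0 : (m : ℂ) ≠ 0 := Nat.cast_ne_zero.mpr (by omega)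
  have hm1 : (m : ℂ) - 1 ≠ 0 := by
    rw [sub_ne_zero]
    exact fun e => by norm_cast at e; omega
  have he₁ := hscal n₁ σ₁ hσ₁ hin₁ hne₁
  have he₂ := hscal n₂ σ₂ hσ₂ hin₂ hne₂
  set r := (∑ g : G, φ g * σ₁.character g) / (n₁ : ℂ) with hr
  set s := (∑ g : G, φ g * σ₂.character g) / (n₂ : ℂ) with hs
  have htr1 : (k : ℂ) + ((m : ℂ) - 1) * r + (m : ℂ) * s = 0 := by
    have h0 : LinearMap.trace ℂ (Ω → ℂ) A = 0 := by
      rw [trace_eq_sum]
      refine Finset.sum_eq_zero fun x _ => ?_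
      rw [hA, ent_orbital, if_neg]
      rintro ⟨q, hq1, hq2⟩
      exact hb (smul_left_cancel q (hq2.trans hq1.symm))
    rw [hcf, trace_funEnd, hρ, character_eq] at h0
    simp only [hπ, mul_add, mul_one, Finset.sum_add_distrib, hφ1] at h0
    rw [hr, hs, hn₁, hn₂, mul_div_cancel₀ _ hm1, mul_div_cancel₀ _ hm0]
    exact h0
  have htr2 : (k : ℂ) ^ 2 + ((m : ℂ) - 1) * r ^ 2 + (m : ℂ) * s ^ 2 = 2 * m * k := by
    have h0 : LinearMap.trace ℂ (Ω → ℂ) (A * A) = 2 * m * k := by
      rw [trace_eq_sum]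
      simp only [hdiag, Finset.sum_const, Finset.card_univ, hn, nsmul_eq_mul]
      push_cast
      ring
    rw [hcf, trace_funEnd_sq, hρ, character_eq] at h0
    simp only [hπ, mul_add, mul_one, Finset.sum_add_distrib] at h0
    rw [sum_funEnd_sq σ₁ hcl, sum_funEnd_sq σ₂ hcl, ← Finset.sum_mul_sum, hφ1, ← hr, ← hs,
      hn₁, hn₂] at h0
    linear_combination h0
  have hneq : r ≠ s := by
    intro e
    have h2 : (2 * (m : ℂ) - 1) * s = -(k : ℂ) := by
      rw [e] at htr1
      linear_combination htr1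
    have h3 : ((k : ℂ) * (2 * m)) * ((k : ℂ) - (2 * m - 1)) = 0 := by
      rw [e] at htr2
      linear_combination (2 * (m : ℂ) - 1) * htr2 - ((2 * (m : ℂ) - 1) * s - k) * h2
    have hkpos : 0 < k := by
      haveI : Nonempty (orbit (stabilizer G a₀) b) := ⟨⟨b, mem_orbit_self b⟩⟩
      exact Nat.card_pos
    rcases mul_eq_zero.mp h3 with h4 | h4
    · exact (mul_ne_zero (Nat.cast_ne_zero.mpr hkpos.ne') (mul_ne_zero two_ne_zero hm0)) h4
    · have h5 : (k : ℤ) - (2 * m - 1) = 0 := by exact_mod_cast h4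
      omega
  have hsum : r + s = (t : ℂ) := by
    refine mul_left_cancel₀ (sub_ne_zero.mpr hneq) ?_
    linear_combination he₁ - he₂
  refine ⟨t, ?_⟩
  have hrt : r = (k : ℂ) + m * t := by
    linear_combination (-1 : ℂ) * htr1 + (m : ℂ) * hsum
  have hst : s = (t : ℂ) - ((k : ℂ) + m * t) := by linear_combination hsum - hrt
  rw [hrt, hst] at htr2
  exact_mod_cast htr2

end CfsgLib.PermSmall.Wielandt
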